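import Cfsg.Agent.Lib.Char.Virtual
import Mathlib.LinearAlgebra.Trace
import Mathlib.LinearAlgebra.Matrix.Kronecker

/-!
The character of the exterior square.
-/

set_option autoImplicit false

namespace CfsgLib.ItoPrimeDegree

open scoped Kronecker

universe u

variable {G : Type u} [Group G]

theorem isCharacter_altSquare {χ : G → ℂ} (hχ : Cfsg.IsCharacter G χ) :
    Cfsg.IsCharacter G (fun g => (χ g * χ g - χ (g * g)) / 2) := by
  classical
  obtain ⟨n, ρ, rfl⟩ := hχ
  let A : G → Matrix (Fin n) (Fin n) ℂ := fun x => LinearMap.toMatrix' (ρ x)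
  have hA : ∀ x y, A (x * y) = A x * A y := fun x y => by
    simp only [A, map_mul, Module.End.mul_eq_comp, LinearMap.toMatrix'_comp]
  have hA1 : A 1 = 1 := by simp [A]
  let K : G → Matrix (Fin n × Fin n) (Fin n × Fin n) ℂ := fun x => A x ⊗ₖ A x
  have hK : ∀ x y, K (x * y) = K x * K y := fun x y => by
    simp only [K, hA, Matrix.mul_kronecker_mul]
  let F : Matrix (Fin n × Fin n) (Fin n × Fin n) ℂ :=
    Matrix.of fun p q => if p.swap = q then 1 else 0
  have hFmul : ∀ M : Matrix (Fin n × Fin n) (Fin n × Fin n) ℂ,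
      F * M = Matrix.of fun p q => M p.swap q := fun M => by
    ext p q
    simp [F, Matrix.mul_apply, ite_mul]
  have hmulF : ∀ M : Matrix (Fin n × Fin n) (Fin n × Fin n) ℂ,
      M * F = Matrix.of fun p q => M p q.swap := fun M => by
    ext p q
    rw [Matrix.mul_apply]
    refine (Finset.sum_eq_single q.swap ?_ ?_).trans ?_
    · intro r _ hr
      have : r.swap ≠ q := fun e => hr (by rw [← e, Prod.swap_swap])
      simp [F, this]
    · simp
    · simp [F]
  have hFF : F * F = 1 := by
    rw [hFmul]
    ext p q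
    simp [F, Matrix.one_apply]
  have hFK : ∀ x, F * K x = K x * F := fun x => by
    rw [hFmul, hmulF]
    ext p q
    simp [K, Matrix.kroneckerMap_apply, mul_comm]
  let E : Matrix (Fin n × Fin n) (Fin n × Fin n) ℂ := (2 : ℂ)⁻¹ • (1 - F)
  have hEE : E * E = E := by
    simp only [E, smul_mul_assoc, mul_smul_comm, sub_mul, mul_sub, one_mul, mul_one, hFF]
    module
  have hKE : ∀ x, K x * E = E * K x := fun x => by
    simp only [E, mul_smul_comm, smul_mul_assoc, mul_sub, sub_mul, one_mul, mul_one, hFK]
  let T : Representation ℂ G (Fin n × Fin n → ℂ) :=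
    { toFun := fun x => Matrix.toLin' (K x)
      map_one' := by
        simp only [K, hA1, Matrix.one_kronecker_one, Matrix.toLin'_one]
        rfl
      map_mul' := fun x y => by rw [hK, Matrix.toLin'_mul]; rfl }
  let W : Submodule ℂ (Fin n × Fin n → ℂ) := LinearMap.range (Matrix.toLin' E)
  have hW : ∀ x, ∀ v ∈ W, T x v ∈ W := by
    rintro x _ ⟨v, rfl⟩
    refine ⟨Matrix.toLin' (K x) v, ?_⟩
    show Matrix.toLin' E (Matrix.toLin' (K x) v) = Matrix.toLin' (K x) (Matrix.toLin' E v)
    rw [← LinearMap.comp_apply, ← Matrix.toLin'_mul, ← hKE, Matrix.toLin'_mul, LinearMap.comp_apply]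
  let τ : Representation ℂ G W :=
    { toFun := fun x => (T x).restrict (hW x)
      map_one' := LinearMap.ext fun v => Subtype.ext (by simp [map_one])
      map_mul' := fun x y => LinearMap.ext fun v => Subtype.ext (by simp [map_mul]) }
  have hchar : (fun g => (ρ.character g * ρ.character g - ρ.character (g * g)) / 2) = τ.character := by
    funext x
    have hid : ∀ v ∈ W, Matrix.toLin' E v = v := by
      rintro _ ⟨v, rfl⟩
      rw [← LinearMap.comp_apply, ← Matrix.toLin'_mul, hEE]
    have h1 : τ.character x = LinearMap.trace ℂ _ (T x ∘ₗ Matrix.toLin' E) := by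
      let π : (Fin n × Fin n → ℂ) →ₗ[ℂ] W := (Matrix.toLin' E).rangeRestrict
      have e1 : T x ∘ₗ Matrix.toLin' E = (T x ∘ₗ W.subtype) ∘ₗ π := LinearMap.ext fun v => rfl
      rw [e1, LinearMap.trace_comp_comm']
      refine congrArg (LinearMap.trace ℂ W) (LinearMap.ext fun v => Subtype.ext ?_)
      exact (hid _ (hW x _ v.2)).symm
    have htr : ∀ y, ρ.character y = (A y).trace := fun y =>
      LinearMap.trace_eq_matrix_trace ℂ (Pi.basisFun ℂ (Fin n)) _
    have h2 : (F * K x).trace = ρ.character (x * x) := by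
      rw [hFmul, htr, hA]
      simp [Matrix.trace, Matrix.diag, Matrix.mul_apply, Fintype.sum_prod_type, K,
        Matrix.kroneckerMap_apply, mul_comm]
    have h3 : (K x * E).trace = (ρ.character x * ρ.character x - ρ.character (x * x)) / 2 := by
      rw [← h2, hKE, htr]
      simp only [E, smul_mul_assoc, sub_mul, one_mul, Matrix.trace_smul, Matrix.trace_sub,
        smul_eq_mul, K, Matrix.trace_kronecker]
      ring
    rw [h1, ← h3]
    show (K x * E).trace = LinearMap.trace ℂ _ (Matrix.toLin' (K x) ∘ₗ Matrix.toLin' E)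
    rw [← Matrix.toLin'_mul, Matrix.trace_toLin'_eq]
  rw [hchar]
  exact CfsgLib.Char.isCharacter_character τ

end CfsgLib.ItoPrimeDegree
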