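import Mathlib.GroupTheory.GroupAction.Primitive
import Mathlib.GroupTheory.GroupAction.Quotient
import Mathlib.GroupTheory.Perm.Basic
import Mathlib.GroupTheory.Sylow
import Mathlib.Algebra.Group.Pointwise.Set.Basic

/-!
A primitive group of degree ten and rank three with suborbits of sizes three and six: the stabiliser
has an image of order dividing six on the small suborbit, with a kernel of exponent two and order at
most eight.
-/

set_option autoImplicit false
set_option linter.style.haveILetI false

namespace CfsgLib.ItoPrimeDegree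

open MulAction
open scoped Pointwise

variable {G α : Type*} [Group G] [Finite G] [Fintype α] [MulAction G α] [FaithfulSMul G α]

theorem card_orbit_mul (a y : α) :
    Nat.card (orbit (stabilizer G a) y) * Nat.card {g : G // g • a = a ∧ g • y = y} =
      Nat.card (stabilizer G a) := by
  have h := (stabilizer (stabilizer G a) y).index_mul_card
  rw [index_stabilizer] at h
  rw [Nat.card_coe_set_eq, ← h]
  congr 1
  exact Nat.card_congr ⟨fun g => ⟨⟨g.1, g.2.1⟩, g.2.2⟩, fun g => ⟨g.1.1, g.1.2, g.2⟩,
    fun g => rfl, fun g => rfl⟩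

theorem card_stabilizer_eq [IsPretransitive G α] (a b : α) :
    Nat.card (stabilizer G a) = Nat.card (stabilizer G b) := by
  have h1 := (stabilizer G a).index_mul_card
  have h2 := (stabilizer G b).index_mul_card
  rw [index_stabilizer_of_transitive G a] at h1
  rw [index_stabilizer_of_transitive G b] at h2
  refine Nat.eq_of_mul_eq_mul_left (n := Nat.card α) ?_ (h1.trans h2.symm)
  rw [Nat.card_eq_fintype_card]
  exact Fintype.card_pos_iff.2 ⟨a⟩

/-- the orbit of `h⁻¹ • a` when `h • a = b` is as large as that of `b` -/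
theorem card_orbit_inv [IsPretransitive G α] {a b : α} {h : G} (hh : h • a = b) :
    Nat.card (orbit (stabilizer G a) (h⁻¹ • a)) = Nat.card (orbit (stabilizer G a) b) := by
  have e : Nat.card {g : G // g • a = a ∧ g • (h⁻¹ • a) = h⁻¹ • a} =
      Nat.card {g : G // g • a = a ∧ g • b = b} := by
    refine Nat.card_congr ((MulAut.conj h).toEquiv.subtypeEquiv fun g => ?_)
    show (g • a = a ∧ g • (h⁻¹ • a) = h⁻¹ • a) ↔ (h * g * h⁻¹) • a = a ∧ (h * g * h⁻¹) • b = b
    have h1 : (h * g * h⁻¹) • a = a ↔ g • (h⁻¹ • a) = h⁻¹ • a := by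
      rw [mul_smul, mul_smul]
      conv_rhs => rw [eq_inv_smul_iff]
    have h2 : (h * g * h⁻¹) • b = b ↔ g • a = a := by
      rw [← hh, mul_smul, mul_smul, inv_smul_smul, smul_left_cancel_iff]
    rw [h1, h2, and_comm]
  have k1 := card_orbit_mul (G := G) a (h⁻¹ • a)
  have k2 := card_orbit_mul (G := G) a b
  rw [e] at k1
  haveI : Nonempty {g : G // g • a = a ∧ g • b = b} := ⟨⟨1, one_smul _ _, one_smul _ _⟩⟩
  exact Nat.eq_of_mul_eq_mul_right Nat.card_pos (k1.trans k2.symm)

theorem exists_kernel_bound [IsPreprimitive G α] (hα : Fintype.card α = 10) {a b : α} (hab : b ≠ a)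
    (hb : Nat.card (orbit (stabilizer G a) b) = 3)
    (huniq : ∀ y, y ≠ a → Nat.card (orbit (stabilizer G a) y) = 3 → y ∈ orbit (stabilizer G a) b)
    (hsix : ∀ y z, y ≠ a → z ≠ a → y ∉ orbit (stabilizer G a) b → z ∉ orbit (stabilizer G a) b →
      z ∈ orbit (stabilizer G a) y) :
    ∃ L : Subgroup (stabilizer G a), L.index ∣ 6 ∧ Nat.card L ≤ 8 ∧ ∀ g ∈ L, g * g = 1 := by
  classical
  haveI : IsPretransitive G α := IsPreprimitive.toIsPretransitive
  haveI : Nontrivial α := Fintype.one_lt_card_iff_nontrivial.1 (by omega)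
  set D : Finset α := Finset.univ.filter fun y => y ∈ orbit (stabilizer G a) b with hD
  have hDmem : ∀ y, y ∈ D ↔ y ∈ orbit (stabilizer G a) b := fun y => by simp [hD]
  have hD3 : D.card = 3 := by
    rw [← hb, hD, ← Fintype.card_subtype, ← Nat.card_eq_fintype_card]
  have hbD : b ∈ D := (hDmem b).2 (mem_orbit_self b)
  have hstab : ∀ g : G, g • a = a → ∀ y ∈ D, g • y ∈ D := by
    intro g hg y hy
    rw [hDmem] at hy ⊢
    obtain ⟨k, rfl⟩ := hy
    exact ⟨⟨g, hg⟩ * k, mul_smul _ _ _⟩
  have haD : a ∉ D := by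
    rw [hDmem]
    rintro ⟨⟨k, hk⟩, hka⟩
    have : k • b = k • a := hka.trans (show a = k • a from (mem_stabilizer_iff.1 hk).symm)
    exact hab (MulAction.injective k this)
  obtain ⟨h, hh⟩ := exists_smul_eq G a b
  have hinv : h⁻¹ • a ∈ D := by
    rw [hDmem]
    refine huniq _ ?_ ((card_orbit_inv hh).trans hb)
    rw [ne_eq, inv_smul_eq_iff, hh]
    exact hab.symm
  have himg : ∀ k k' : G, k • a = k' • a → D.image (k • ·) = D.image (k' • ·) := by
    intro k k' hk
    refine Finset.eq_of_subset_of_card_le ?_ (by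
      rw [Finset.card_image_of_injective _ (MulAction.injective k),
        Finset.card_image_of_injective _ (MulAction.injective k')])
    intro x hx
    obtain ⟨d, hd, rfl⟩ := Finset.mem_image.1 hx
    refine Finset.mem_image.2 ⟨(k'⁻¹ * k) • d, hstab _ ?_ d hd, ?_⟩
    · rw [mul_smul, inv_smul_eq_iff, hk]
    · rw [← mul_smul, mul_inv_cancel_left]
  set Q : Finset α := insert a D with hQ
  have hQ4 : Q.card = 4 := by rw [hQ, Finset.card_insert_of_notMem haD, hD3]
  -- some neighbour of `b` is far from `a`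
  obtain ⟨y, hy, hyQ⟩ : ∃ y ∈ D, h • y ∉ Q := by
    by_contra hc
    push Not at hc
    set M := stabilizer G (Q : Set α) with hM
    have hsub : ∀ g : G, (∀ x ∈ Q, g • x ∈ Q) → g ∈ M := by
      intro g hg
      have he : Q.image (g • ·) = Q := Finset.eq_of_subset_of_card_le
        (fun x hx => by obtain ⟨d, hd, rfl⟩ := Finset.mem_image.1 hx; exact hg d hd)
        (by rw [Finset.card_image_of_injective _ (MulAction.injective g)])
      rw [hM, mem_stabilizer_iff]
      conv_rhs => rw [← he]
      rw [Finset.coe_image]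
      rfl
    have hle : stabilizer G a ≤ M := fun g hg => hsub g fun x hx => by
      rcases Finset.mem_insert.1 hx with rfl | hx
      · rw [mem_stabilizer_iff.1 hg]; exact Finset.mem_insert_self _ _
      · exact Finset.mem_insert_of_mem (hstab g hg x hx)
    have hhM : h ∈ M := hsub h fun x hx => by
      rcases Finset.mem_insert.1 hx with rfl | hx
      · rw [hh]; exact Finset.mem_insert_of_mem hbD
      · exact hc x hx
    have hcoatom : IsCoatom (stabilizer G a) :=
      IsPreprimitive.isCoatom_stabilizer_of_isPreprimitive G a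
    have hlt : stabilizer G a < M := lt_of_le_of_ne hle fun e => hab (by
      rw [← hh]; exact mem_stabilizer_iff.1 (e ▸ hhM))
    have htop := hcoatom.2 M hlt
    have : Q = Finset.univ := Finset.eq_univ_iff_forall.2 fun x => by
      obtain ⟨g, rfl⟩ := exists_smul_eq G a x
      have hg : g ∈ M := htop ▸ Subgroup.mem_top g
      rw [hM, mem_stabilizer_iff] at hg
      have : g • a ∈ g • (Q : Set α) := Set.smul_mem_smul_set (Finset.mem_coe.2 (Finset.mem_insert_self _ _))
      rw [hg] at this
      exact this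
    rw [this, Finset.card_univ, hα] at hQ4
    omega
  -- every far point is next to a near one
  have hcover : ∀ w, w ∉ Q → ∃ g : G, g • a = a ∧ w ∈ D.image ((g * h) • ·) := by
    intro w hw
    simp only [hQ, Finset.mem_insert, not_or] at hw hyQ
    obtain ⟨g, hg⟩ := hsix (h • y) w hyQ.1 hw.1 (fun h' => hyQ.2 ((hDmem _).2 h'))
      (fun h' => hw.2 ((hDmem _).2 h'))
    refine ⟨g, g.2, Finset.mem_image.2 ⟨y, hy, ?_⟩⟩
    show ((g : G) * h) • y = w
    rw [mul_smul]; exact hg
  -- a representative for each near point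
  have hrep : ∀ d : D, ∃ g : G, g • a = a ∧ g • b = (d : α) := fun d => by
    obtain ⟨g, hg⟩ := (hDmem d).1 d.2
    exact ⟨g, g.2, hg⟩
  choose r hra hrb using hrep
  let U : D → Finset α := fun d => (D.image ((r d * h) • ·)).erase a
  have hUa : ∀ d : D, a ∈ D.image ((r d * h) • ·) := fun d => Finset.mem_image.2
    ⟨h⁻¹ • a, hinv, by rw [mul_smul, smul_inv_smul, hra]⟩
  have hU2 : ∀ d, (U d).card = 2 := fun d => by
    rw [Finset.card_erase_of_mem (hUa d), Finset.card_image_of_injective _ (MulAction.injective _), hD3]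
  choose u hu using fun d : D => Finset.card_pos.1 (show 0 < (U d).card by rw [hU2 d]; norm_num)
  let φ : stabilizer G a →* Equiv.Perm D :=
    { toFun := fun g =>
        { toFun := fun d => ⟨(g : G) • (d : α), hstab _ g.2 _ d.2⟩
          invFun := fun d => ⟨(g : G)⁻¹ • (d : α), hstab _ (inv_smul_eq_iff.2 g.2.symm) _ d.2⟩
          left_inv := fun d => Subtype.ext (inv_smul_smul _ _)
          right_inv := fun d => Subtype.ext (smul_inv_smul _ _) }
      map_one' := Equiv.ext fun d => Subtype.ext (one_smul G (d : α))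
      map_mul' := fun g g' => Equiv.ext fun d => Subtype.ext (mul_smul (g : G) (g' : G) (d : α)) }
  refine ⟨φ.ker, ?_, ?_, ?_⟩
  · rw [Subgroup.index_ker]
    refine φ.range.card_subgroup_dvd_card.trans ?_
    rw [Nat.card_eq_fintype_card, Fintype.card_perm, Fintype.card_coe, hD3]
    rfl
  all_goals
    have hfixD : ∀ g ∈ φ.ker, ∀ d ∈ D, (g : G) • d = d := fun g hg d hd => by
      have := congrArg (fun π : Equiv.Perm D => ((π ⟨d, hd⟩ : D) : α)) (MonoidHom.mem_ker.1 hg)
      exact this
    have hpres : ∀ g ∈ φ.ker, ∀ d, ∀ w ∈ U d, (g : G) • w ∈ U d := by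
      intro g hg d w hw
      rw [Finset.mem_erase] at hw ⊢
      refine ⟨fun e => hw.1 (MulAction.injective (g : G) (e.trans (g.2 :).symm)), ?_⟩
      rw [← himg ((g : G) * (r d * h)) (r d * h) ?_]
      · obtain ⟨x, hx, rfl⟩ := Finset.mem_image.1 hw.2
        exact Finset.mem_image.2 ⟨x, hx, mul_smul _ _ _⟩
      · have e : (r d * h) • a = (d : α) := by rw [mul_smul, hh, hrb]
        rw [mul_smul, e, hfixD g hg _ d.2]
    have hcov : ∀ w, w ∉ Q → ∃ d, w ∈ U d := by
      intro w hw
      obtain ⟨g, hga, hgw⟩ := hcover w hw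
      refine ⟨⟨g • b, hstab g hga b hbD⟩, Finset.mem_erase.2 ⟨fun e => hw (e ▸ Finset.mem_insert_self _ _), ?_⟩⟩
      rw [← himg (g * h) _ ?_]
      · exact hgw
      · rw [mul_smul, hh, mul_smul, hh, hrb]
    have hfixQ : ∀ g ∈ φ.ker, ∀ x ∈ Q, (g : G) • x = x := fun g hg x hx => by
      rcases Finset.mem_insert.1 hx with rfl | hx
      · exact g.2
      · exact hfixD g hg x hx
    have htwo : ∀ d, ∀ x ∈ U d, ∀ w ∈ U d, ∀ z ∈ U d, x ≠ w → z ≠ w → z = x := by
      intro d x hx w hw z hz h1 h2
      obtain ⟨s, t, hst, he⟩ := Finset.card_eq_two.1 (hU2 d)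
      rw [he, Finset.mem_insert, Finset.mem_singleton] at hx hw hz
      rcases hx with rfl | rfl <;> rcases hw with rfl | rfl <;> rcases hz with rfl | rfl <;>
        first | rfl | exact absurd rfl h1 | exact absurd rfl h2
  · let ι : φ.ker → D → Bool := fun g d => decide (((g : stabilizer G a) : G) • u d = u d)
    refine (Nat.card_le_card_of_injective ι ?_).trans (le_of_eq ?_)
    · intro g g' hgg
      refine Subtype.ext (Subtype.ext (eq_of_smul_eq_smul fun x : α => ?_))
      by_cases hx : x ∈ Q
      · rw [hfixQ _ g.2 x hx, hfixQ _ g'.2 x hx]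
      obtain ⟨d, hxd⟩ := hcov x hx
      have hd := congrFun hgg d
      simp only [ι, decide_eq_decide] at hd
      rcases eq_or_ne x (u d) with rfl | hne
      · by_cases h1 : ((g : stabilizer G a) : G) • u d = u d
        · rw [h1, hd.1 h1]
        · exact htwo d _ (hpres _ g'.2 d _ hxd) (u d) hxd _ (hpres _ g.2 d _ hxd)
            (fun e => h1 (hd.2 e)) h1
      · by_cases h1 : ((g : stabilizer G a) : G) • u d = u d
        · have h2 := hd.1 h1
          rw [htwo d x hxd (u d) (hu d) _ (hpres _ g.2 d _ hxd) hne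
              (fun e => hne (MulAction.injective ((g : stabilizer G a) : G) (e.trans h1.symm))),
            htwo d x hxd (u d) (hu d) _ (hpres _ g'.2 d _ hxd) hne
              (fun e => hne (MulAction.injective ((g' : stabilizer G a) : G) (e.trans h2.symm)))]
        · have h2 : ((g' : stabilizer G a) : G) • u d ≠ u d := fun e => h1 (hd.2 e)
          have e1 := htwo d x hxd (u d) (hu d) _ (hpres _ g.2 d _ (hu d)) hne h1
          have e2 := htwo d x hxd (u d) (hu d) _ (hpres _ g'.2 d _ (hu d)) hne h2
          rw [htwo d (u d) (hu d) x hxd _ (hpres _ g.2 d _ hxd) hne.symm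
              (fun e => hne (MulAction.injective ((g : stabilizer G a) : G) (e.trans e1.symm))),
            htwo d (u d) (hu d) x hxd _ (hpres _ g'.2 d _ hxd) hne.symm
              (fun e => hne (MulAction.injective ((g' : stabilizer G a) : G) (e.trans e2.symm)))]
    · rw [Nat.card_eq_fintype_card, Fintype.card_fun, Fintype.card_bool, Fintype.card_coe, hD3]
      rfl
  · intro g hg
    refine Subtype.ext (eq_of_smul_eq_smul fun x : α => ?_)
    show ((g : G) * (g : G)) • x = (1 : G) • x
    rw [one_smul, mul_smul]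
    by_cases hx : x ∈ Q
    · rw [hfixQ g hg x hx, hfixQ g hg x hx]
    obtain ⟨d, hxd⟩ := hcov x hx
    rcases eq_or_ne ((g : G) • x) x with h1 | h1
    · rw [h1, h1]
    · exact htwo d x hxd _ (hpres g hg d x hxd) _ (hpres g hg d _ (hpres g hg d x hxd)) h1.symm
        (fun e => h1 (MulAction.injective (g : G) e))

end CfsgLib.ItoPrimeDegree
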