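import Cfsg.Agent.Lib.ItoPrimeDegree.Formula
import Cfsg.Agent.Lib.PermChar.WielandtType
import Cfsg.Agent.Lib.Perm.Basic
import Mathlib.GroupTheory.Transfer

/-!
Primitive groups of degree `2p` that are not doubly transitive with Sylow normaliser of order `2p`:
the permutation character.
-/

set_option autoImplicit false
set_option linter.style.haveILetI false

open scoped ComplexConjugate

namespace CfsgLib.ItoPrimeDegree

open MulAction CfsgLib.SmallOrder

universe u v

variable {G : Type u} [Group G] [Fintype G] {α : Type v} [Fintype α] [MulAction G α]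
  [FaithfulSMul G α] {p : ℕ} [Fact p.Prime]

theorem norm_cosSum_le (i : ZMod p) : ‖cosSum i‖ ≤ 2 := by
  refine (norm_add_le _ _).trans ?_
  rw [ZMod.stdAddChar_apply, ZMod.stdAddChar_apply, Circle.norm_coe, Circle.norm_coe]
  norm_num

theorem dvd_card_of_normal [IsPreprimitive G α] (hα : Fintype.card α = 2 * p) {N : Subgroup G}
    [N.Normal] (hN : N ≠ ⊥) : 2 * p ∣ Nat.card N := by
  haveI := Perm.isPretransitive_of_normal (α := α) N hN
  obtain ⟨a⟩ : Nonempty α := Fintype.card_pos_iff.1 (by rw [hα]; have := (Fact.out : p.Prime).pos; omega)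
  rw [← hα, ← Nat.card_eq_fintype_card (α := α), ← index_stabilizer_of_transitive N a]
  exact Subgroup.index_dvd_card _

theorem card_sylow_eq_prime [IsPretransitive G α] (hα : Fintype.card α = 2 * p) (hp : 2 < p)
    (P : Sylow p G) (hN : Nat.card (Subgroup.normalizer ((P : Subgroup G) : Set G)) = 2 * p) :
    Nat.card ↥(P : Subgroup G) = p := by
  have hpp : p.Prime := Fact.out
  obtain ⟨a⟩ : Nonempty α := Fintype.card_pos_iff.1 (by rw [hα]; omega)
  have hd : p ∣ Nat.card G := by
    refine (Dvd.intro_left 2 rfl).trans ?_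
    rw [← hα, ← Nat.card_eq_fintype_card (α := α), ← index_stabilizer_of_transitive G a]
    exact Subgroup.index_dvd_card _
  have h1 : p ∣ Nat.card ↥(P : Subgroup G) := by
    rw [P.card_eq_multiplicity]
    exact dvd_pow_self p (hpp.factorization_pos_of_dvd Nat.card_pos.ne' hd).ne'
  obtain ⟨k, hk⟩ := P.isPGroup'.exists_card_eq
  rcases k with _ | _ | k
  · rw [hk, pow_zero] at h1; exact absurd h1 hpp.not_dvd_one
  · rwa [pow_one] at hk
  · exfalso
    have h2 : Nat.card ↥(P : Subgroup G) ∣ 2 * p := hN ▸ Subgroup.card_dvd_of_le Subgroup.le_normalizer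
    rw [hk] at h2
    have h3 : p * p ∣ 2 * p := (Dvd.intro (p ^ k) (by ring)).trans h2
    have := Nat.le_of_dvd two_pos (Nat.dvd_of_mul_dvd_mul_right hpp.pos h3)
    omega

theorem card_stabilizer_mul [IsPretransitive G α] (hα : Fintype.card α = 2 * p) (a : α) :
    2 * p * Nat.card (stabilizer G a) = Nat.card G := by
  rw [← hα, ← Nat.card_eq_fintype_card (α := α), ← index_stabilizer_of_transitive G a,
    Subgroup.index_mul_card]

/-- the character data of such a group -/
theorem perm_data [hprim : IsPreprimitive G α] (hα : Fintype.card α = 2 * p) (hp : 3 < p)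
    (hnot2 : ¬ IsMultiplyPretransitive G α 2) (P : Sylow p G)
    (hN : Nat.card (Subgroup.normalizer ((P : Subgroup G) : Set G)) = 2 * p) (a₀ : α) :
    (∃ χ₁ χ₂ : G → ℂ, Cfsg.IsIrrCharacter G χ₁ ∧ Cfsg.IsIrrCharacter G χ₂ ∧
      ((fun g : G => (Nat.card (fixedBy α g) : ℂ)) = fun g => 1 + χ₁ g + χ₂ g) ∧
      χ₁ 1 = (p : ℂ) - 1 ∧ χ₂ 1 = p) ∧
      Nat.card (orbitRel.Quotient (stabilizer G a₀) α) = 3 ∧
      (7 ≤ p → Nat.card G = p * (p - 1) * (p - 2)) := by
  classical
  have hpp : p.Prime := Fact.out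
  have hp5 : 5 ≤ p := by
    rcases Nat.lt_or_ge p 5 with h | h
    · exact absurd ((show p = 4 by omega) ▸ hpp) (by decide)
    · exact h
  haveI : IsPretransitive G α := hprim.toIsPretransitive
  haveI : Nonempty α := ⟨a₀⟩
  haveI : Nontrivial α := Fintype.one_lt_card_iff_nontrivial.1 (by omega)
  have hP := card_sylow_eq_prime hα (by omega) P hN
  obtain ⟨S⟩ := exists_csplit P hP
  -- `P` is self-centralising, inverted in its normaliser
  have hmul : Nat.card S.V * Nat.card S.act.range = 2 := by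
    have h := S.card_normalizer
    rw [hN, mul_assoc, mul_comm 2 p] at h
    exact (Nat.eq_of_mul_eq_mul_left hpp.pos h).symm
  have he : Nat.card S.act.range = 2 := by
    rcases (Nat.dvd_prime Nat.prime_two).1 (Dvd.intro_left _ hmul) with h | h
    · exfalso
      have hle : Subgroup.normalizer ((P : Subgroup G) : Set G) ≤
          Subgroup.centralizer ((P : Subgroup G) : Set G) := by
        refine le_of_eq (Subgroup.eq_of_le_of_card_ge (Subgroup.centralizer_le_normalizer _) ?_).symm
        rw [S.card_centralizer, S.card_normalizer, h, mul_one]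
      haveI : IsCyclic ↥(P : Subgroup G) := isCyclic_of_prime_card hP
      have hcompl := MonoidHom.ker_transferSylow_isComplement' P hle
      have hnd := MonoidHom.not_dvd_card_ker_transferSylow P hle
      by_cases hb : (MonoidHom.transferSylow P hle).ker = ⊥
      · have hc := hcompl.card_mul
        rw [hb, Subgroup.card_bot, one_mul, hP] at hc
        have := card_stabilizer_mul (G := G) hα a₀
        rw [← hc] at this
        have h1 : 0 < Nat.card (stabilizer G a₀) := Nat.card_pos
        nlinarith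
      · exact hnd ((Dvd.intro_left 2 rfl).trans (dvd_card_of_normal hα hb))
    · exact h
  have hV : Nat.card S.V = 1 := by
    rw [he] at hmul; omega
  obtain ⟨T⟩ := exists_star S he hp5
  letI : Fintype S.Orb := Fintype.ofFinite _
  have hcard : 2 * Fintype.card S.Orb = p - 1 := by
    have h := Subgroup.index_mul_card S.act.range
    rw [he, Subgroup.index_eq_card] at h
    rw [← Nat.card_eq_fintype_card (α := S.Orb)]
    have hu : Nat.card (ZMod p)ˣ = p - 1 := by rw [Nat.card_eq_fintype_card, ZMod.card_units]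
    rw [hu] at h
    rw [mul_comm]; exact h
  set one : Cfsg.IrrCharacter G := Char.principalIrr
  have hm1 : PermChar.mult α one.1 = 1 := PermChar.mult_principal (G := G) (Ω := α)
  set m : Cfsg.IrrCharacter G → ℕ := fun χ => PermChar.mult α χ.1 with hmdef
  have hfix0 : ∀ i : ZMod p, i ≠ 0 → ∀ c : α, zpw S.z i • c ≠ c := by
    intro i hi c hc
    have h1 : p ∣ Nat.card (stabilizer G c) := by
      rw [← Star.orderOf_zpw S hi]
      exact Subgroup.orderOf_dvd_natCard _ hc
    have h2 : p * p ∣ Nat.card G := by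
      rw [← card_stabilizer_mul (G := G) hα c]
      exact mul_dvd_mul (Dvd.intro_left 2 rfl) h1
    rw [← pow_two, hpp.pow_dvd_iff_le_factorization Nat.card_pos.ne'] at h2
    have h3 := P.card_eq_multiplicity
    rw [hP] at h3
    have h4 : (Nat.card G).factorization p = 1 :=
      (Nat.pow_right_injective hpp.two_le (h3.symm.trans (pow_one p).symm))
    omega
  have hπ : ∀ g : G, (Nat.card (fixedBy α g) : ℂ) = ∑ χ : Cfsg.IrrCharacter G, (m χ : ℂ) * χ.1 g := by
    intro g
    have h := congrFun (PermChar.piFun_eq_sum (G := G) (Ω := α)) g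
    simp only [Finset.sum_apply, Pi.smul_apply, smul_eq_mul] at h
    exact h
  have hrel : ∀ o, -1 + T.ε * (m T.σ : ℤ) + T.δ * (m (T.μ o) : ℤ) = 0 := by
    intro o
    have hS : ∀ (f : G → ℂ) (i : ZMod p), S.Ssum f i = f (zpw S.z i) := fun f i => by
      rw [CSplit.Ssum, finsum_eq_single _ (1 : S.V) fun v hv => absurd (Subtype.ext
        (Subgroup.mem_bot.1 (Subgroup.card_eq_one.1 hV ▸ v.2))) hv]
      simp
    have h := S.sum_mul_vec (fun χ => (m χ : ℂ)) 0 (fun i hi => by
      simp only [hS]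
      rw [← hπ, Nat.cast_eq_zero]
      have : IsEmpty (fixedBy α (zpw S.z i)) := ⟨fun c => hfix0 i hi c.1 c.2⟩
      exact Nat.card_of_isEmpty) o
    rw [neg_zero, zero_div, T.sum_vec, show (m one : ℂ) = 1 by rw [hmdef]; simp [hm1]] at h
    have : ((-1 + T.ε * (m T.σ : ℤ) + T.δ * (m (T.μ o) : ℤ) : ℤ) : ℂ) = ((0 : ℤ) : ℂ) := by
      push_cast; linear_combination h
    exact_mod_cast this
  obtain ⟨o0⟩ : Nonempty S.Orb := ⟨QuotientGroup.mk 1⟩
  set dσ := Char.degree T.σ.1 with hdσ
  set dμ := Char.degree (T.μ o0).1 with hdμ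
  have hdμall : ∀ o, Char.degree (T.μ o).1 = dμ := fun o => by
    have h1 := T.degree_eq o
    have h2 := T.degree_eq o0
    rcases T.hδ with h | h <;> rw [h] at h1 h2 <;> omega
  set X : Finset (Cfsg.IrrCharacter G) := insert one (insert T.σ (Finset.univ.image T.μ)) with hX
  have hn1 : one ∉ insert T.σ (Finset.univ.image T.μ) := by
    simp only [Finset.mem_insert, Finset.mem_image, Finset.mem_univ, true_and, not_or, not_exists]
    exact ⟨T.σ_ne.symm, fun o h => T.μ_ne o h⟩
  have hn2 : T.σ ∉ Finset.univ.image T.μ := by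
    simp only [Finset.mem_image, Finset.mem_univ, true_and, not_exists]
    exact fun o h => T.μ_ne_σ o h
  have hsplit : ∀ {M : Type} [AddCommMonoid M] (F : Cfsg.IrrCharacter G → M),
      ∑ χ, F χ = (∑ χ ∈ Finset.univ \ X, F χ) + (F one + (F T.σ + ∑ o, F (T.μ o))) := by
    intro M _ F
    rw [← Finset.sum_sdiff (Finset.subset_univ X), hX, Finset.sum_insert hn1, Finset.sum_insert hn2,
      Finset.sum_image fun x _ y _ h => T.inj h]
  have hother : ∀ χ ∈ Finset.univ \ X, p ∣ Char.degree χ.1 := by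
    intro χ hχ
    simp only [hX, Finset.mem_sdiff, Finset.mem_univ, true_and, Finset.mem_insert, Finset.mem_image,
      not_or, not_exists] at hχ
    exact T.degree_other hV hχ.1 hχ.2.1 fun o h => hχ.2.2 o h.symm
  have hsum := PermChar.sum_mult_degree (G := G) (Ω := α)
  rw [hα, hsplit, show Char.degree one.1 = 1 from CharTools.charDegree_principal (G := G), hm1, mul_one]
    at hsum
  simp only [hdμall] at hsum
  change (∑ χ ∈ Finset.univ \ X, m χ * Char.degree χ.1) + (1 + (m T.σ * dσ + ∑ o, m (T.μ o) * dμ)) =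
    2 * p at hsum
  have hrank := PermChar.sum_mult_sq (G := G) (Ω := α) a₀
  rw [hsplit, hm1, mul_one] at hrank
  change (∑ χ ∈ Finset.univ \ X, m χ * m χ) + (1 + (m T.σ * m T.σ + ∑ o, m (T.μ o) * m (T.μ o))) = _
    at hrank
  have hnot : Nat.card (orbitRel.Quotient (stabilizer G a₀) α) ≠ 2 := by
    intro h
    rw [← PermChar.numOrbitals_eq] at h
    refine hnot2 (is_two_pretransitive_iff.2 fun hab hcd => ?_)
    exact CfsgLib.PermDerange.pretransitive_pairs_of_numOrbitals h _ _ _ _ hab hcd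
  -- an exceptional character is faithful once its degree is known
  have hfaith : (∀ i : ZMod p, i ≠ 0 → ∀ o, (T.μ o).1 (zpw S.z i) ≠ (T.μ o).1 1) →
      ∀ o g, (T.μ o).1 g = (T.μ o).1 1 → g = 1 := by
    intro hz o g hg
    obtain ⟨K, hKn, hK, -⟩ := CharTools.exists_kernel (Char.IsIrrCharacter.isCharacter (T.μ o).2)
    haveI := hKn
    by_contra hg1
    have hKb : K ≠ ⊥ := fun h => hg1 (Subgroup.mem_bot.1 (h ▸ (hK g).2 hg))
    obtain ⟨y, hy⟩ := exists_prime_orderOf_dvd_card' (G := K) p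
      ((Dvd.intro_left 2 rfl).trans (dvd_card_of_normal hα hKb))
    obtain ⟨x, i, hi, hxi⟩ := Star.exists_conj_zpw S hV (g := (y : G))
      (by rw [Subgroup.orderOf_coe, hy])
    refine hz i hi o ((hK _).1 ?_)
    have := hKn.conj_mem _ y.2 x⁻¹
    rw [hxi] at this
    simpa [mul_assoc] using this
  have hrest : ∀ χ ∈ Finset.univ \ X, m χ * Char.degree χ.1 = 0 → m χ = 0 := fun χ _ h =>
    (mul_eq_zero.1 h).resolve_right (Char.IsIrrCharacter.degree_pos χ.2).ne'
  have hde := T.degree_eq o0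
  have hpos1 := Char.IsIrrCharacter.degree_pos T.σ.2
  have hpos2 := Char.IsIrrCharacter.degree_pos (T.μ o0).2
  rw [← hdσ] at hpos1 hde
  rw [← hdμ] at hpos2 hde
  rcases T.hε with hε | hε <;> rcases T.hδ with hδ | hδ <;> rw [hε, hδ] at hde
  · omega
  swap
  · exfalso
    -- exceptional degree two
    simp only [hε, hδ] at hrel
    have hmo : ∀ o, m (T.μ o) = m T.σ + 1 := fun o => by have := hrel o; omega
    simp only [hmo, Finset.sum_const, Finset.card_univ, smul_eq_mul] at hsum
    have hmod : (dμ : ZMod p) = ((2 : ℕ) : ZMod p) := by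
      rw [hdμ, T.degree_μ hV he o0, hδ]; norm_num
    rw [ZMod.natCast_eq_natCast_iff'] at hmod
    rw [Nat.mod_eq_of_lt (show 2 < p by omega)] at hmod
    have hlt : dμ < p := by
      have h1 : Fintype.card S.Orb * dμ ≤ Fintype.card S.Orb * ((m T.σ + 1) * dμ) :=
        Nat.mul_le_mul_left _ (Nat.le_mul_of_pos_left _ (by omega))
      have h2 : 2 * dμ ≤ Fintype.card S.Orb * dμ := Nat.mul_le_mul_right _ (by omega)
      omega
    rw [Nat.mod_eq_of_lt hlt] at hmod
    have hσ1 : dσ = 1 := by omega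
    have hfa := hfaith fun i hi o => by
      obtain ⟨u, rfl⟩ := QuotientGroup.mk_surjective o
      rw [T.μ_zpw hV he (by omega) u hi,
        ← Char.IsCharacter.degree_cast (Char.IsIrrCharacter.isCharacter (T.μ (QuotientGroup.mk u)).2),
        hdμall, hmod, hδ]
      simpa using cosSum_ne_two (p := p) (by omega) (mul_ne_zero hi (Units.ne_zero u))
    obtain ⟨N, hNn, hNmem, -⟩ := CharTools.exists_kernel (Char.IsIrrCharacter.isCharacter T.σ.2)
    haveI := hNn
    have hσd : T.σ.1 1 = 1 := by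
      rw [← Char.IsCharacter.degree_cast (Char.IsIrrCharacter.isCharacter T.σ.2), ← hdσ, hσ1, Nat.cast_one]
    have hzN : zpw S.z (1 : ZMod p) ∈ N := by
      rw [hNmem, T.σ_zpw hV one_ne_zero, hσd, hε]; norm_num
    have hNb : N ≠ ⊥ := fun h => by
      rw [h, Subgroup.mem_bot] at hzN
      have := Star.orderOf_zpw S (i := (1 : ZMod p)) one_ne_zero
      rw [hzN, orderOf_one] at this
      exact hpp.one_lt.ne this
    obtain ⟨y, hy⟩ := exists_prime_orderOf_dvd_card' (G := N) 2
      ((Dvd.intro p rfl).trans (dvd_card_of_normal hα hNb))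
    have hyo : orderOf (y : G) = 2 := by rw [Subgroup.orderOf_coe, hy]
    have hr := T.regular hV o0 (y := (y : G)) (by
      rw [hyo]; exact fun h => absurd (Nat.le_of_dvd two_pos h) (by omega))
    rw [(hNmem _).1 y.2, hσd, hε, hδ] at hr
    push_cast at hr
    have hy1 : (y : G) = 1 := hfa o0 _ (by
      rw [← Char.IsCharacter.degree_cast (Char.IsIrrCharacter.isCharacter (T.μ o0).2), ← hdμ, hmod,
        Nat.cast_two]
      linear_combination hr)
    rw [hy1, orderOf_one] at hyo
    omega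
  swap
  · omega
  -- exceptional degree `p - 2`
  simp only [hε, hδ] at hrel
  have hmo : ∀ o, m (T.μ o) + 1 = m T.σ := fun o => by have := hrel o; omega
  have hmo0 : ∀ o, m (T.μ o) = m (T.μ o0) := fun o => by have := hmo o; have := hmo o0; omega
  simp only [hmo0, Finset.sum_const, Finset.card_univ, smul_eq_mul] at hsum hrank
  have hmodσ : p ∣ dσ + 1 := by
    rw [← ZMod.natCast_eq_zero_iff, Nat.cast_add, hdσ, T.degree_σ hV he, hε]
    norm_num
  have hm0 : m (T.μ o0) = 0 := by
    by_contra hne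
    have h1 : 2 ≤ m T.σ := by have := hmo o0; omega
    have h2 := Nat.le_of_dvd (by omega) hmodσ
    have h3 : 2 * dσ ≤ m T.σ * dσ := Nat.mul_le_mul_right _ h1
    have h4 : 2 * dμ ≤ Fintype.card S.Orb * (m (T.μ o0) * dμ) :=
      Nat.mul_le_mul (by omega) (Nat.le_mul_of_pos_left _ (Nat.pos_of_ne_zero hne))
    omega
  have hmσ : m T.σ = 1 := by have := hmo o0; omega
  rw [hm0, hmσ] at hsum hrank
  simp only [mul_one, one_mul, zero_mul, mul_zero, add_zero] at hsum hrank
  have hpne : ∑ χ ∈ Finset.univ \ X, m χ * Char.degree χ.1 ≠ 0 := by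
    intro h0
    have hz : ∑ χ ∈ Finset.univ \ X, m χ * m χ = 0 := Finset.sum_eq_zero fun χ hχ => by
      rw [hrest χ hχ (Finset.sum_eq_zero_iff.1 h0 χ hχ), zero_mul]
    omega
  obtain ⟨ψ, hψ, hψne⟩ := Finset.exists_ne_zero_of_sum_ne_zero hpne
  rw [← Finset.add_sum_erase _ _ hψ] at hsum hrank
  have hψp : p ≤ Char.degree ψ.1 := Nat.le_of_dvd (Char.IsIrrCharacter.degree_pos ψ.2) (hother ψ hψ)
  have hψm : 1 ≤ m ψ := Nat.one_le_iff_ne_zero.2 fun h => hψne (by rw [h, zero_mul])
  have hσp := Nat.le_of_dvd (by omega) hmodσ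
  have h5 : m ψ * Char.degree ψ.1 = p ∧ dσ + 1 = p ∧
      ∑ χ ∈ (Finset.univ \ X).erase ψ, m χ * Char.degree χ.1 = 0 := by
    have h6 : p ≤ m ψ * Char.degree ψ.1 := hψp.trans (Nat.le_mul_of_pos_left _ hψm)
    omega
  have hψd : Char.degree ψ.1 = p ∧ m ψ = 1 := by
    have h6 : Char.degree ψ.1 ≤ p := h5.1 ▸ Nat.le_mul_of_pos_left _ hψm
    have h7 : Char.degree ψ.1 = p := by omega
    refine ⟨h7, ?_⟩
    have h8 := h5.1
    rw [h7] at h8
    exact (Nat.mul_eq_right hpp.ne_zero).1 h8
  have hzero : ∀ χ ∈ (Finset.univ \ X).erase ψ, m χ = 0 := fun χ hχ =>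
    hrest χ (Finset.mem_of_mem_erase hχ) (Finset.sum_eq_zero_iff.1 h5.2.2 χ hχ)
  have hdμp : dμ = p - 2 := by omega
  refine ⟨⟨T.σ.1, ψ.1, T.σ.2, ψ.2, ?_, ?_, ?_⟩, ?_, fun hp7 => ?_⟩
  · funext g
    rw [hπ, hsplit, ← Finset.add_sum_erase _ _ hψ]
    rw [Finset.sum_eq_zero (s := (Finset.univ \ X).erase ψ) fun χ hχ => by
      rw [hzero χ hχ, Nat.cast_zero, zero_mul]]
    simp only [hmo0, hm0, hmσ, hψd.2, show m one = 1 from hm1, one, Char.principalIrr_apply,
      Nat.cast_one, Nat.cast_zero, one_mul, zero_mul, Finset.sum_const_zero, add_zero]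
    ring
  · rw [← Char.IsCharacter.degree_cast (Char.IsIrrCharacter.isCharacter T.σ.2), ← hdσ,
      show (p : ℂ) - 1 = ((p - 1 : ℕ) : ℂ) by rw [Nat.cast_sub hpp.one_le, Nat.cast_one]]
    congr 1
    omega
  · rw [← Char.IsCharacter.degree_cast (Char.IsIrrCharacter.isCharacter ψ.2), hψd.1]
  · rw [Finset.sum_eq_zero (s := (Finset.univ \ X).erase ψ) fun χ hχ => by rw [hzero χ hχ, zero_mul],
      hψd.2] at hrank
    omega
  · refine T.card_eq hV he hp7 hε hδ (fun o => (hdμall o).trans hdμp) (hfaith fun i hi o => ?_)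
    intro h
    obtain ⟨u, rfl⟩ := QuotientGroup.mk_surjective o
    rw [T.μ_zpw hV he (by omega) u hi,
      ← Char.IsCharacter.degree_cast (Char.IsIrrCharacter.isCharacter (T.μ (QuotientGroup.mk u)).2),
      hdμall, hdμp, hδ] at h
    have h1 := congrArg (fun z : ℂ => ‖z‖) h
    simp only [Int.cast_neg, Int.cast_one, neg_mul, one_mul, norm_neg, Complex.norm_natCast] at h1
    have h2 : ((p - 2 : ℕ) : ℝ) ≤ ((2 : ℕ) : ℝ) := by
      push_cast
      exact h1 ▸ norm_cosSum_le _
    have h3 : p - 2 ≤ 2 := by exact_mod_cast h2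
    omega

end CfsgLib.ItoPrimeDegree
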