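import Cfsg.Agent.Lib.ItoPrimeDegree.DegreeTwoP
import Cfsg.Agent.Lib.ItoPrimeDegree.DegreeTen
import Cfsg.Agent.Lib.LeastNonPClosed.Bound
import Cfsg.Agent.Lib.Present.BinIcosahedral

/-!
Primitive groups of degree `2p` that are not doubly transitive with Sylow normaliser of order `2p`.
-/

set_option autoImplicit false
set_option linter.style.haveILetI false

namespace CfsgLib.ItoPrimeDegree

open MulAction CfsgLib.SmallOrder

universe u v

variable {G : Type u} [Group G] [Fintype G] {α : Type v} [Fintype α] [MulAction G α]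
  [FaithfulSMul G α] {p : ℕ} [Fact p.Prime]

theorem no_type_ge_seven (a p n : ℕ) (hp : p = 2 * a ^ 2 + 2 * a + 1) (ha : 1 < a)
    (hn : 2 * p * n = p * (p - 1) * (p - 2)) (hd : 2 * a + 1 ∣ n) : False := by
  obtain ⟨b, rfl⟩ : ∃ b, a = b + 2 := ⟨a - 2, by omega⟩
  subst hp
  have e1 : 2 * (b + 2) ^ 2 + 2 * (b + 2) + 1 - 1 = 2 * ((b + 2) * (b + 3)) := by
    rw [Nat.add_sub_cancel]; ring
  have e2 : 2 * (b + 2) ^ 2 + 2 * (b + 2) + 1 - 2 = 2 * b ^ 2 + 10 * b + 11 := by
    rw [show 2 * (b + 2) ^ 2 + 2 * (b + 2) + 1 = (2 * b ^ 2 + 10 * b + 11) + 2 by ring,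
      Nat.add_sub_cancel]
  rw [e1, e2] at hn
  have hn' : n = (b + 2) * (b + 3) * (2 * b ^ 2 + 10 * b + 11) :=
    Nat.eq_of_mul_eq_mul_left (show 0 < 2 * (2 * (b + 2) ^ 2 + 2 * (b + 2) + 1) by positivity)
      (hn.trans (by ring))
  obtain ⟨k, hk⟩ := hd
  have h1 : ((2 * b + 5 : ℤ)) ∣ 3 := by
    refine ⟨8 * (k : ℤ) - ((2 * (b : ℤ) + 5) ^ 3 - 4 * (2 * (b : ℤ) + 5)), ?_⟩
    have hk' : ((b : ℤ) + 2) * ((b : ℤ) + 3) * (2 * (b : ℤ) ^ 2 + 10 * (b : ℤ) + 11) =
        (2 * (b : ℤ) + 5) * k := by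
      have := congrArg (fun x : ℕ => (x : ℤ)) (hn'.symm.trans hk)
      push_cast at this
      linear_combination this
    linear_combination 8 * hk'
  have := Int.le_of_dvd (by norm_num) h1
  omega

theorem isSolvable_imp_normal [IsPreprimitive G α] (hα : Fintype.card α = 2 * p)
    (hG : Group.IsSolvable G) (P : Sylow p G) (hP : Nat.card ↥(P : Subgroup G) = p) :
    (P : Subgroup G).Normal := by
  classical
  have hp : p.Prime := Fact.out
  haveI := hG
  have hne : Nontrivial G := Finite.one_lt_card_iff_nontrivial.1 (lt_of_lt_of_le hp.one_lt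
    (hP ▸ Subgroup.card_le_card_group _))
  have hex : ∃ n, derivedSeries G n = ⊥ := (Group.isSolvable_def G).1 hG
  set n := Nat.find hex with hn
  have hspec := Nat.find_spec hex
  have hn0 : n ≠ 0 := fun h => by
    rw [← hn, h, derivedSeries_zero] at hspec
    exact top_ne_bot hspec
  obtain ⟨m, hm⟩ := Nat.exists_eq_succ_of_ne_zero hn0
  set D := derivedSeries G m
  have hD : D ≠ ⊥ := Nat.find_min hex (by omega)
  have hcomm : D ≤ Subgroup.centralizer (D : Set G) := by
    rw [← Subgroup.commutator_eq_bot_iff_le_centralizer, ← derivedSeries_succ]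
    have : derivedSeries G n = ⊥ := hspec
    rwa [hm] at this
  haveI : D.Normal := derivedSeries_normal G m
  haveI : IsMulCommutative D := ⟨⟨fun x y => Subtype.ext
    (Subgroup.mem_centralizer_iff.1 (hcomm y.2) x x.2)⟩⟩
  exact LeastNonPClosed.normal_of_normal_pClosed (K := D)
    (fun S => Subgroup.normal_of_isMulCommutative _)
    ((Dvd.intro_left 2 rfl).trans (dvd_card_of_normal hα hD)) P hP P

theorem degree_two_p [hprim : IsPreprimitive G α] (hα : Fintype.card α = 2 * p) (hp : 3 < p)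
    (hnot2 : ¬ IsMultiplyPretransitive G α 2) (P : Sylow p G)
    (hN : Nat.card (Subgroup.normalizer ((P : Subgroup G) : Set G)) = 2 * p) :
    p = 5 ∧ Nonempty (G ≃* alternatingGroup (Fin 5)) := by
  classical
  have hpp : p.Prime := Fact.out
  haveI : IsPretransitive G α := hprim.toIsPretransitive
  obtain ⟨a₀⟩ : Nonempty α := Fintype.card_pos_iff.1 (by omega)
  haveI : Nontrivial α := Fintype.one_lt_card_iff_nontrivial.1 (by omega)
  obtain ⟨⟨χ₁, χ₂, h₁, h₂, hπ, hd₁, hd₂⟩, hrank, hcard⟩ := perm_data hα hp hnot2 P hN a₀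
  obtain ⟨a, ha, hpa, hsub⟩ := PermChar.wielandt_type hprim hα a₀ hrank h₁ h₂ hπ hd₁ hd₂
  have hP := card_sylow_eq_prime hα (by omega) P hN
  have hdvd : ∀ y, Nat.card (orbit (stabilizer G a₀) y) ∣ Nat.card (stabilizer G a₀) := fun y =>
    Dvd.intro _ (card_orbit_mul a₀ y)
  have ha1 : a = 1 := by
    by_contra hne
    have hp13 : 13 ≤ p := by
      rw [hpa]
      nlinarith [show 2 ≤ a by omega]
    have hG := hcard (by omega)
    rw [← card_stabilizer_mul (G := G) hα a₀] at hG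
    obtain ⟨b, hb⟩ := exists_ne a₀
    refine no_type_ge_seven a p _ hpa (by omega) hG ?_
    rcases hsub b hb with h | h <;> exact (Dvd.intro_left _ h.symm).trans (hdvd b)
  subst ha1
  have hp5 : p = 5 := by rw [hpa]; norm_num
  subst hp5
  refine ⟨rfl, ?_⟩
  -- the two suborbits
  set H := stabilizer G a₀ with hH
  haveI : Fintype (orbitRel.Quotient H α) := Fintype.ofFinite _
  set q0 : orbitRel.Quotient H α := Quotient.mk'' a₀ with hq0
  have hsize : ∀ y : α, Nat.card (orbitRel.Quotient.orbit (Quotient.mk'' y : orbitRel.Quotient H α)) =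
      Nat.card (orbit H y) := fun y => by rw [orbitRel.Quotient.orbit_mk]
  have hsum : Fintype.card α = ∑ q : orbitRel.Quotient H α, Nat.card (orbitRel.Quotient.orbit q) := by
    rw [← Nat.card_eq_fintype_card, Nat.card_congr (selfEquivSigmaOrbits' H α), Nat.card_sigma]
  have hone : Nat.card (orbit H a₀) = 1 := by
    rw [Nat.card_eq_one_iff_unique]
    refine ⟨⟨fun x y => ?_⟩, ⟨⟨a₀, mem_orbit_self a₀⟩⟩⟩
    obtain ⟨-, g, rfl⟩ := x
    obtain ⟨-, g', rfl⟩ := y
    exact Subtype.ext ((mem_stabilizer_iff.1 g.2).trans (mem_stabilizer_iff.1 g'.2).symm)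
  have hcQ : (Finset.univ.erase q0).card = 2 := by
    rw [Finset.card_erase_of_mem (Finset.mem_univ _), Finset.card_univ, ← Nat.card_eq_fintype_card, hrank]
  obtain ⟨q1, q2, h12, hq⟩ := Finset.card_eq_two.1 hcQ
  obtain ⟨b1, rfl⟩ := Quotient.exists_rep q1
  obtain ⟨b2, rfl⟩ := Quotient.exists_rep q2
  have hne : ∀ y, (Quotient.mk'' y : orbitRel.Quotient H α) ≠ q0 ↔ y ≠ a₀ := by
    intro y
    refine not_congr ⟨fun h => ?_, fun h => h ▸ rfl⟩
    obtain ⟨g, hg⟩ := orbitRel_apply.1 (Quotient.eq''.1 h)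
    rw [← hg]; exact g.2
  have hclass : ∀ y, y ≠ a₀ → y ∈ orbit H b1 ∨ y ∈ orbit H b2 := by
    intro y hy
    have : (Quotient.mk'' y : orbitRel.Quotient H α) ∈ Finset.univ.erase q0 :=
      Finset.mem_erase.2 ⟨(hne y).2 hy, Finset.mem_univ _⟩
    rw [hq, Finset.mem_insert, Finset.mem_singleton] at this
    rcases this with h | h
    · exact Or.inl (orbitRel_apply.1 (Quotient.eq''.1 h))
    · exact Or.inr (orbitRel_apply.1 (Quotient.eq''.1 h))
  have hb1 : b1 ≠ a₀ := (hne b1).1 (Finset.ne_of_mem_erase (hq ▸ Finset.mem_insert_self _ _))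
  have hb2 : b2 ≠ a₀ := (hne b2).1 (Finset.ne_of_mem_erase
    (hq ▸ Finset.mem_insert_of_mem (Finset.mem_singleton_self _)))
  rw [← Finset.add_sum_erase _ _ (Finset.mem_univ q0), hq, Finset.sum_pair h12] at hsum
  change Fintype.card α = Nat.card (orbitRel.Quotient.orbit (Quotient.mk'' a₀ : orbitRel.Quotient H α)) +
    (Nat.card (orbitRel.Quotient.orbit (Quotient.mk'' b1 : orbitRel.Quotient H α)) +
      Nat.card (orbitRel.Quotient.orbit (Quotient.mk'' b2 : orbitRel.Quotient H α))) at hsum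
  rw [hsize, hsize, hsize, hone, hα] at hsum
  have hkey : ∀ b c, b ≠ a₀ → c ≠ a₀ → Nat.card (orbit H b) = 3 → Nat.card (orbit H c) = 6 →
      (∀ y, y ≠ a₀ → y ∈ orbit H b ∨ y ∈ orbit H c) → Nat.card H = 6 := by
    intro b c hb hc hb3 hc6 hcl
    obtain ⟨L, hL1, hL2, hL3⟩ := exists_kernel_bound (G := G) (by rw [hα]) hb hb3
      (fun y hy h3 => (hcl y hy).resolve_right fun h6 => by
        rw [MulAction.orbit_eq_iff.2 h6] at h3; omega)
      (fun y z hy hz hy' hz' => by
        rw [MulAction.orbit_eq_iff.2 ((hcl y hy).resolve_left hy')]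
        exact (hcl z hz).resolve_left hz')
    have h6 : 6 ∣ Nat.card H := hc6 ▸ hdvd c
    have hmul := L.index_mul_card
    have hodd : ¬ 3 ∣ Nat.card L := fun h3 => by
      obtain ⟨g, hg⟩ := exists_prime_orderOf_dvd_card' (G := L) 3 h3
      have h1 : orderOf (g : H) ∣ 2 := orderOf_dvd_of_pow_eq_one (by rw [pow_two]; exact hL3 g g.2)
      rw [Subgroup.orderOf_coe, hg] at h1
      omega
    have hnot5 : ¬ 5 ∣ Nat.card L := fun h5 => by
      obtain ⟨g, hg⟩ := exists_prime_orderOf_dvd_card' (G := L) 5 h5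
      have h1 : orderOf (g : H) ∣ 2 := orderOf_dvd_of_pow_eq_one (by rw [pow_two]; exact hL3 g g.2)
      rw [Subgroup.orderOf_coe, hg] at h1
      omega
    have hnot7 : ¬ 7 ∣ Nat.card L := fun h7 => by
      haveI : Fact (Nat.Prime 7) := ⟨by norm_num⟩
      obtain ⟨g, hg⟩ := exists_prime_orderOf_dvd_card' (G := L) 7 h7
      have h1 : orderOf (g : H) ∣ 2 := orderOf_dvd_of_pow_eq_one (by rw [pow_two]; exact hL3 g g.2)
      rw [Subgroup.orderOf_coe, hg] at h1
      omega
    have hmod : Nat.card H % 5 = 1 := by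
      have h1 := card_normalizer_mul P
      rw [hN, ← card_stabilizer_mul (G := G) hα a₀] at h1
      rw [← Nat.eq_of_mul_eq_mul_left (by norm_num) h1, card_sylow_modEq_one 5 G]
    have hi6 : L.index ≤ 6 := Nat.le_of_dvd (by norm_num) hL1
    have hpos : 0 < Nat.card L := Nat.card_pos
    rw [← hmul] at h6 hmod ⊢
    generalize L.index = i at *
    generalize Nat.card L = l at *
    interval_cases l <;> interval_cases i <;> omega
  have hH6 : Nat.card H = 6 := by
    rcases hsub b1 hb1 with h1 | h1 <;> rcases hsub b2 hb2 with h2 | h2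
    · rw [h1, h2] at hsum; omega
    · exact hkey b1 b2 hb1 hb2 h1 h2 hclass
    · exact hkey b2 b1 hb2 hb1 h2 h1 fun y hy => (hclass y hy).symm
    · rw [h1, h2] at hsum; omega
  refine Present.nonsolvable_sixty ?_ fun hG => ?_
  · rw [← card_stabilizer_mul (G := G) hα a₀, hH6]
  · have hn := isSolvable_imp_normal hα hG P hP
    have h1 : 2 * 5 ∣ Nat.card ↥(P : Subgroup G) := dvd_card_of_normal (α := α) hα fun h => by
      rw [h, Subgroup.card_bot] at hP; omega
    rw [hP] at h1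
    norm_num at h1

end CfsgLib.ItoPrimeDegree
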