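import Cfsg.Agent.Lib.ItoPrimeDegree.SmallDegree
import Cfsg.Agent.Lib.ItoPrimeDegree.AltSquare
import Cfsg.Agent.Lib.Char.GaloisConj
import Mathlib.GroupTheory.Abelianization.Defs
import Mathlib.Data.Nat.ChineseRemainder

/-!
A faithful character of degree `p - 2` of a perfect group: the block of the character and the
decomposition of the Galois twists of its alternating and tensor squares.
-/

set_option autoImplicit false
set_option linter.style.haveILetI false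

namespace CfsgLib.ItoPrimeDegree

open Cfsg CfsgLib.DefectOne
open scoped ComplexConjugate Classical

universe u

variable {G : Type u} [Group G] [Finite G] {p : ℕ} [Fact p.Prime] {x : G}

/-- `ω ^ b + ω ^ (-b)` -/
noncomputable def cz (b : ZMod p) : ℂ := zc p b + zc p (-b)

theorem cz_neg (b : ZMod p) : cz (-b) = cz b := by rw [cz, cz, neg_neg, add_comm]

theorem cz_mul_self (b : ZMod p) : cz b * cz b = 2 + cz (2 * b) := by
  have hz : ∀ u w : ZMod p, zc p u * zc p w = zc p (u + w) := fun u w =>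
    (AddChar.map_add_eq_mul _ u w).symm
  simp only [cz, add_mul, mul_add, hz, add_neg_cancel, neg_add_cancel, AddChar.map_zero_eq_one,
    show b + b = 2 * b by ring, show -b + -b = -(2 * b) by ring]
  ring

theorem sum_zc_units_ne {b : ZMod p} (hb : b ≠ 0) :
    ∑ r : (ZMod p)ˣ, zc p (r * b : ZMod p) = -1 := by
  have h := sum_zc_mul (p := p) b
  rw [sum_zmod_split, zero_mul, AddChar.map_zero_eq_one, if_neg hb] at h
  linear_combination h

theorem sum_cz_units {b : ZMod p} (hb : b ≠ 0) :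
    ∑ r : (ZMod p)ˣ, cz ((r : ZMod p) * b) = -2 := by
  simp only [cz, Finset.sum_add_distrib, ← mul_neg]
  rw [sum_zc_units_ne hb, sum_zc_units_ne (neg_ne_zero.2 hb)]
  norm_num

theorem natCast_ne_zero_of_lt {c : ℕ} (h0 : 0 < c) (hc : c < p) : (c : ZMod p) ≠ 0 := fun e =>
  absurd (Nat.le_of_dvd h0 ((ZMod.natCast_eq_zero_iff _ _).1 e)) (not_le.2 hc)

/-- A faithful character of degree `p - 2` of a perfect group, with its column. -/
structure Faithful (p : ℕ) [Fact p.Prime] (x : G) where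
  hyp : HypOne p x
  five_lt : 5 < p
  perfect : commutator G = ⊤
  /-- the character -/
  ζ : IrrCharacter G
  deg : charDegree (ζ : G → ℂ) = p - 2
  faith : ∀ g : G, (ζ : G → ℂ) g = (ζ : G → ℂ) 1 → g = 1
  /-- the character of the regular part -/
  φ : IrrCharacter (regPart p x)
  /-- the exponent of the column -/
  a : (ZMod p)ˣ
  relIndex_eq : (cent x).relIndex (norm₁ x) = 2
  mem_bset : ζ ∈ hyp.bset φ
  orbit_eq : hyp.orbitN φ = {φ}
  degree_φ : charDegree (φ : regPart p x → ℂ) = 1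
  card_exp : Nat.card (hyp.expGroup φ) = 2
  dd_ζ : ∀ j, hyp.dd φ ζ j = if j = a ∨ j = -a then -1 else 0
  val_reg : ∀ v : regPart p x, (ζ : G → ℂ) v = (p - 2 : ℕ) * (φ : regPart p x → ℂ) v
  val_sing : ∀ (r : (ZMod p)ˣ) (v : regPart p x),
    (ζ : G → ℂ) (x ^ (r : ZMod p).val * (v : G)) =
      -cz ((r : ZMod p) * (a : ZMod p)) * (φ : regPart p x → ℂ) v
  regPart_eq : regPart p x = Subgroup.center G

theorem exists_faithful (h : HypOne p x) (hp : 5 < p) (hperf : commutator G = ⊤)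
    (ζ : IrrCharacter G) (hd : charDegree (ζ : G → ℂ) = p - 2)
    (hf : ∀ g : G, (ζ : G → ℂ) g = (ζ : G → ℂ) 1 → g = 1) (hx : x ∉ Subgroup.center G) :
    ∃ F : Faithful p x, F.ζ = ζ := by
  have hζ := CfsgLib.Char.IsIrrCharacter.isCharacter ζ.2
  have hne : ‖(ζ : G → ℂ) x‖ ≠ (charDegree (ζ : G → ℂ) : ℝ) := fun e =>
    hx (mem_center_of_norm_eq hζ hf e)
  obtain ⟨he, φ, a, hb, ho, hφ, hk, hdd, hreg, hsing⟩ := exists_column h hp ζ hd hne
  have hφ1 : (φ : regPart p x → ℂ) 1 = 1 := by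
    rw [← CharTools.irr_degree_cast φ, hφ, Nat.cast_one]
  have hle : regPart p x ≤ Subgroup.center G := fun v hv => mem_center_of_norm_eq hζ hf (by
    rw [show v = ((⟨v, hv⟩ : regPart p x) : G) from rfl, hreg, norm_mul,
      norm_linear φ.2 hφ1, Complex.norm_natCast, mul_one, hd])
  refine ⟨⟨h, hp, hperf, ζ, hd, hf, φ, a, he, hb, ho, hφ, hk, hdd, hreg, hsing,
    le_antisymm hle fun z hz => ?_⟩, rfl⟩
  obtain ⟨i, -, v, rfl⟩ := h.exists_decomp (c := z)
    (mem_cent_iff.2 (Subgroup.mem_center_iff.1 hz x).symm)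
  by_cases hi : p ∣ i
  · rw [h.pow_eq_one_iff.2 hi, one_mul]
    exact v.2
  · refine absurd ?_ hx
    obtain ⟨j, hj⟩ := h.exists_pow_eq_self hi
    have h1 : x ^ i ∈ Subgroup.center G := by
      have := mul_mem hz (inv_mem (hle v.2))
      rwa [mul_inv_cancel_right] at this
    rw [← hj]
    exact pow_mem h1 j

namespace Faithful

variable (F : Faithful p x)

include F

theorem natCast_deg : ((F.ζ : G → ℂ) 1) = ((p - 2 : ℕ) : ℂ) := by
  rw [← CharTools.irr_degree_cast, F.deg]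

theorem isCharacter_ζ : Cfsg.IsCharacter G (F.ζ : G → ℂ) :=
  CfsgLib.Char.IsIrrCharacter.isCharacter F.ζ.2

theorem φ_one : (F.φ : regPart p x → ℂ) 1 = 1 := by
  rw [← CharTools.irr_degree_cast F.φ, F.degree_φ, Nat.cast_one]

theorem exists_hom : ∃ l : regPart p x →* ℂˣ, ∀ v, (F.φ : regPart p x → ℂ) v = (l v : ℂ) :=
  CfsgLib.Char.IsCharacter.exists_linear (CfsgLib.Char.IsIrrCharacter.isCharacter F.φ.2) F.φ_one

theorem φ_mul (v w : regPart p x) :
    (F.φ : regPart p x → ℂ) (v * w) = (F.φ : regPart p x → ℂ) v * (F.φ : regPart p x → ℂ) w := by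
  obtain ⟨l, hl⟩ := F.exists_hom
  rw [hl, hl, hl, map_mul, Units.val_mul]

theorem φ_pow (v : regPart p x) (n : ℕ) :
    (F.φ : regPart p x → ℂ) (v ^ n) = (F.φ : regPart p x → ℂ) v ^ n := by
  obtain ⟨l, hl⟩ := F.exists_hom
  rw [hl, hl, map_pow, Units.val_pow_eq_pow_val]

theorem φ_norm (v : regPart p x) : ‖(F.φ : regPart p x → ℂ) v‖ = 1 :=
  norm_linear F.φ.2 F.φ_one v

theorem φ_conj_mul (v : regPart p x) :
    conj ((F.φ : regPart p x → ℂ) v) * (F.φ : regPart p x → ℂ) v = 1 := by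
  rw [mul_comm, Complex.mul_conj', F.φ_norm]
  simp

theorem central (v : regPart p x) : (v : G) ∈ Subgroup.center G :=
  le_of_eq F.regPart_eq v.2

/-- The centre has odd order exponent. -/
theorem not_two_dvd_orderOf (v : regPart p x) : ¬ 2 ∣ orderOf (v : G) := by
  obtain ⟨n, ρ, hρ⟩ := F.isCharacter_ζ
  have hfr : Module.finrank ℂ (Fin n → ℂ) = p - 2 := by
    have h1 : ρ.character 1 = (F.ζ : G → ℂ) 1 := congrFun hρ 1
    rw [Representation.char_one, F.natCast_deg] at h1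
    exact_mod_cast h1
  have hs : ρ (v : G) = (F.φ : regPart p x → ℂ) v • (LinearMap.id : (Fin n → ℂ) →ₗ[ℂ] _) :=
    CfsgLib.Char.eq_smul_id_of_character_eq ρ _ _ (F.φ_norm v) (by
      rw [hfr, congrFun hρ]; exact F.val_reg v)
  let D : G →* ℂˣ := ((LinearMap.det).comp ρ).toHomUnits
  have h1 : D (v : G) = 1 :=
    MonoidHom.mem_ker.1 (Abelianization.commutator_subset_ker D (by
      rw [F.perfect]; exact Subgroup.mem_top _))
  have h2 : LinearMap.det (ρ (v : G)) = 1 := congrArg Units.val h1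
  rw [hs, LinearMap.det_smul, LinearMap.det_id, mul_one, hfr, ← F.φ_pow] at h2
  have h3 : ((v ^ (p - 2) : regPart p x) : G) = 1 := F.faith _ (by
    rw [F.val_reg, h2, mul_one, F.natCast_deg])
  rw [Subgroup.coe_pow] at h3
  intro h4
  have h5 : 2 ∣ p - 2 := h4.trans (orderOf_dvd_of_pow_eq_one h3)
  have := F.five_lt
  have hodd := (Fact.out : p.Prime).odd_of_ne_two (by omega)
  rw [Nat.odd_iff] at hodd
  omega

/-- The exponents of the twist. -/
theorem exists_twist : ∃ k k' : ℕ, k'.Coprime (Nat.card G) ∧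
    (∀ g : G, (g ^ k) ^ k' = g ∧ (g ^ k') ^ k = g) ∧ x ^ k = x ∧ x ^ k' = x ∧
    (∀ y : G, ¬ p ∣ orderOf y → ¬ 2 ∣ orderOf y → y ^ k = y * y) ∧
    ∀ (y : G) (j : ℕ), orderOf y = 2 ^ j → y ^ k = y := by
  have h := F.hyp
  have hp := h.prime
  have hp5 := F.five_lt
  obtain ⟨M, hM⟩ : p ∣ Nat.card G := h.orderOf_x ▸ orderOf_dvd_natCard x
  have hpM : ¬ p ∣ M := fun hd => h.not_sq (by rw [hM, sq]; exact mul_dvd_mul_left p hd)
  have hM0 : M ≠ 0 := fun e => Nat.card_pos.ne' (by rw [hM, e, mul_zero])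
  obtain ⟨s, m, hm2, hMs⟩ := Nat.exists_eq_pow_mul_and_not_dvd hM0 2 (by norm_num)
  have hcop : (p * 2 ^ s).Coprime m := Nat.Coprime.mul_left
    (hp.coprime_iff_not_dvd.2 fun hd => hpM (hMs ▸ hd.mul_left _))
    (Nat.Coprime.pow_left _ (Nat.prime_two.coprime_iff_not_dvd.2 hm2))
  obtain ⟨k, hk1, hk2⟩ := Nat.chineseRemainder hcop 1 2
  have hkc : k.Coprime (Nat.card G) := by
    rw [hM, hMs, ← mul_assoc]
    refine Nat.Coprime.mul_right ?_ ?_
    · rw [Nat.coprime_iff_gcd_eq_one, Nat.ModEq.gcd_eq hk1]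
      exact Nat.gcd_one_left _
    · rw [Nat.coprime_iff_gcd_eq_one, Nat.ModEq.gcd_eq hk2]
      exact Nat.prime_two.coprime_iff_not_dvd.2 hm2
  have hN1 : 1 < Nat.card G := lt_of_lt_of_le hp.one_lt
    (Nat.le_of_dvd Nat.card_pos (hM ▸ Dvd.intro M rfl))
  obtain ⟨k', -, hk'⟩ := Nat.exists_mul_mod_eq_one_of_coprime hkc hN1
  have hkk : k * k' ≡ 1 [MOD Nat.card G] := by
    rw [Nat.ModEq, hk', Nat.one_mod_eq_one.2 hN1.ne']
  have hpow : ∀ g : G, g ^ (k * k') = g := fun g => by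
    conv_rhs => rw [← pow_one g]
    exact pow_eq_pow_iff_modEq.2 (hkk.of_dvd (orderOf_dvd_natCard g))
  have hxk : x ^ k = x := by
    conv_rhs => rw [← pow_one x]
    exact pow_eq_pow_iff_modEq.2 (hk1.of_dvd (h.orderOf_x ▸ Dvd.intro _ rfl))
  refine ⟨k, k', ?_, fun g => ⟨by rw [← pow_mul, hpow], by rw [← pow_mul, mul_comm, hpow]⟩,
    hxk, ?_, fun y hy hy2 => ?_, fun y j hj => ?_⟩
  · rw [Nat.coprime_iff_gcd_eq_one]
    refine Nat.dvd_one.1 ?_
    have h1 : Nat.gcd k' (Nat.card G) ∣ k * k' := (Nat.gcd_dvd_left _ _).mul_left k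
    exact (hkk.dvd_iff (Nat.gcd_dvd_right _ _)).1 h1
  · conv_lhs => rw [← hxk]
    rw [← pow_mul, hpow]
  · rw [← pow_two]
    refine pow_eq_pow_iff_modEq.2 (hk2.of_dvd ?_)
    have hd := orderOf_dvd_natCard y
    rw [hM, hMs, ← mul_assoc] at hd
    exact (Nat.Coprime.mul_right ((hp.coprime_iff_not_dvd.2 hy).symm)
      (Nat.Coprime.pow_right _ (Nat.prime_two.coprime_iff_not_dvd.2 hy2).symm)).dvd_of_dvd_mul_left hd
  · conv_rhs => rw [← pow_one y]
    refine pow_eq_pow_iff_modEq.2 (hk1.of_dvd ?_)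
    have hd := orderOf_dvd_natCard y
    rw [hM, hMs, ← mul_assoc, hj] at hd
    rw [hj]
    exact (Nat.Coprime.pow_left _ (Nat.prime_two.coprime_iff_not_dvd.2 hm2)).dvd_of_dvd_mul_right hd

/-- The moved characters of the block. -/
noncomputable def tw (j : (ZMod p)ˣ) : IrrCharacter G := F.hyp.actU (j * F.a⁻¹) • F.ζ

theorem dd_tw (j i : (ZMod p)ˣ) :
    F.hyp.dd F.φ (F.tw j) i = if i = j ∨ i = -j then -1 else 0 := by
  rw [tw, F.hyp.dd_actU, F.dd_ζ]
  have h1 : ∀ c : (ZMod p)ˣ, i * (j * F.a⁻¹)⁻¹ = c ↔ i = c * (j * F.a⁻¹) :=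
    fun c => mul_inv_eq_iff_eq_mul
  simp only [h1, neg_mul, mul_left_comm F.a j, mul_inv_cancel, mul_one]

theorem tw_mem (j : (ZMod p)ˣ) : F.tw j ∈ F.hyp.bset F.φ :=
  F.hyp.smul_mem_bset _ F.mem_bset

theorem tw_regular (j : (ZMod p)ˣ) {g : G} (hg : ¬ p ∣ orderOf g) :
    (F.tw j : G → ℂ) g = (F.ζ : G → ℂ) g :=
  F.hyp.smul_regular _ _ hg

theorem tw_degree (j : (ZMod p)ˣ) : charDegree (F.tw j : G → ℂ) = p - 2 := by
  have h := F.tw_regular j (g := 1) (by rw [orderOf_one]; exact F.hyp.prime.not_dvd_one)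
  rw [← CharTools.irr_degree_cast, ← CharTools.irr_degree_cast, F.deg] at h
  exact_mod_cast h

theorem tw_eq_iff {i j : (ZMod p)ˣ} : F.tw i = F.tw j ↔ i = j ∨ i = -j := by
  constructor
  · intro e
    have h1 := F.dd_tw j i
    rw [← e, F.dd_tw, if_pos (Or.inl rfl)] at h1
    by_contra hne
    rw [if_neg hne] at h1
    norm_num at h1
  · rintro (rfl | rfl)
    · rfl
    refine F.hyp.eq_of_dd_eq (F.tw_mem _) (F.tw_mem _) (fun l => ?_) fun g hg => ?_
    · rw [F.dd_tw, F.dd_tw]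
      simp only [neg_neg, or_comm]
    · rw [F.tw_regular _ hg, F.tw_regular _ hg]

/-- The set of moved characters. -/
noncomputable def moved : Finset (IrrCharacter G) := Finset.univ.image F.tw

/-- The double of the exponent. -/
noncomputable def two : (ZMod p)ˣ :=
  Units.mk0 2 (by
    have := natCast_ne_zero_of_lt (p := p) (c := 2) two_pos (by have := F.five_lt; omega)
    simpa using this) * F.a

theorem two_coe : (F.two : ZMod p) = 2 * (F.a : ZMod p) := by simp [two]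

theorem self_ne_neg (j : (ZMod p)ˣ) : j ≠ -j := fun e => by
  have h' : ((2 : ℕ) : ZMod p) * (j : ZMod p) = 0 := by
    have := congrArg Units.val e
    rw [Units.val_neg] at this
    push_cast
    linear_combination this
  exact natCast_ne_zero_of_lt two_pos (by have := F.five_lt; omega)
    ((mul_eq_zero.1 h').resolve_right (Units.ne_zero j))

theorem exists_shape_moved : ∃ δ m, F.hyp.Shape F.φ F.moved δ m := by
  obtain ⟨Y, δ, m, sh⟩ := F.hyp.exists_shape F.φ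
  have hY : F.ζ ∈ Y := by
    by_contra hY
    have hX : F.ζ ∈ F.hyp.bset F.φ \ Y := Finset.mem_sdiff.2 ⟨F.mem_bset, hY⟩
    have h1 := (sh.dd_X _ hX F.a).trans (sh.dd_X _ hX F.two).symm
    have hne : ¬ (F.two = F.a ∨ F.two = -F.a) := by
      rintro (e | e) <;> have e' := congrArg Units.val e <;>
        simp only [F.two_coe, Units.val_neg] at e'
      · exact Units.ne_zero F.a (by linear_combination e')
      · have : ((3 : ℕ) : ZMod p) * (F.a : ZMod p) = 0 := by push_cast; linear_combination e'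
        exact natCast_ne_zero_of_lt (by norm_num) (by have := F.five_lt; omega)
          ((mul_eq_zero.1 this).resolve_right (Units.ne_zero _))
    rw [F.dd_ζ, F.dd_ζ, if_pos (Or.inl rfl), if_neg hne] at h1
    norm_num at h1
  have hset : F.moved = Y := by
    ext θ
    rw [moved, Finset.mem_image]
    constructor
    · rintro ⟨j, -, rfl⟩
      exact (sh.orbit _ hY _).2 ⟨_, rfl⟩
    · intro hθ
      obtain ⟨u, rfl⟩ := (sh.orbit _ hY _).1 hθ
      obtain ⟨s, hs⟩ := F.hyp.smul_eq_actU F.mem_bset u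
      exact ⟨s * F.a, Finset.mem_univ _, by rw [hs, tw, mul_inv_cancel_right]⟩
  exact ⟨δ, m, hset ▸ sh⟩

theorem two_mul_card_moved : 2 * F.moved.card = p - 1 := by
  obtain ⟨δ, m, sh⟩ := F.exists_shape_moved
  rw [sh.card_Y, ← F.card_exp]
  exact F.hyp.card_mul_index_expGroup F.φ

/-- The multiplicities of a character with singular values `(c₀ + C(2 a r)) φ`. -/
theorem exists_coef {f : G → ℂ} (hf : Cfsg.IsCharacter G f) (c₀ : ℤ)
    (hs : ∀ (r : (ZMod p)ˣ) (v : regPart p x), f (x ^ (r : ZMod p).val * (v : G)) =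
      ((c₀ : ℂ) + cz ((r : ZMod p) * (F.two : ZMod p))) * (F.φ : regPart p x → ℂ) v) :
    ∃ (c : IrrCharacter G → ℕ) (L : ℤ), f = ∑ χ, (c χ : ℂ) • (χ : G → ℂ) ∧
      ∀ θ ∈ F.moved, (c θ : ℤ) = L - if θ = F.tw F.two then 1 else 0 := by
  haveI := Fintype.ofFinite (regPart p x)
  obtain ⟨δ, m, sh⟩ := F.exists_shape_moved
  obtain ⟨c, hc⟩ := CfsgLib.Char.IsCharacter.exists_nat_combination hf
  set M : ℤ := ∑ χ ∈ F.hyp.bset F.φ \ F.moved, (c χ : ℤ) * m χ with hM
  refine ⟨c, c₀ + M, hc, fun θ hθ => ?_⟩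
  obtain ⟨j, -, rfl⟩ := Finset.mem_image.1 hθ
  -- the left side
  have hleft : ∑ χ : IrrCharacter G, (c χ : ℤ) * F.hyp.dd F.φ χ j = M - (c (F.tw j) : ℤ) := by
    rw [F.hyp.sum_bset (φ := F.φ) fun χ hχ => by rw [F.hyp.not_mem_bset_iff.1 hχ, mul_zero],
      ← Finset.sum_sdiff sh.subset, hM, sub_eq_add_neg]
    congr 1
    · exact Finset.sum_congr rfl fun χ hχ => by rw [sh.dd_X χ hχ j]
    · rw [Finset.sum_eq_single (F.tw j) (fun θ' hθ' hne => ?_) fun hn => absurd hθ hn, F.dd_tw,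
        if_pos (Or.inl rfl), mul_neg_one]
      obtain ⟨i, -, rfl⟩ := Finset.mem_image.1 hθ'
      rw [F.dd_tw, if_neg (fun e => hne (F.tw_eq_iff.2 e).symm), mul_zero]
  -- the section coefficients
  have hsec : ∀ r : (ZMod p)ˣ, ∑ χ : IrrCharacter G, (c χ : ℂ) * sec p x F.φ χ r =
      (c₀ : ℂ) + cz ((r : ZMod p) * (F.two : ZMod p)) := by
    intro r
    have h1 : ∀ v : regPart p x, f (x ^ (r : ZMod p).val * (v : G)) =
        ∑ χ : IrrCharacter G, (c χ : ℂ) * (χ : G → ℂ) (x ^ (r : ZMod p).val * (v : G)) :=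
      fun v => by rw [hc]; simp
    have h2 : ∑ v : regPart p x, f (x ^ (r : ZMod p).val * (v : G)) *
        conj ((F.φ : regPart p x → ℂ) v) =
        (Nat.card (regPart p x) : ℂ) * ((c₀ : ℂ) + cz ((r : ZMod p) * (F.two : ZMod p))) := by
      rw [Finset.sum_congr rfl fun v _ => by rw [hs, mul_assoc, mul_comm _ (conj _), F.φ_conj_mul,
        mul_one], Finset.sum_const, Finset.card_univ, nsmul_eq_mul, Nat.card_eq_fintype_card]
    simp only [sec, secCoef, finsum_eq_sum_of_fintype, Finset.mul_sum]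
    rw [Finset.sum_comm]
    simp only [h1, Finset.sum_mul] at h2
    have hC : (Nat.card (regPart p x) : ℂ) ≠ 0 := Nat.cast_ne_zero.2 Nat.card_pos.ne'
    rw [← mul_left_cancel₀ hC (a := (Nat.card (regPart p x) : ℂ))
      (b := ∑ v : regPart p x, ∑ χ : IrrCharacter G, (c χ : ℂ) *
        ((Nat.card (regPart p x) : ℂ)⁻¹ * ((χ : G → ℂ) (x ^ (r : ZMod p).val * (v : G)) *
          conj ((F.φ : regPart p x → ℂ) v)))) (c := (c₀ : ℂ) + cz ((r : ZMod p) * (F.two : ZMod p)))]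
    rw [← h2, Finset.mul_sum]
    refine Finset.sum_congr rfl fun v _ => ?_
    rw [Finset.mul_sum]
    refine Finset.sum_congr rfl fun χ _ => ?_
    field_simp
  have hp0 : (p : ℂ) ≠ 0 := Nat.cast_ne_zero.2 F.hyp.prime.ne_zero
  have hj0 : (j : ZMod p) ≠ 0 := j.ne_zero
  -- the inversion
  have hkey : ∀ b : ZMod p, b ≠ 0 → (p : ℂ)⁻¹ * ∑ r : (ZMod p)ˣ,
      zc p (r * b : ZMod p) * (zc p (-(r * j : ZMod p)) - 1) =
        if b = (j : ZMod p) then 1 else 0 := by
    intro b hb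
    have h1 : ∀ r : (ZMod p)ˣ, zc p (r * b : ZMod p) * (zc p (-(r * j : ZMod p)) - 1) =
        zc p ((r : ZMod p) * (b - (j : ZMod p))) - zc p ((r : ZMod p) * b) := fun r => by
      rw [mul_sub, mul_one, ← AddChar.map_add_eq_mul,
        show (r : ZMod p) * b + -((r : ZMod p) * j) = (r : ZMod p) * (b - (j : ZMod p)) by ring]
    rw [Finset.sum_congr rfl fun r _ => h1 r, Finset.sum_sub_distrib, F.hyp.sum_zc_units,
      F.hyp.sum_zc_units, if_neg hb]
    simp only [sub_eq_zero]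
    split_ifs <;> field_simp <;> ring
  have hconst : (p : ℂ)⁻¹ * ∑ r : (ZMod p)ˣ, (zc p (-(r * j : ZMod p)) - 1) = -1 := by
    simp only [Finset.sum_sub_distrib, ← mul_neg]
    rw [sum_zc_units_ne (neg_ne_zero.2 hj0), Finset.sum_const, Finset.card_univ, ZMod.card_units,
      nsmul_eq_mul, Nat.cast_sub F.hyp.prime.one_le]
    field_simp
    ring
  have hD : ((∑ χ : IrrCharacter G, (c χ : ℤ) * F.hyp.dd F.φ χ j : ℤ) : ℂ) =
      -(c₀ : ℂ) + (if F.tw j = F.tw F.two then 1 else 0) := by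
    rw [Int.cast_sum]
    simp only [Int.cast_mul, Int.cast_natCast, F.hyp.dd_cast, Finset.mul_sum]
    rw [Finset.sum_comm, Finset.sum_congr rfl fun (r : (ZMod p)ˣ) _ => show
      ∑ χ : IrrCharacter G, (c χ : ℂ) *
        ((p : ℂ)⁻¹ * (sec p x F.φ χ r * (zc p (-(r * j : ZMod p)) - 1))) =
        (c₀ : ℂ) * ((p : ℂ)⁻¹ * (zc p (-(r * j : ZMod p)) - 1)) +
        ((p : ℂ)⁻¹ * (zc p ((r : ZMod p) * (F.two : ZMod p)) * (zc p (-(r * j : ZMod p)) - 1)) +
        (p : ℂ)⁻¹ * (zc p ((r : ZMod p) * -(F.two : ZMod p)) * (zc p (-(r * j : ZMod p)) - 1))) from ?_]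
    · simp only [Finset.sum_add_distrib, ← Finset.mul_sum]
      rw [hconst, hkey _ F.two.ne_zero, hkey _ (neg_ne_zero.2 F.two.ne_zero), mul_neg_one]
      congr 1
      have hiff : F.tw j = F.tw F.two ↔
          ((F.two : ZMod p) = j ∨ -(F.two : ZMod p) = j) := by
        rw [F.tw_eq_iff]
        simp only [Units.ext_iff, Units.val_neg]
        exact ⟨fun e => e.imp Eq.symm Eq.symm, fun e => e.imp Eq.symm Eq.symm⟩
      simp only [hiff]
      by_cases e1 : (F.two : ZMod p) = j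
      · have e2 : -(F.two : ZMod p) ≠ j := fun e => F.self_ne_neg F.two (Units.ext (by
          rw [Units.val_neg, e, e1]))
        rw [if_pos e1, if_neg e2, if_pos (Or.inl e1)]
        norm_num
      · by_cases e2 : -(F.two : ZMod p) = j <;> simp [e1, e2]
    · rw [show ∑ χ : IrrCharacter G, (c χ : ℂ) *
          ((p : ℂ)⁻¹ * (sec p x F.φ χ r * (zc p (-(r * j : ZMod p)) - 1))) =
          (∑ χ : IrrCharacter G, (c χ : ℂ) * sec p x F.φ χ r) *
            ((p : ℂ)⁻¹ * (zc p (-(r * j : ZMod p)) - 1)) by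
        rw [Finset.sum_mul]; exact Finset.sum_congr rfl fun χ _ => by ring, hsec, cz, mul_neg]
      ring
  rw [hleft] at hD
  have : ((c (F.tw j) : ℤ) : ℂ) =
      (((c₀ + M) - if F.tw j = F.tw F.two then 1 else 0 : ℤ) : ℂ) := by
    split_ifs at hD ⊢ <;> push_cast at hD ⊢ <;> linear_combination -hD
  exact_mod_cast this

/-- The multiplicity relations with the degree bound. -/
theorem coef_bound {c : IrrCharacter G → ℕ} {L : ℤ}
    (hc : ∀ θ ∈ F.moved, (c θ : ℤ) = L - if θ = F.tw F.two then 1 else 0) :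
    1 ≤ L ∧ (∑ θ ∈ F.moved, (c θ : ℤ)) = (F.moved.card : ℤ) * L - 1 ∧
      ∑ χ : IrrCharacter G, (c χ : ℤ) * (charDegree (χ : G → ℂ) : ℤ) =
        ((p : ℤ) - 2) * ((F.moved.card : ℤ) * L - 1) +
          ∑ χ ∈ Finset.univ \ F.moved, (c χ : ℤ) * (charDegree (χ : G → ℂ) : ℤ) := by
  have hm : F.tw F.two ∈ F.moved := Finset.mem_image_of_mem _ (Finset.mem_univ _)
  have hsum : (∑ θ ∈ F.moved, (c θ : ℤ)) = (F.moved.card : ℤ) * L - 1 := by
    rw [Finset.sum_congr rfl hc, Finset.sum_sub_distrib, Finset.sum_const, nsmul_eq_mul,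
      Finset.sum_ite_eq', if_pos hm]
  refine ⟨?_, hsum, ?_⟩
  · have := hc _ hm
    rw [if_pos rfl] at this
    omega
  · rw [← Finset.sum_sdiff (Finset.subset_univ F.moved), add_comm]
    congr 1
    rw [← hsum, Finset.mul_sum]
    refine Finset.sum_congr rfl fun θ hθ => ?_
    obtain ⟨j, -, rfl⟩ := Finset.mem_image.1 hθ
    rw [F.tw_degree, Nat.cast_sub (by have := F.five_lt; omega)]
    push_cast; ring

/-- The consequences of the two decompositions. -/
theorem block_data : ∃ (k k' t L : ℕ), 2 * t + 1 = p ∧ 1 ≤ L ∧ L ≤ 2 ∧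
    (∀ g : G, (g ^ k) ^ k' = g ∧ (g ^ k') ^ k = g) ∧ x ^ k' = x ∧
    (∀ y : G, ¬ p ∣ orderOf y → ¬ 2 ∣ orderOf y → y ^ k = y * y) ∧
    (∀ (y : G) (j : ℕ), orderOf y = 2 ^ j → y ^ k = y) ∧
    (∀ y : G, ¬ p ∣ orderOf y → (F.ζ : G → ℂ) y * (F.ζ : G → ℂ) y - (F.ζ : G → ℂ) (y * y) =
      ((p - 3 : ℕ) : ℂ) * (F.ζ : G → ℂ) (y ^ k)) ∧
    ∀ [Fintype G],
      ∑ g : G, ((F.ζ : G → ℂ) (g ^ k') * (F.ζ : G → ℂ) (g ^ k') -
          (F.ζ : G → ℂ) (g ^ k' * g ^ k')) / 2 *
        conj ((F.ζ : G → ℂ) (g ^ k') * (F.ζ : G → ℂ) (g ^ k')) =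
        (Nat.card G : ℂ) * (((t : ℂ) - 1) * (L : ℂ)) := by
  obtain ⟨k, k', hk'c, hkk, hxk, hxk', hodd, htwo⟩ := F.exists_twist
  set f := (F.ζ : G → ℂ)
  set t := F.moved.card with ht
  have h2t : 2 * t + 1 = p := by
    have := F.two_mul_card_moved
    have := F.five_lt
    omega
  -- singular values
  have hv2 : ∀ v : regPart p x, (F.φ : regPart p x → ℂ) (v ^ k') * (F.φ : regPart p x → ℂ) (v ^ k') =
      (F.φ : regPart p x → ℂ) v := by
    intro v
    rw [← F.φ_mul]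
    refine congrArg _ (Subtype.ext ?_)
    rw [Subgroup.coe_mul, Subgroup.coe_pow]
    have h1 : ((v : G) ^ k) = (v : G) * v :=
      hodd _ (F.hyp.mem_regPart_iff.1 v.2).2 (F.not_two_dvd_orderOf v)
    calc (v : G) ^ k' * (v : G) ^ k' = ((v : G) * v) ^ k' := ((Commute.refl (v : G)).mul_pow k').symm
      _ = v := by rw [← h1, (hkk _).1]
  have hpw : ∀ (r : (ZMod p)ˣ) (v : regPart p x), (x ^ (r : ZMod p).val * (v : G)) ^ k' =
      x ^ (r : ZMod p).val * ((v ^ k' : regPart p x) : G) := by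
    intro r v
    rw [((F.hyp.commute_regPart v).symm.pow_left _).mul_pow, ← pow_mul, mul_comm _ k', pow_mul,
      hxk', Subgroup.coe_pow]
  have hsq : ∀ (r : (ZMod p)ˣ) (v : regPart p x), f ((x ^ (r : ZMod p).val * (v : G)) ^ k') *
      f ((x ^ (r : ZMod p).val * (v : G)) ^ k') =
      (2 + cz ((r : ZMod p) * (F.two : ZMod p))) * (F.φ : regPart p x → ℂ) v := by
    intro r v
    rw [hpw]
    show (F.ζ : G → ℂ) _ * (F.ζ : G → ℂ) _ = _
    rw [F.val_sing, ← hv2 v, F.two_coe, show (r : ZMod p) * (2 * (F.a : ZMod p)) = 2 * ((r : ZMod p) * (F.a : ZMod p))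
      by ring, ← cz_mul_self]
    ring
  have hdbl : ∀ (r : (ZMod p)ˣ) (v : regPart p x), f ((x ^ (r : ZMod p).val * (v : G)) ^ k' *
      (x ^ (r : ZMod p).val * (v : G)) ^ k') =
      -cz ((r : ZMod p) * (F.two : ZMod p)) * (F.φ : regPart p x → ℂ) v := by
    intro r v
    rw [hpw]
    set w := v ^ k'
    set i := (r : ZMod p).val
    have h2 : ((2 : ℕ) : ZMod p) ≠ 0 :=
      natCast_ne_zero_of_lt two_pos (by have := F.five_lt; omega)
    have e : x ^ i * (w : G) * (x ^ i * (w : G)) =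
        x ^ (((Units.mk0 _ h2 * r : (ZMod p)ˣ) : ZMod p)).val * ((w * w : regPart p x) : G) := by
      rw [Subgroup.coe_mul, Units.val_mul, Units.val_mk0,
        show ((2 : ℕ) : ZMod p) * (r : ZMod p) = ((2 * i : ℕ) : ZMod p) by
          rw [Nat.cast_mul, ZMod.natCast_zmod_val],
        F.hyp.pow_val_cast, two_mul, pow_add]
      have hc := (F.hyp.commute_regPart w).pow_right i
      calc x ^ i * (w : G) * (x ^ i * (w : G)) = x ^ i * ((w : G) * x ^ i) * (w : G) := by group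
        _ = x ^ i * (x ^ i * (w : G)) * (w : G) := by rw [hc.eq]
        _ = _ := by group
    rw [e]
    show (F.ζ : G → ℂ) _ = _
    rw [F.val_sing, F.φ_mul, hv2, F.two_coe, Units.val_mul, Units.val_mk0]
    congr 3
    push_cast
    ring
  have hA : Cfsg.IsCharacter G (fun g => (f (g ^ k') * f (g ^ k') - f (g ^ k' * g ^ k')) / 2) :=
    CfsgLib.CharGalois.isCharacter_powMap hk'c (isCharacter_altSquare F.isCharacter_ζ)
  have hB : Cfsg.IsCharacter G (fun g => f (g ^ k') * f (g ^ k')) :=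
    CfsgLib.CharGalois.isCharacter_powMap hk'c
      (CfsgLib.Char.IsCharacter.mul F.isCharacter_ζ F.isCharacter_ζ)
  obtain ⟨cA, LA, hcA, hcA'⟩ := F.exists_coef hA 1 fun r v => by
    simp only [hsq, hdbl]
    push_cast; ring
  obtain ⟨cB, LB, hcB, hcB'⟩ := F.exists_coef hB 2 fun r v => by
    simp only [hsq]
    push_cast; ring
  obtain ⟨hLA, hsA, hdA⟩ := F.coef_bound hcA'
  obtain ⟨hLB, hsB, hdB⟩ := F.coef_bound hcB'
  rw [← ht] at hdA hdB hsA
  have hdegf : ∀ (g : G → ℂ) (c : IrrCharacter G → ℕ), g = ∑ χ, (c χ : ℂ) • (χ : G → ℂ) →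
      g 1 = ((∑ χ : IrrCharacter G, (c χ : ℤ) * (charDegree (χ : G → ℂ) : ℤ) : ℤ) : ℂ) := by
    intro g c hg
    rw [hg]
    push_cast
    simp [CharTools.irr_degree_cast]
  have hp2 : ((p - 2 : ℕ) : ℤ) = (p : ℤ) - 2 := by
    rw [Nat.cast_sub (by have := F.five_lt; omega)]; rfl
  have hAdeg : 2 * (∑ χ : IrrCharacter G, (cA χ : ℤ) * (charDegree (χ : G → ℂ) : ℤ)) =
      ((p : ℤ) - 2) * ((p : ℤ) - 3) := by
    have h1 := hdegf _ cA hcA
    simp only [one_pow, mul_one] at h1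
    rw [show f 1 = ((p - 2 : ℕ) : ℂ) from F.natCast_deg, Nat.cast_sub (by have := F.five_lt; omega)] at h1
    have : ((2 * (∑ χ : IrrCharacter G, (cA χ : ℤ) * (charDegree (χ : G → ℂ) : ℤ)) : ℤ) : ℂ) =
        ((((p : ℤ) - 2) * ((p : ℤ) - 3) : ℤ) : ℂ) := by
      rw [Int.cast_mul, ← h1]; push_cast; ring
    exact_mod_cast this
  have hBdeg : (∑ χ : IrrCharacter G, (cB χ : ℤ) * (charDegree (χ : G → ℂ) : ℤ)) =
      ((p : ℤ) - 2) * ((p : ℤ) - 2) := by
    have h1 := hdegf _ cB hcB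
    simp only [one_pow] at h1
    rw [show f 1 = ((p - 2 : ℕ) : ℂ) from F.natCast_deg, Nat.cast_sub (by have := F.five_lt; omega)] at h1
    have : (((∑ χ : IrrCharacter G, (cB χ : ℤ) * (charDegree (χ : G → ℂ) : ℤ)) : ℤ) : ℂ) =
        ((((p : ℤ) - 2) * ((p : ℤ) - 2) : ℤ) : ℂ) := by
      rw [← h1]; push_cast; ring
    exact_mod_cast this
  have hn0 : (0 : ℤ) < (p : ℤ) - 2 := by have := F.five_lt; omega
  have htz : 2 * (t : ℤ) + 1 = (p : ℤ) := by exact_mod_cast h2t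
  have hrest : ∀ c : IrrCharacter G → ℕ,
      0 ≤ ∑ χ ∈ Finset.univ \ F.moved, (c χ : ℤ) * (charDegree (χ : G → ℂ) : ℤ) :=
    fun c => Finset.sum_nonneg fun χ _ => by positivity
  have htpos : (0 : ℤ) < (t : ℤ) := by have := F.five_lt; omega
  have hA1 : ((p : ℤ) - 2) * ((t : ℤ) * (LA - 1)) +
      ∑ χ ∈ Finset.univ \ F.moved, (cA χ : ℤ) * (charDegree (χ : G → ℂ) : ℤ) = 0 := by
    have e : 2 * (((p : ℤ) - 2) * ((t : ℤ) - 1)) = ((p : ℤ) - 2) * ((p : ℤ) - 3) := by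
      rw [show ((p : ℤ) - 3) = 2 * ((t : ℤ) - 1) by omega]; ring
    have e2 : 2 * (((p : ℤ) - 2) * ((t : ℤ) * (LA - 1)) +
        ∑ χ ∈ Finset.univ \ F.moved, (cA χ : ℤ) * (charDegree (χ : G → ℂ) : ℤ)) = 0 := by
      linear_combination hAdeg - 2 * hdA - e
    omega
  have hA2 : 0 ≤ ((p : ℤ) - 2) * ((t : ℤ) * (LA - 1)) :=
    mul_nonneg hn0.le (mul_nonneg htpos.le (by omega))
  have hLA1 : LA = 1 := by
    have h0 : ((p : ℤ) - 2) * ((t : ℤ) * (LA - 1)) = 0 := by have := hrest cA; omega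
    rcases mul_eq_zero.1 h0 with e | e
    · omega
    rcases mul_eq_zero.1 e with e | e <;> omega
  have hoff : ∀ χ, χ ∉ F.moved → cA χ = 0 := by
    intro χ hχ
    have h0 : ∑ χ ∈ Finset.univ \ F.moved, (cA χ : ℤ) * (charDegree (χ : G → ℂ) : ℤ) = 0 := by
      have := hrest cA; omega
    have h1 := (Finset.sum_eq_zero_iff_of_nonneg fun χ _ => by positivity).1 h0 χ
      (Finset.mem_sdiff.2 ⟨Finset.mem_univ _, hχ⟩)
    have h2 := (CharTools.irr_degree_pos χ).ne'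
    rcases mul_eq_zero.1 h1 with e | e
    · exact_mod_cast e
    · exact absurd (by exact_mod_cast e) h2
  have hLB2 : LB ≤ 2 := by
    by_contra hcon
    have h1 : ((p : ℤ) - 2) * ((t : ℤ) * LB - 1) ≤ ((p : ℤ) - 2) * ((p : ℤ) - 2) := by
      have := hrest cB; omega
    have h2 := le_of_mul_le_mul_left h1 hn0
    have h3 : (t : ℤ) * 3 ≤ (t : ℤ) * LB := mul_le_mul_of_nonneg_left (by omega) htpos.le
    omega
  obtain ⟨L, rfl⟩ : ∃ L : ℕ, LB = (L : ℤ) := ⟨LB.toNat, (Int.toNat_of_nonneg (by omega)).symm⟩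
  refine ⟨k, k', t, L, h2t, by omega, by omega, hkk, hxk', hodd, htwo, fun y hy => ?_, ?_⟩
  · -- the identity on regular elements
    set y' := y ^ k
    have hy' : ¬ p ∣ orderOf y' := fun hd => hy (hd.trans (orderOf_pow_dvd k))
    have h1 : (f y * f y - f (y * y)) / 2 = ((t : ℂ) - 1) * f y' := by
      have h2 := congrFun hcA y'
      simp only [y', (hkk y).1, Finset.sum_apply, Pi.smul_apply, smul_eq_mul] at h2
      rw [h2, ← Finset.sum_subset (Finset.subset_univ F.moved) fun χ _ hχ => by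
        rw [hoff χ hχ, Nat.cast_zero, zero_mul],
        Finset.sum_congr rfl (g := fun θ => (cA θ : ℂ) * f y') fun θ hθ => by
          obtain ⟨j, -, rfl⟩ := Finset.mem_image.1 hθ
          rw [F.tw_regular j hy'], ← Finset.sum_mul]
      congr 1
      have h3 : ((∑ θ ∈ F.moved, (cA θ : ℤ) : ℤ) : ℂ) = (((t : ℤ) * LA - 1 : ℤ) : ℂ) := by
        rw [hsA]
      rw [hLA1] at h3
      push_cast at h3
      rw [h3, mul_one]
    have ht' : ((p - 3 : ℕ) : ℂ) = 2 * ((t : ℂ) - 1) := by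
      rw [Nat.cast_sub (by have := F.five_lt; omega), ← h2t]; push_cast; ring
    rw [ht']
    linear_combination 2 * h1
  · intro _
    have h1 := CfsgLib.Char.classInner_sum_smul_sum_smul (G := G) (fun χ => (cA χ : ℂ))
      (fun χ => (cB χ : ℂ))
    rw [← hcA, ← hcB, Cfsg.classInner] at h1
    rw [inv_mul_eq_iff_eq_mul₀ (Nat.cast_ne_zero.2 Nat.card_pos.ne')] at h1
    rw [h1]
    congr 1
    simp only [map_natCast]
    rw [← Finset.sum_subset (Finset.subset_univ F.moved) fun χ _ hχ => by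
      rw [hoff χ hχ, Nat.cast_zero, zero_mul]]
    have h3 : ((∑ θ ∈ F.moved, (cA θ : ℤ) * (cB θ : ℤ) : ℤ) : ℂ) =
        ((((t : ℤ) - 1) * (L : ℤ) : ℤ) : ℂ) := by
      congr 1
      rw [Finset.sum_congr rfl (g := fun θ => (cA θ : ℤ) * (L : ℤ)) fun θ hθ => ?_, ← Finset.sum_mul,
        hsA, hLA1, mul_one]
      rw [hcA' θ hθ, hcB' θ hθ, hLA1]
      split_ifs <;> ring
    push_cast at h3
    exact h3

end Faithful

end CfsgLib.ItoPrimeDegree
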