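import Cfsg.Agent.Lib.ItoPrimeDegree.FaithfulValues

/-!
A faithful character of degree `p - 2` of a perfect group: the order of the group and the number of
involutions.
-/

set_option autoImplicit false
set_option linter.style.haveILetI false
set_option linter.unusedSectionVars false

namespace CfsgLib.ItoPrimeDegree

open Cfsg CfsgLib.DefectOne
open scoped ComplexConjugate Classical

universe u

variable {G : Type u} [Group G] [Finite G] {p : ℕ} [Fact p.Prime] {x : G}

theorem conj_cz (b : ZMod p) : conj (cz b) = cz b := by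
  rw [cz, map_add, conj_zc, conj_zc, neg_neg, add_comm]

namespace Faithful

variable (F : Faithful p x)

include F

theorem card_norm₁ : Nat.card (norm₁ x) = 2 * (p * Nat.card (regPart p x)) := by
  rw [← F.hyp.card_cent, ← F.relIndex_eq, Subgroup.relIndex,
    ← Nat.card_congr (Subgroup.subgroupOfEquivOfLe (cent_le_norm F.hyp)).toEquiv, mul_comm,
    Subgroup.card_mul_index]

theorem sum_singular [Fintype G] {f : G → ℂ} (hf : Cfsg.IsClassFunction G f) :
    (2 * ((p : ℂ) * (Nat.card (regPart p x) : ℂ))) *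
        ∑ g ∈ Finset.univ.filter (fun g : G => p ∣ orderOf g), f g =
      (Nat.card G : ℂ) * ∑ r : (ZMod p)ˣ, ∑ᶠ v : regPart p x, f (x ^ (r : ZMod p).val * (v : G)) := by
  haveI := Fintype.ofFinite (regPart p x)
  simp only [finsum_eq_sum_of_fintype]
  set Φ : G × ((ZMod p)ˣ × regPart p x) → G :=
    fun t => t.1 * (x ^ (t.2.1 : ZMod p).val * (t.2.2 : G)) * t.1⁻¹ with hΦ
  have hmap : ∀ t ∈ (Finset.univ : Finset (G × ((ZMod p)ˣ × regPart p x))),
      Φ t ∈ Finset.univ.filter fun g : G => p ∣ orderOf g := by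
    intro t _
    refine Finset.mem_filter.2 ⟨Finset.mem_univ _, ?_⟩
    rw [hΦ, show orderOf (t.1 * (x ^ (t.2.1 : ZMod p).val * (t.2.2 : G)) * t.1⁻¹) =
      orderOf (x ^ (t.2.1 : ZMod p).val * (t.2.2 : G)) from
        orderOf_injective (MulAut.conj t.1).toMonoidHom (MulAut.conj t.1).injective _]
    exact F.hyp.singular_pow_mul (F.hyp.not_dvd_val _) _
  have h1 := Finset.sum_fiberwise_of_maps_to hmap fun t => f (Φ t)
  have h2 : ∀ g ∈ Finset.univ.filter (fun g : G => p ∣ orderOf g),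
      ∑ t ∈ Finset.univ.filter (fun t => Φ t = g), f (Φ t) =
        (Nat.card (norm₁ x) : ℂ) * f g := by
    intro g hg
    rw [Finset.sum_congr rfl fun t ht => by rw [(Finset.mem_filter.1 ht).2], Finset.sum_const,
      nsmul_eq_mul]
    congr 2
    obtain ⟨c, i, w, hi, -, hc⟩ := F.hyp.exists_conj_singular (Finset.mem_filter.1 hg).2
    have hi0 : (i : ZMod p) ≠ 0 := fun e => hi ((ZMod.natCast_eq_zero_iff _ _).1 e)
    set r₀ : (ZMod p)ˣ := Units.mk0 _ hi0
    have hpow : x ^ (r₀ : ZMod p).val = x ^ i := by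
      rw [Units.val_mk0, F.hyp.pow_val_cast]
    have hg0 : g = c⁻¹ * (x ^ (r₀ : ZMod p).val * (w : G)) * c := by rw [hpow, ← hc]; group
    rw [Nat.card_eq_fintype_card, Fintype.card_subtype]
    refine Finset.card_bij (fun t _ => c * t.1) (fun t ht => ?_) (fun t ht t' ht' e => ?_)
      fun n hn => ?_
    · refine Finset.mem_filter.2 ⟨Finset.mem_univ _, ?_⟩
      have e : Φ t = g := (Finset.mem_filter.1 ht).2
      refine (F.hyp.conj_singular (i := (t.2.1 : ZMod p).val) (j := (r₀ : ZMod p).val) (v := t.2.2)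
        (w := w) (F.hyp.not_dvd_val _) ?_).1
      rw [hpow, ← hc, ← e, hΦ]
      group
    · have e1 : t.1 = t'.1 := mul_left_cancel e
      have e2 : Φ t = Φ t' := (Finset.mem_filter.1 ht).2.trans (Finset.mem_filter.1 ht').2.symm
      simp only [hΦ, e1] at e2
      have e3 := F.hyp.decomp_unique (mul_left_cancel (mul_right_cancel e2))
      rw [Nat.mod_eq_of_lt (ZMod.val_lt _), Nat.mod_eq_of_lt (ZMod.val_lt _)] at e3
      exact Prod.ext e1 (Prod.ext (Units.ext (ZMod.val_injective p e3.1)) e3.2)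
    · obtain ⟨-, hn⟩ := Finset.mem_filter.1 hn
      refine ⟨(c⁻¹ * n, (kHom F.hyp (⟨n, hn⟩ : norm₁ x)⁻¹ * r₀, w)),
        Finset.mem_filter.2 ⟨Finset.mem_univ _, ?_⟩, mul_inv_cancel_left c n⟩
      have h3 := F.hyp.conj_pow_val (⟨n, hn⟩ : norm₁ x)⁻¹ (r₀ : ZMod p)
      rw [InvMemClass.coe_inv, inv_inv] at h3
      simp only [hΦ, Units.val_mul, ← h3]
      rw [hg0]
      have hw := Subgroup.mem_center_iff.1 (F.central w) n
      calc c⁻¹ * n * (n⁻¹ * x ^ (r₀ : ZMod p).val * n * (w : G)) * (c⁻¹ * n)⁻¹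
          = c⁻¹ * x ^ (r₀ : ZMod p).val * (n * (w : G)) * n⁻¹ * c := by group
        _ = c⁻¹ * x ^ (r₀ : ZMod p).val * ((w : G) * n) * n⁻¹ * c := by rw [hw]
        _ = _ := by group
  rw [Finset.sum_congr rfl h2, ← Finset.mul_sum] at h1
  rw [F.card_norm₁] at h1
  push_cast at h1
  rw [h1, Fintype.sum_prod_type, Finset.sum_congr rfl fun u _ => Finset.sum_congr rfl
    fun t _ => show f (Φ (u, t)) = f (x ^ (t.1 : ZMod p).val * (t.2 : G)) from hf _ _,
    Finset.sum_const, Finset.card_univ, nsmul_eq_mul, Nat.card_eq_fintype_card,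
    Fintype.sum_prod_type]

variable {k : ℕ}
  (hkey : ∀ y : G, ¬ p ∣ orderOf y → (F.ζ : G → ℂ) y * (F.ζ : G → ℂ) y - (F.ζ : G → ℂ) (y * y) =
    ((p - 3 : ℕ) : ℂ) * (F.ζ : G → ℂ) (y ^ k))
  (hodd : ∀ y : G, ¬ p ∣ orderOf y → ¬ 2 ∣ orderOf y → y ^ k = y * y)
  (htwo : ∀ (y : G) (j : ℕ), orderOf y = 2 ^ j → y ^ k = y)

theorem reg_sq_ne_one (v : regPart p x) (hv : v * v = 1) : v = 1 := by
  have h1 : orderOf (v : G) ∣ 2 := orderOf_dvd_of_pow_eq_one (by
    rw [pow_two, ← Subgroup.coe_mul, hv, Subgroup.coe_one])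
  rcases (Nat.dvd_prime Nat.prime_two).1 h1 with e | e
  · exact Subtype.ext (orderOf_eq_one_iff.1 e)
  · exact absurd (e ▸ dvd_refl _) (F.not_two_dvd_orderOf v)

theorem involution_not_central {a : G} (ha : a * a = 1) (ha1 : a ≠ 1) :
    a ∉ Subgroup.center G := fun h => by
  obtain ⟨v, rfl⟩ := F.exists_reg_of_central h
  exact ha1 (congrArg Subtype.val (F.reg_sq_ne_one v (Subtype.ext ha)))

include hkey htwo in
theorem card_sq_central [Fintype G] :
    (Finset.univ.filter fun g : G => g ∉ Subgroup.center G ∧ g * g ∈ Subgroup.center G).card =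
      Nat.card {a : G // a * a = 1 ∧ a ≠ 1} * Nat.card (regPart p x) := by
  rw [← Nat.card_prod, ← Fintype.card_subtype, ← Nat.card_eq_fintype_card]
  refine (Nat.card_congr (Equiv.ofBijective
    (fun t : {a : G // a * a = 1 ∧ a ≠ 1} × regPart p x =>
      (⟨(t.1 : G) * (t.2 : G), ?_, ?_⟩ : {g : G // g ∉ Subgroup.center G ∧ g * g ∈ Subgroup.center G}))
    ⟨?_, ?_⟩)).symm
  · intro h
    have h' := mul_mem h (inv_mem (F.central t.2))
    rw [mul_inv_cancel_right] at h'
    exact F.involution_not_central t.1.2.1 t.1.2.2 h'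
  · have hc := Subgroup.mem_center_iff.1 (F.central t.2) (t.1 : G)
    rw [show (t.1 : G) * (t.2 : G) * ((t.1 : G) * (t.2 : G)) = (t.2 : G) * (t.2 : G) by
      calc (t.1 : G) * (t.2 : G) * ((t.1 : G) * (t.2 : G))
          = (t.1 : G) * ((t.2 : G) * (t.1 : G)) * (t.2 : G) := by group
        _ = (t.1 : G) * ((t.1 : G) * (t.2 : G)) * (t.2 : G) := by rw [hc]
        _ = (t.1 : G) * (t.1 : G) * ((t.2 : G) * (t.2 : G)) := by group
        _ = _ := by rw [t.1.2.1, one_mul]]
    exact mul_mem (F.central t.2) (F.central t.2)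
  · intro t t' e
    have e' : (t.1 : G) * (t.2 : G) = (t'.1 : G) * (t'.2 : G) := congrArg Subtype.val e
    have hd : (t'.2 * t.2⁻¹) = 1 := by
      refine F.reg_sq_ne_one _ (Subtype.ext ?_)
      have h1 : ((t'.2 * t.2⁻¹ : regPart p x) : G) = (t'.1 : G)⁻¹ * (t.1 : G) := by
        rw [Subgroup.coe_mul, InvMemClass.coe_inv, eq_inv_mul_iff_mul_eq, ← mul_assoc, ← e',
          mul_inv_cancel_right]
      have hcw := Subgroup.mem_center_iff.1 (F.central (t'.2 * t.2⁻¹)) (t'.1 : G)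
      have h2 : (t.1 : G) = (t'.1 : G) * ((t'.2 * t.2⁻¹ : regPart p x) : G) := by
        rw [h1, mul_inv_cancel_left]
      set c := ((t'.2 * t.2⁻¹ : regPart p x) : G)
      rw [Subgroup.coe_mul, Subgroup.coe_one]
      calc c * c = (t'.1 : G) * (t'.1 : G) * (c * c) := by rw [t'.1.2.1, one_mul]
        _ = (t'.1 : G) * ((t'.1 : G) * c) * c := by group
        _ = (t'.1 : G) * (c * (t'.1 : G)) * c := by rw [hcw]
        _ = (t'.1 : G) * c * ((t'.1 : G) * c) := by group
        _ = 1 := by rw [← h2, t.1.2.1]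
    rw [mul_inv_eq_one] at hd
    refine Prod.ext (Subtype.ext ?_) hd.symm
    rw [hd] at e'
    exact mul_right_cancel e'
  · rintro ⟨g, hg1, hg2⟩
    obtain ⟨a, v, ha, ha1, hav, -⟩ := F.value_sq_central hkey htwo hg1 hg2
    exact ⟨(⟨a, ha, ha1⟩, v), Subtype.ext hav⟩

theorem sum_split [Fintype G] (H : G → ℂ)
    (hH : ∀ g : G, ¬ p ∣ orderOf g → g * g ∉ Subgroup.center G → H g = 0) :
    ∑ g, H g = (∑ g ∈ Finset.univ.filter (fun g : G => p ∣ orderOf g), H g) +
      ((∑ g ∈ Finset.univ.filter (fun g : G => g ∈ Subgroup.center G), H g) +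
        ∑ g ∈ Finset.univ.filter
          (fun g : G => g ∉ Subgroup.center G ∧ g * g ∈ Subgroup.center G), H g) := by
  simp only [Finset.sum_filter, ← Finset.sum_add_distrib]
  refine Finset.sum_congr rfl fun g _ => ?_
  have hreg : ∀ y : G, y ∈ Subgroup.center G → ¬ p ∣ orderOf y := fun y hy => by
    obtain ⟨v, rfl⟩ := F.exists_reg_of_central hy
    exact (F.hyp.mem_regPart_iff.1 v.2).2
  by_cases h1 : p ∣ orderOf g
  · have h2 : g * g ∉ Subgroup.center G := fun h =>
      hreg _ h (dvd_orderOf_sq (by have := F.five_lt; omega) h1)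
    have h3 : g ∉ Subgroup.center G := fun h => hreg _ h h1
    simp [h1, h2, h3]
  · by_cases h3 : g ∈ Subgroup.center G
    · simp [h1, h3]
    · by_cases h2 : g * g ∈ Subgroup.center G
      · simp [h1, h2, h3]
      · simp [h1, h2, h3, hH g h1 h2]

theorem odd_card_reg : ¬ 2 ∣ Nat.card (regPart p x) := fun h => by
  haveI := Fact.mk Nat.prime_two
  obtain ⟨v, hv⟩ := exists_prime_orderOf_dvd_card' 2 h
  exact F.not_two_dvd_orderOf v (by rw [Subgroup.orderOf_coe, hv])

/-- The order of the group and the number of involutions. -/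
theorem count_data : ∃ k : ℕ,
    (∀ y : G, ¬ p ∣ orderOf y → (F.ζ : G → ℂ) y * (F.ζ : G → ℂ) y - (F.ζ : G → ℂ) (y * y) =
      ((p - 3 : ℕ) : ℂ) * (F.ζ : G → ℂ) (y ^ k)) ∧
    (∀ y : G, ¬ p ∣ orderOf y → ¬ 2 ∣ orderOf y → y ^ k = y * y) ∧
    (∀ (y : G) (j : ℕ), orderOf y = 2 ^ j → y ^ k = y) ∧
    Nat.card G = p * (p - 1) * (p - 2) * Nat.card (regPart p x) ∧
    Nat.card {a : G // a * a = 1 ∧ a ≠ 1} = p * (p - 2) := by
  obtain ⟨k, k', t, L, h2t, hL1, hL2, hkk, hxk', hodd, htwo, hkey, halt⟩ := F.block_data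
  refine ⟨k, hkey, hodd, htwo, ?_⟩
  haveI := Fintype.ofFinite G
  haveI := Fintype.ofFinite (regPart p x)
  have hp5 := F.five_lt
  have halt := halt
  set f := (F.ζ : G → ℂ) with hf
  set d := Nat.card (regPart p x) with hd
  set I := Nat.card {a : G // a * a = 1 ∧ a ≠ 1} with hI
  set n : ℂ := ((p - 2 : ℕ) : ℂ) with hn
  have ht' : ((p - 3 : ℕ) : ℂ) = 2 * ((t : ℂ) - 1) := by
    rw [Nat.cast_sub (by omega), ← h2t]; push_cast; ring
  -- roots in the centre
  set v' : regPart p x → regPart p x := fun v => v ^ k' with hv'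
  have hvv : ∀ v : regPart p x, v' v * v' v = v := fun v => by
    refine Subtype.ext ?_
    rw [Subgroup.coe_mul, hv', Subgroup.coe_pow, ← (Commute.refl (v : G)).mul_pow,
      ← hodd _ (F.hyp.mem_regPart_iff.1 v.2).2 (F.not_two_dvd_orderOf v), (hkk _).1]
  have hφv : ∀ v : regPart p x,
      (F.φ : regPart p x → ℂ) (v' v) * (F.φ : regPart p x → ℂ) (v' v) =
        (F.φ : regPart p x → ℂ) v := fun v => by rw [← F.φ_mul, hvv]
  have hφc : ∀ v : regPart p x,
      (F.φ : regPart p x → ℂ) v * conj ((F.φ : regPart p x → ℂ) v) = 1 := fun v => by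
    rw [mul_comm]; exact F.φ_conj_mul v
  have hpw : ∀ (r : (ZMod p)ˣ) (v : regPart p x), (x ^ (r : ZMod p).val * (v : G)) ^ k' =
      x ^ (r : ZMod p).val * ((v' v : regPart p x) : G) := by
    intro r v
    rw [((F.hyp.commute_regPart v).symm.pow_left _).mul_pow, ← pow_mul, mul_comm _ k', pow_mul,
      hxk', hv', Subgroup.coe_pow]
  set H1 : G → ℂ := fun g => f g * conj (f g) with hH1
  set H2 : G → ℂ := fun g => (f (g ^ k') * f (g ^ k') - f (g ^ k' * g ^ k')) / 2 *
    conj (f (g ^ k') * f (g ^ k')) with hH2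
  have hclf := CfsgLib.Char.IsIrrCharacter.isClassFunction F.ζ.2
  have hcl1 : Cfsg.IsClassFunction G H1 := fun g c => by simp only [hH1, hf, hclf g c]
  have hcl2 : Cfsg.IsClassFunction G H2 := fun g c => by
    have e1 : (c * g * c⁻¹) ^ k' = c * g ^ k' * c⁻¹ := conj_pow
    have e2 : c * g ^ k' * c⁻¹ * (c * g ^ k' * c⁻¹) = c * (g ^ k' * g ^ k') * c⁻¹ := by group
    simp only [hH2, hf, e1, e2, hclf _ c]
  -- the values
  have hA : ∀ g : G, ¬ p ∣ orderOf g →
      (f (g ^ k') * f (g ^ k') - f (g ^ k' * g ^ k')) / 2 = ((t : ℂ) - 1) * f g := by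
    intro g hg
    have h1 := hkey (g ^ k') fun h => hg (h.trans (orderOf_pow_dvd _))
    rw [(hkk g).2, ht'] at h1
    linear_combination h1 / 2
  have hz1 : ∀ g : G, ¬ p ∣ orderOf g → g * g ∉ Subgroup.center G → H1 g = 0 := fun g h1 h2 => by
    simp [hH1, hf, F.value_zero hkey hodd htwo h1 h2]
  have hz2 : ∀ g : G, ¬ p ∣ orderOf g → g * g ∉ Subgroup.center G → H2 g = 0 := fun g h1 h2 => by
    rw [hH2]
    show _ / 2 * _ = 0
    rw [hA g h1, hf, F.value_zero hkey hodd htwo h1 h2, mul_zero, zero_mul]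
  have hc1 : ∀ v : regPart p x, H1 (v : G) = n * n := fun v => by
    simp only [hH1, hf, F.val_reg, map_mul, map_natCast, hn]
    linear_combination ((p - 2 : ℕ) : ℂ) * ((p - 2 : ℕ) : ℂ) * hφc v
  have hc2 : ∀ v : regPart p x, H2 (v : G) = ((t : ℂ) - 1) * (n * n * n) := fun v => by
    have e : ((v : G)) ^ k' = ((v' v : regPart p x) : G) := by rw [hv', Subgroup.coe_pow]
    show _ / 2 * _ = _
    rw [hA _ (F.hyp.mem_regPart_iff.1 v.2).2, e]
    simp only [hf, F.val_reg, map_mul, map_natCast, hn]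
    have := hφv v
    have h' : conj ((F.φ : regPart p x → ℂ) (v' v)) * conj ((F.φ : regPart p x → ℂ) (v' v)) =
        conj ((F.φ : regPart p x → ℂ) v) := by rw [← map_mul, this]
    linear_combination ((t : ℂ) - 1) * ((p - 2 : ℕ) : ℂ) * ((p - 2 : ℕ) : ℂ) * ((p - 2 : ℕ) : ℂ) *
      ((F.φ : regPart p x → ℂ) v * h' + hφc v)
  have hw : ∀ g : G, g ∉ Subgroup.center G → g * g ∈ Subgroup.center G →
      H1 g = 1 ∧ H2 g = -((t : ℂ) - 1) := by
    intro g hg1 hg2
    obtain ⟨a, v, ha, ha1, rfl, hv⟩ := F.value_sq_central hkey htwo hg1 hg2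
    have hr : ¬ p ∣ orderOf (a * (v : G)) := fun h => by
      obtain ⟨w, hw⟩ := F.exists_reg_of_central hg2
      exact (F.hyp.mem_regPart_iff.1 w.2).2 (hw ▸ dvd_orderOf_sq (by omega) h)
    refine ⟨?_, ?_⟩
    · simp only [hH1, hf, hv, map_neg]
      linear_combination hφc v
    · have ho : orderOf a = 2 ^ 1 := by
        rw [pow_one]
        exact orderOf_eq_prime_iff.2 ⟨by rw [pow_two, ha], ha1⟩
      have hak : a ^ k' = a := by
        conv_lhs => rw [← htwo a 1 ho]
        exact (hkk a).1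
      have hc : Commute a (v : G) := Subgroup.mem_center_iff.1 (F.central v) a
      have e : (a * (v : G)) ^ k' = a * ((v' v : regPart p x) : G) := by
        rw [hc.mul_pow, hak, hv', Subgroup.coe_pow]
      show _ / 2 * _ = _
      rw [hA _ hr, e]
      simp only [hf, hv, F.apply_mul_reg a, F.value_involution hkey htwo ha ha1, map_mul, map_neg,
        map_one]
      have h' : conj ((F.φ : regPart p x → ℂ) (v' v)) * conj ((F.φ : regPart p x → ℂ) (v' v)) =
          conj ((F.φ : regPart p x → ℂ) v) := by rw [← map_mul, hφv v]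
      linear_combination -((t : ℂ) - 1) * ((F.φ : regPart p x → ℂ) v * h' + hφc v)
  -- the sums
  have hsumZ : ∀ (H : G → ℂ) (c : ℂ), (∀ v : regPart p x, H (v : G) = c) →
      ∑ g ∈ Finset.univ.filter (fun g : G => g ∈ Subgroup.center G), H g = (d : ℂ) * c := by
    intro H c hH
    rw [Finset.sum_subtype (p := fun g => g ∈ regPart p x) _ (fun g => by simp [F.regPart_eq]),
      Finset.sum_congr rfl fun v _ => hH v, Finset.sum_const, Finset.card_univ, nsmul_eq_mul, hd,
      Nat.card_eq_fintype_card]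
  have hsumW : ∀ (H : G → ℂ) (c : ℂ), (∀ g : G, g ∉ Subgroup.center G →
      g * g ∈ Subgroup.center G → H g = c) →
      ∑ g ∈ Finset.univ.filter (fun g : G => g ∉ Subgroup.center G ∧ g * g ∈ Subgroup.center G),
        H g = ((I * d : ℕ) : ℂ) * c := by
    intro H c hH
    rw [Finset.sum_congr rfl fun g hg => hH g (Finset.mem_filter.1 hg).2.1
      (Finset.mem_filter.1 hg).2.2, Finset.sum_const, nsmul_eq_mul,
      F.card_sq_central hkey htwo]
  have hS : ∀ (H : G → ℂ) (c : ℂ), Cfsg.IsClassFunction G H →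
      (∀ v : regPart p x, ∑ r : (ZMod p)ˣ, H (x ^ (r : ZMod p).val * (v : G)) = c) →
      2 * (p : ℂ) * ∑ g ∈ Finset.univ.filter (fun g : G => p ∣ orderOf g), H g =
        (Nat.card G : ℂ) * c := by
    intro H c hH hc
    have h := F.sum_singular hH
    simp only [finsum_eq_sum_of_fintype] at h
    rw [Finset.sum_comm, Finset.sum_congr rfl fun v _ => hc v, Finset.sum_const, Finset.card_univ,
      nsmul_eq_mul, ← Nat.card_eq_fintype_card, ← hd] at h
    have hd0 : (d : ℂ) ≠ 0 := Nat.cast_ne_zero.2 (by rw [hd]; exact Nat.card_pos.ne')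
    refine mul_left_cancel₀ hd0 ?_
    linear_combination h
  have ha0 : ∀ c : ℕ, 0 < c → c < p → (c : ZMod p) * (F.a : ZMod p) ≠ 0 := fun c h1 h2 =>
    mul_ne_zero (natCast_ne_zero_of_lt h1 h2) (Units.ne_zero _)
  have hsum2 : ∑ r : (ZMod p)ˣ, cz ((r : ZMod p) * (2 * (F.a : ZMod p))) = -2 := by
    refine sum_cz_units ?_
    have := ha0 2 two_pos (by omega)
    simpa using this
  have hsum4 : ∑ r : (ZMod p)ˣ, cz ((r : ZMod p) * (4 * (F.a : ZMod p))) = -2 := by
    refine sum_cz_units ?_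
    have := ha0 4 (by norm_num) (by omega)
    simpa using this
  have hpc : ((p - 1 : ℕ) : ℂ) = (p : ℂ) - 1 := by rw [Nat.cast_sub (by omega)]; norm_num
  have hS1 : 2 * (p : ℂ) * ∑ g ∈ Finset.univ.filter (fun g : G => p ∣ orderOf g), H1 g =
      (Nat.card G : ℂ) * (2 * (p : ℂ) - 4) := by
    refine hS H1 _ hcl1 fun v => ?_
    rw [Finset.sum_congr rfl (g := fun r : (ZMod p)ˣ =>
      2 + cz ((r : ZMod p) * (2 * (F.a : ZMod p)))) fun r _ => ?_, Finset.sum_add_distrib, hsum2,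
      Finset.sum_const, Finset.card_univ, ZMod.card_units, nsmul_eq_mul, hpc]
    · ring
    · simp only [hH1, hf, F.val_sing, map_mul, map_neg, conj_cz]
      rw [show (r : ZMod p) * (2 * (F.a : ZMod p)) = 2 * ((r : ZMod p) * (F.a : ZMod p)) by ring,
        ← cz_mul_self]
      linear_combination cz ((r : ZMod p) * (F.a : ZMod p)) * cz ((r : ZMod p) * (F.a : ZMod p)) * hφc v
  have hS2 : 2 * (p : ℂ) * ∑ g ∈ Finset.univ.filter (fun g : G => p ∣ orderOf g), H2 g =
      (Nat.card G : ℂ) * (4 * (p : ℂ) - 12) := by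
    refine hS H2 _ hcl2 fun v => ?_
    rw [Finset.sum_congr rfl (g := fun r : (ZMod p)ˣ =>
      4 + 3 * cz ((r : ZMod p) * (2 * (F.a : ZMod p))) + cz ((r : ZMod p) * (4 * (F.a : ZMod p))))
      fun r _ => ?_, Finset.sum_add_distrib, Finset.sum_add_distrib, hsum4, ← Finset.mul_sum, hsum2,
      Finset.sum_const, Finset.card_univ, ZMod.card_units, nsmul_eq_mul, hpc]
    · ring
    · have h2 : ((2 : ℕ) : ZMod p) ≠ 0 := natCast_ne_zero_of_lt two_pos (by omega)
      set i := (r : ZMod p).val with hi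
      have e : x ^ i * ((v' v : regPart p x) : G) * (x ^ i * ((v' v : regPart p x) : G)) =
          x ^ (((Units.mk0 _ h2 * r : (ZMod p)ˣ) : ZMod p)).val * (v : G) := by
        rw [Units.val_mul, Units.val_mk0,
          show ((2 : ℕ) : ZMod p) * (r : ZMod p) = ((2 * i : ℕ) : ZMod p) by
            rw [Nat.cast_mul, hi, ZMod.natCast_zmod_val],
          F.hyp.pow_val_cast, two_mul, pow_add]
        have hc := (F.hyp.commute_regPart (v' v)).pow_right i
        set w := v' v
        calc x ^ i * (w : G) * (x ^ i * (w : G)) = x ^ i * ((w : G) * x ^ i) * (w : G) := by group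
          _ = x ^ i * (x ^ i * (w : G)) * (w : G) := by rw [hc.eq]
          _ = x ^ i * x ^ i * ((w * w : regPart p x) : G) := by rw [Subgroup.coe_mul]; group
          _ = _ := by rw [hvv v]
      show _ / 2 * _ = _
      rw [hi, hpw]
      rw [hi] at e
      simp only [hf]
      rw [e, F.val_sing, F.val_sing]
      simp only [map_mul, map_neg, conj_cz, Units.val_mul, Units.val_mk0]
      push_cast
      set b := (r : ZMod p) * (F.a : ZMod p)
      rw [show (2 : ZMod p) * (r : ZMod p) * (F.a : ZMod p) = 2 * b by ring,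
        show (r : ZMod p) * (2 * (F.a : ZMod p)) = 2 * b by ring,
        show (r : ZMod p) * (4 * (F.a : ZMod p)) = 2 * (2 * b) by ring]
      set w := v' v
      have hw2 := hφv v
      have hwc : conj ((F.φ : regPart p x → ℂ) w) * conj ((F.φ : regPart p x → ℂ) w) =
          conj ((F.φ : regPart p x → ℂ) v) := by rw [← map_mul, hw2]
      have hq := cz_mul_self b
      have hq2 := cz_mul_self (2 * b)
      calc (-cz b * (F.φ : regPart p x → ℂ) w * (-cz b * (F.φ : regPart p x → ℂ) w) -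
            -cz (2 * b) * (F.φ : regPart p x → ℂ) v) / 2 *
            (-cz b * conj ((F.φ : regPart p x → ℂ) w) * (-cz b * conj ((F.φ : regPart p x → ℂ) w)))
          = (cz b * cz b * ((F.φ : regPart p x → ℂ) w * (F.φ : regPart p x → ℂ) w) +
              cz (2 * b) * (F.φ : regPart p x → ℂ) v) / 2 *
            (cz b * cz b * (conj ((F.φ : regPart p x → ℂ) w) *
              conj ((F.φ : regPart p x → ℂ) w))) := by ring
        _ = (2 + cz (2 * b) + cz (2 * b)) / 2 * (2 + cz (2 * b)) *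
              ((F.φ : regPart p x → ℂ) v * conj ((F.φ : regPart p x → ℂ) v)) := by
            rw [hw2, hwc, hq]; ring
        _ = 2 + 3 * cz (2 * b) + cz (2 * b) * cz (2 * b) := by rw [hφc]; ring
        _ = _ := by rw [hq2]; ring
  have e1 : ∑ g, H1 g = (Nat.card G : ℂ) := by
    have h := CfsgLib.Char.classInner_irr_self F.ζ.2
    rw [Cfsg.classInner, inv_mul_eq_iff_eq_mul₀ (Nat.cast_ne_zero.2 Nat.card_pos.ne'), mul_one] at h
    exact h
  rw [F.sum_split H1 hz1, hsumZ H1 _ hc1, hsumW H1 1 fun g h1 h2 => (hw g h1 h2).1] at e1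
  have e2 : ∑ g, H2 g = (Nat.card G : ℂ) * (((t : ℂ) - 1) * (L : ℂ)) := halt
  rw [F.sum_split H2 hz2, hsumZ H2 _ hc2, hsumW H2 _ fun g h1 h2 => (hw g h1 h2).2] at e2
  set S1 := ∑ g ∈ Finset.univ.filter (fun g : G => p ∣ orderOf g), H1 g
  set S2 := ∑ g ∈ Finset.univ.filter (fun g : G => p ∣ orderOf g), H2 g
  have hp' : (p : ℂ) = 2 * (t : ℂ) + 1 := by rw [← h2t]; push_cast; ring
  have hn' : n = (p : ℂ) - 2 := by rw [hn, Nat.cast_sub (by omega)]; norm_num
  rw [Nat.cast_mul] at e1 e2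
  have ht1 : (t : ℂ) - 1 ≠ 0 := sub_ne_zero.2 (by
    have : (t : ℕ) ≠ 1 := by omega
    exact_mod_cast this)
  have hb : (p : ℂ) * ((I : ℂ) * d) = 2 * (Nat.card G : ℂ) - (p : ℂ) * n * n * d := by
    linear_combination (p : ℂ) * e1 - hS1 / 2
  have hrel : (Nat.card G : ℂ) * ((p : ℂ) * L - 2) =
      (p : ℂ) * n * n * d * ((p : ℂ) - 1) := by
    refine mul_left_cancel₀ ht1 ?_
    linear_combination -(p : ℂ) * e2 + hS2 / 2 - ((t : ℂ) - 1) * hb +
      ((p : ℂ) * n * n * d * ((t : ℂ) - 1)) * hn' + 2 * (Nat.card G : ℂ) * hp'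
  rw [hn'] at hrel hb
  have hrelZ : (Nat.card G : ℤ) * ((p : ℤ) * L - 2) =
      (p : ℤ) * ((p : ℤ) - 2) * ((p : ℤ) - 2) * d * ((p : ℤ) - 1) := by exact_mod_cast hrel
  have hbZ : (p : ℤ) * ((I : ℤ) * d) =
      2 * (Nat.card G : ℤ) - (p : ℤ) * ((p : ℤ) - 2) * ((p : ℤ) - 2) * d := by exact_mod_cast hb
  have hG : (Nat.card G : ℤ) = (p : ℤ) * ((p : ℤ) - 1) * ((p : ℤ) - 2) * d := by
    rcases (show L = 1 ∨ L = 2 by omega) with rfl | rfl
    · refine mul_right_cancel₀ (b := (p : ℤ) - 2) (by omega) ?_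
      push_cast at hrelZ
      linear_combination hrelZ
    · exfalso
      have h2 : 2 * (Nat.card G : ℤ) = (p : ℤ) * ((p : ℤ) - 2) * ((p : ℤ) - 2) * d := by
        refine mul_right_cancel₀ (b := (p : ℤ) - 1) (by omega) ?_
        push_cast at hrelZ
        linear_combination hrelZ
      have hpar : ∀ a : ℤ, a % 2 = 1 → ∀ b : ℤ, b % 2 = 1 → (a * b) % 2 = 1 := fun a ha b hb => by
        rw [Int.mul_emod, ha, hb]; rfl
      have hpodd : (p : ℤ) % 2 = 1 := by omega
      have hdodd : (d : ℤ) % 2 = 1 := by have := F.odd_card_reg; omega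
      have := hpar _ (hpar _ (hpar _ hpodd ((p : ℤ) - 2) (by omega)) ((p : ℤ) - 2) (by omega)) _ hdodd
      omega
  refine ⟨?_, ?_⟩
  · have : (Nat.card G : ℤ) = ((p * (p - 1) * (p - 2) * d : ℕ) : ℤ) := by
      rw [hG]; push_cast [Nat.cast_sub (show 1 ≤ p by omega), Nat.cast_sub (show 2 ≤ p by omega)]
      ring
    exact_mod_cast this
  · have : (I : ℤ) = ((p * (p - 2) : ℕ) : ℤ) := by
      have hd0 : (d : ℤ) ≠ 0 := Int.natCast_ne_zero.2 (by rw [hd]; exact Nat.card_pos.ne')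
      refine mul_right_cancel₀ hd0 (mul_left_cancel₀ (a := (p : ℤ)) (by omega) ?_)
      push_cast [Nat.cast_sub (show 2 ≤ p by omega)]
      linear_combination hbZ + 2 * hG
    exact_mod_cast this

end Faithful

end CfsgLib.ItoPrimeDegree
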