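import Cfsg.Agent.Lib.ItoPrimeDegree.Pairs
import Cfsg.Agent.Lib.Perm.SylowPrimeDegree
import Cfsg.Agent.Lib.SmallOrder.InvolutionCount
import Cfsg.Agent.Lib.LeastNonPClosed.Bound
import Cfsg.Agent.Lib.CharTools.Basic
import Cfsg.Agent.S0157

/-!
A group of prime degree whose Sylow normaliser has order `2p` is sharply three-transitive.
-/

set_option autoImplicit false
set_option linter.style.haveILetI false

open scoped ComplexConjugate

namespace CfsgLib.ItoPrimeDegree

open MulAction CfsgLib.SmallOrder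

variable {α : Type*} [Fintype α] {p : ℕ} [Fact p.Prime]

theorem no_fix (hα : Fintype.card α = p) {G : Subgroup (Equiv.Perm α)} {g : G}
    (hg : orderOf g = p) (c : α) : g • c ≠ c := by
  have hp : p.Prime := Fact.out
  have h1 : orderOf (g : Equiv.Perm α) = p := by rw [Subgroup.orderOf_coe, hg]
  obtain ⟨e, he⟩ := Perm.exists_coords hα (g := (g : Equiv.Perm α))
    (orderOf_dvd_iff_pow_eq_one.1 (dvd_of_eq h1))
    (fun h => by rw [h, orderOf_one] at h1; exact hp.one_lt.ne h1)
  obtain ⟨j, rfl⟩ := e.surjective c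
  intro h
  have h2 : e (j + 1) = e j := (he j).symm.trans h
  exact one_ne_zero (add_eq_left.1 (e.injective h2))

theorem isPretransitive_of_dvd (hα : Fintype.card α = p) {G : Subgroup (Equiv.Perm α)}
    (hd : p ∣ Nat.card G) : IsPretransitive G α := by
  have hp : p.Prime := Fact.out
  obtain ⟨g, hg⟩ := exists_prime_orderOf_dvd_card' p hd
  have h1 : orderOf (g : Equiv.Perm α) = p := by rw [Subgroup.orderOf_coe, hg]
  obtain ⟨e, he⟩ := Perm.exists_coords hα (g := (g : Equiv.Perm α))
    (orderOf_dvd_iff_pow_eq_one.1 (dvd_of_eq h1))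
    (fun h => by rw [h, orderOf_one] at h1; exact hp.one_lt.ne h1)
  have key : ∀ (n : ℕ), (g ^ n) • e 0 = e (n : ZMod p) := by
    intro n
    induction n with
    | zero => simp
    | succ n ih =>
      rw [pow_succ', mul_smul, ih, Nat.cast_succ]
      exact he _
  refine ⟨fun x y => ⟨g ^ (e.symm y).val * (g ^ (e.symm x).val)⁻¹, ?_⟩⟩
  rw [mul_smul]
  have hx : (g ^ (e.symm x).val) • e 0 = x := by
    rw [key, ZMod.natCast_zmod_val, Equiv.apply_symm_apply]
  rw [inv_smul_eq_iff.2 hx.symm, key, ZMod.natCast_zmod_val, Equiv.apply_symm_apply]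

theorem normal_of_isSolvable (hα : Fintype.card α = p) {G : Subgroup (Equiv.Perm α)}
    [IsPretransitive G α] (hG : Group.IsSolvable G) (P : Sylow p G)
    (hP : Nat.card ↥(P : Subgroup G) = p) : (P : Subgroup G).Normal := by
  classical
  have hp : p.Prime := Fact.out
  haveI := hG
  haveI : IsPreprimitive G α := IsPreprimitive.of_prime_card (by
    rw [Nat.card_eq_fintype_card, hα]; exact hp)
  have hne : Nontrivial G := Finite.one_lt_card_iff_nontrivial.1 (lt_of_lt_of_le hp.one_lt
    (hP ▸ Subgroup.card_le_card_group _))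
  have hex : ∃ n, derivedSeries G n = ⊥ := (Group.isSolvable_def G).1 hG
  set n := Nat.find hex with hn
  have hspec := Nat.find_spec hex
  have hn0 : n ≠ 0 := fun h => by
    rw [← hn, h, derivedSeries_zero] at hspec
    exact top_ne_bot hspec
  obtain ⟨m, hm⟩ := Nat.exists_eq_succ_of_ne_zero hn0
  set D := derivedSeries G m
  have hD : D ≠ ⊥ := Nat.find_min hex (by omega)
  have hcomm : D ≤ Subgroup.centralizer (D : Set G) := by
    rw [← Subgroup.commutator_eq_bot_iff_le_centralizer, ← derivedSeries_succ]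
    have : derivedSeries G n = ⊥ := hspec
    rwa [hm] at this
  haveI : D.Normal := derivedSeries_normal G m
  haveI := Perm.isPretransitive_of_normal (α := α) D hD
  obtain ⟨a⟩ : Nonempty α := Fintype.card_pos_iff.1 (hα ▸ hp.pos)
  have hdvd : p ∣ Nat.card D := by
    rw [← hα, ← Nat.card_eq_fintype_card (α := α), ← index_stabilizer_of_transitive D a]
    exact Subgroup.index_dvd_card _
  haveI : IsMulCommutative D := ⟨⟨fun x y => Subtype.ext
    (Subgroup.mem_centralizer_iff.1 (hcomm y.2) x x.2)⟩⟩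
  exact LeastNonPClosed.normal_of_normal_pClosed (K := D)
    (fun S => Subgroup.normal_of_comm _) hdvd P hP P

theorem exists_eq_of_sum_sq_eq_one {ι : Type*} (s : Finset ι) (f : ι → ℤ)
    (h : ∑ i ∈ s, f i * f i = 1) :
    ∃ a ∈ s, (f a = 1 ∨ f a = -1) ∧ ∀ b ∈ s, b ≠ a → f b = 0 := by
  classical
  obtain ⟨a, ha, ha0⟩ : ∃ a ∈ s, f a ≠ 0 := by
    by_contra hc
    push Not at hc
    rw [Finset.sum_eq_zero fun i hi => by rw [hc i hi, mul_zero]] at h
    exact zero_ne_one h
  rw [← Finset.add_sum_erase _ _ ha] at h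
  have h1 : 0 ≤ ∑ i ∈ s.erase a, f i * f i := Finset.sum_nonneg fun i _ => mul_self_nonneg _
  have h2 : 1 ≤ f a * f a := by
    rcases lt_or_gt_of_ne ha0 with h' | h' <;> nlinarith
  refine ⟨a, ha, mul_self_eq_one_iff.1 (by omega), fun b hb hba => ?_⟩
  have h3 := (Finset.sum_eq_zero_iff_of_nonneg fun i _ => mul_self_nonneg (f i)).1
    (show ∑ i ∈ s.erase a, f i * f i = 0 by omega) b (Finset.mem_erase.2 ⟨hba, hb⟩)
  exact mul_self_eq_zero.1 h3

/-- The arithmetic of the fixed points. -/
theorem eq_of_bound {p F t : ℕ} (ht : 2 * t = p - 1) (hF : 3 ≤ F) (hFp : F ≤ p)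
    (h : (2 : ℤ) * (((F : ℤ) - 1) + t * ((F : ℤ) - 2)) ≤ F * ((F : ℤ) - 1)) : F = p := by
  have ht' : (2 : ℤ) * t = (p : ℤ) - 1 := by omega
  have hF' : (1 : ℤ) ≤ (F : ℤ) - 2 := by omega
  have : ((p : ℤ) - F) * ((F : ℤ) - 2) ≤ 0 := by nlinarith
  have h2 : (p : ℤ) - F ≤ 0 := by
    by_contra hc
    push Not at hc
    nlinarith
  omega

variable [DecidableEq α]

theorem sharp_data (hp : 2 < p) (hα : Fintype.card α = p) (G : Subgroup (Equiv.Perm α))
    (P : Sylow p G) (hP : Nat.card ↥(P : Subgroup G) = p)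
    (hN : Nat.card (Subgroup.normalizer ((P : Subgroup G) : Set G)) = 2 * p)
    (h2 : IsMultiplyPretransitive G α 2) :
    (∀ g : G, 3 ≤ Nat.card (fixedBy α g) → g = 1) ∧ p - 2 ∣ Nat.card G := by
  classical
  have hpp : p.Prime := Fact.out
  letI : Fintype G := Fintype.ofFinite _
  haveI := h2
  haveI : IsPretransitive G α := MulAction.isPretransitive_of_is_two_pretransitive
  obtain ⟨S⟩ := exists_csplit P hP
  have hp0 : p ≠ 0 := hpp.ne_zero
  -- the centraliser of `P` is `P`
  have hV1 : ∀ v ∈ S.V, v = (1 : G) := by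
    intro v hv
    have hzo : orderOf (S.z : Equiv.Perm α) = p := by rw [Subgroup.orderOf_coe, S.hz]
    obtain ⟨e, he⟩ := Perm.exists_coords hα (g := (S.z : Equiv.Perm α))
      (orderOf_dvd_iff_pow_eq_one.1 (dvd_of_eq hzo))
      (fun h => by rw [h, orderOf_one] at hzo; exact hpp.one_lt.ne hzo)
    obtain ⟨k, hk⟩ := Subgroup.mem_zpowers_iff.1 (Perm.mem_zpowers_of_commute_cycle he
      (c := (v : Equiv.Perm α)) (congrArg Subtype.val (S.hcomm v hv).eq.symm))
    have hv' : v ∈ Subgroup.zpowers S.z :=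
      Subgroup.mem_zpowers_iff.2 ⟨k, Subtype.ext (by rw [Subgroup.coe_zpow]; exact hk)⟩
    obtain ⟨i, rfl⟩ := exists_zpw_of_mem_zpowers S.hz hv'
    rw [S.eq_zero_of_zpw_mem hv, zpw_zero]
  have hV : Nat.card S.V = 1 := by
    rw [Subgroup.card_eq_one, Subgroup.eq_bot_iff_forall]; exact hV1
  have he2 : Nat.card S.act.range = 2 := by
    have := S.card_normalizer
    rw [hN, hV, mul_one, mul_comm 2 p] at this
    exact (Nat.eq_of_mul_eq_mul_left hpp.pos this).symm
  have hS : ∀ (f : G → ℂ) (i : ZMod p), S.Ssum f i = f (zpw S.z i) := by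
    intro f i
    rw [CSplit.Ssum, finsum_eq_single _ (1 : S.V) fun v hv => absurd (Subtype.ext (hV1 v v.2)) hv]
    simp
  have hord : ∀ i : ZMod p, i ≠ 0 → orderOf (zpw S.z i) = p := by
    intro i hi
    have hd : orderOf (zpw S.z i) ∣ p := by
      have := orderOf_pow_dvd (x := S.z) i.val
      rwa [S.hz] at this
    exact ((Nat.dvd_prime hpp).1 hd).resolve_left fun h1 => hi (zpw_injective S.hz
      (by rw [zpw_zero, orderOf_eq_one_iff.1 h1]))
  have hfix0 : ∀ i : ZMod p, i ≠ 0 → Nat.card (fixedBy α (zpw S.z i)) = 0 := fun i hi => by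
    have : IsEmpty (fixedBy α (zpw S.z i)) := ⟨fun c => no_fix hα (hord i hi) c.1 c.2⟩
    exact Nat.card_of_isEmpty
  -- the permutation character
  have hirr := (Cfsg.Agent.S0157.result (G := G) α (by
    rw [Nat.card_eq_fintype_card, hα]; omega)).2 h2
  let χ0 : Cfsg.IrrCharacter G := ⟨_, hirr⟩
  let one : Cfsg.IrrCharacter G := Char.principalIrr
  have hχ0 : ∀ g : G, χ0.1 g = (Nat.card (fixedBy α g) : ℂ) - 1 := fun g => rfl
  have hχ1 : χ0.1 1 = ((p - 1 : ℕ) : ℂ) := by
    rw [hχ0, Nat.cast_sub hpp.one_le, Nat.cast_one]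
    congr 2
    rw [show fixedBy α (1 : G) = Set.univ by ext c; simp, Nat.card_univ, Nat.card_eq_fintype_card, hα]
  have hd0 : Char.degree χ0.1 = p - 1 := by
    have := Char.IsCharacter.degree_cast (Char.IsIrrCharacter.isCharacter χ0.2)
    rw [hχ1] at this
    exact_mod_cast this
  have hd1 : Char.degree one.1 = 1 := CharTools.charDegree_principal (G := G)
  have hne : χ0 ≠ one := fun h => by
    rw [h, hd1] at hd0; omega
  have hv1 : ∀ o : S.Orb, S.vec one o = -1 := fun o => S.vec_principal o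
  have hv0 : ∀ o : S.Orb, S.vec χ0 o = 1 := by
    intro o
    have h := S.sum_mul_vec (fun χ => if χ = χ0 then 1 else 0) (-1) (fun i hi => by
      simp only [ite_mul, one_mul, zero_mul, Finset.sum_ite_eq', Finset.mem_univ, if_true, hS,
        hχ0, hfix0 i hi]
      simp) o
    simp only [ite_mul, one_mul, zero_mul, Finset.sum_ite_eq', Finset.mem_univ, if_true, hV] at h
    norm_num at h
    exact_mod_cast h
  letI : Fintype S.Orb := Fintype.ofFinite _
  set R : Finset (Cfsg.IrrCharacter G) := (Finset.univ.erase one).erase χ0 with hR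
  have hsplit : ∀ {M : Type} [AddCommMonoid M] (f : Cfsg.IrrCharacter G → M),
      ∑ χ, f χ = f one + (f χ0 + ∑ χ ∈ R, f χ) := by
    intro M _ f
    rw [hR, Finset.add_sum_erase _ _ (Finset.mem_erase.2 ⟨hne, Finset.mem_univ _⟩),
      Finset.add_sum_erase _ _ (Finset.mem_univ one)]
  have hμ : ∀ o : S.Orb, ∃ ψ ∈ R, (S.vec ψ o = 1 ∨ S.vec ψ o = -1) ∧
      ∀ χ ∈ R, χ ≠ ψ → S.vec χ o = 0 := by
    intro o
    refine exists_eq_of_sum_sq_eq_one R _ ?_
    have h := S.vec_gram o o
    rw [hsplit, hv1, hv0, he2, if_pos rfl] at h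
    push_cast at h
    omega
  choose μ hμR hμv hμ0 using hμ
  have hsum : ∀ (o : S.Orb) (f : Cfsg.IrrCharacter G → ℂ),
      ∑ χ, f χ * (S.vec χ o : ℂ) = -f one + f χ0 + f (μ o) * (S.vec (μ o) o : ℂ) := by
    intro o f
    rw [hsplit, hv1, hv0, Finset.sum_eq_single_of_mem (μ o) (hμR o)
      (fun χ hχ hne => by rw [hμ0 o χ hχ hne]; simp)]
    push_cast
    ring
  have hdeg : ∀ o, S.vec (μ o) o = -1 ∧ Char.degree (μ o).1 = p - 2 := by
    intro o
    have h := S.vec_degree o
    rw [hsplit, hv1, hv0, Finset.sum_eq_single_of_mem (μ o) (hμR o)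
      (fun χ hχ hne => by rw [hμ0 o χ hχ hne, mul_zero]), hd0, hd1] at h
    have hpos := Char.IsIrrCharacter.degree_pos (μ o).2
    rcases hμv o with hs | hs <;> rw [hs] at h ⊢ <;> push_cast at h <;> omega
  have hμinj : Function.Injective μ := by
    intro o o' h
    by_contra hoo
    have hg := S.vec_gram o o'
    rw [hsplit, hv1, hv1, hv0, hv0, he2, if_neg hoo, Finset.sum_eq_single_of_mem (μ o) (hμR o)
      (fun χ hχ hne => by rw [hμ0 o χ hχ hne, zero_mul]), (hdeg o).1] at hg
    rw [h, (hdeg o').1] at hg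
    norm_num at hg
  have hμdeg1 : ∀ o, (μ o).1 1 = ((p - 2 : ℕ) : ℂ) := fun o => by
    rw [← Char.IsCharacter.degree_cast (Char.IsIrrCharacter.isCharacter (μ o).2), (hdeg o).2]
  have hcardO : 2 * Fintype.card S.Orb = p - 1 := by
    have h := Subgroup.index_mul_card S.act.range
    rw [he2, Subgroup.index_eq_card] at h
    rw [← Nat.card_eq_fintype_card (α := S.Orb)]
    have hu : Nat.card (ZMod p)ˣ = p - 1 := by
      rw [Nat.card_eq_fintype_card, ZMod.card_units]
    rw [hu] at h
    rw [mul_comm]; exact h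
  obtain ⟨o0⟩ : Nonempty S.Orb := ⟨QuotientGroup.mk 1⟩
  refine ⟨?_, by rw [← (hdeg o0).2]; exact SmallOrder.degree_dvd_card (μ o0)⟩
  -- values on `p`-regular elements
  have hreg : ∀ (o : S.Orb) (y : G), ¬ p ∣ orderOf y →
      (μ o).1 y = (Nat.card (fixedBy α y) : ℂ) - 2 := by
    intro o y hy
    have h := S.sum_mul_vec (fun χ => conj (χ.1 y)) 0 (fun i hi => by
      simp only [hS]
      refine (Finset.sum_congr rfl fun χ _ => mul_comm _ _).trans ?_
      rw [sum_mul_conj_eq_card, Nat.cast_eq_zero]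
      have : IsEmpty {g : G // g * zpw S.z i * g⁻¹ = y} := ⟨fun g => hy (by
        have h5 := orderOf_injective (MulAut.conj (g.1)).toMonoidHom (MulAut.conj g.1).injective
          (zpw S.z i)
        rw [hord i hi] at h5
        rw [← g.2]
        simpa using dvd_of_eq h5.symm)⟩
      exact Nat.card_of_isEmpty) o
    rw [neg_zero, zero_div, hsum, (hdeg o).1, Char.principalIrr_apply, map_one, hχ0, map_sub,
      map_natCast, map_one] at h
    push_cast at h
    have h3 : conj ((μ o).1 y) = conj ((Nat.card (fixedBy α y) : ℂ) - 2) := by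
      rw [map_sub, map_natCast, map_ofNat]
      linear_combination -h
    exact (starRingEnd ℂ).injective h3
  -- the induced sign
  obtain ⟨a, b, hab⟩ := Fintype.one_lt_card_iff.1 (show 1 < Fintype.card α by omega)
  set H := pairSet (G := G) a b with hH
  set B := Cfsg.indFun H (fun h => ((pairSgn hab h : ℂˣ) : ℂ)) with hB
  have hsirr := Char.isIrrCharacter_monoidHom (pairSgn (G := G) hab)
  have hBc : Cfsg.IsCharacter G B :=
    Char.IsCharacter.indFun _ (Char.IsIrrCharacter.isCharacter hsirr)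
  obtain ⟨m, hm⟩ := Char.IsCharacter.exists_nat_combination hBc
  have hmi : ∀ ψ : Cfsg.IrrCharacter G, (m ψ : ℂ) = Cfsg.classInner B ψ := fun ψ => by
    rw [hm, Char.classInner_sum_smul_irr (fun φ => (m φ : ℂ)) ψ]
  have hmval : ∀ g, B g = ∑ ψ : Cfsg.IrrCharacter G, (m ψ : ℂ) * ψ.1 g := fun g => by
    rw [hm]; simp
  have hBz : ∀ i : ZMod p, i ≠ 0 → B (zpw S.z i) = 0 := by
    intro i hi
    refine Char.indFun_eq_zero_of_forall_notMem _ _ _ fun x hx => ?_
    set g := x⁻¹ * zpw S.z i * x with hg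
    have hgo : orderOf g = p := by
      have := orderOf_injective (MulAut.conj x⁻¹).toMonoidHom (MulAut.conj x⁻¹).injective (zpw S.z i)
      rw [hord i hi] at this
      simpa [hg] using this
    obtain ⟨r, hr⟩ := Nat.Prime.odd_of_ne_two hpp (by omega)
    have hgg : g = (g * g) ^ (r + 1) := by
      rw [← pow_two, ← pow_mul, show 2 * (r + 1) = p + 1 by omega, pow_succ,
        ← hgo, pow_orderOf_eq_one, one_mul]
    refine no_fix hα hgo a ?_
    have h2a : g * g ∈ stabilizer G a := sq_fix hx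
    rw [hgg]
    exact pow_mem h2a (r + 1)
  have hscalar : ∀ (f : G → ℂ), Cfsg.IsClassFunction G f → Cfsg.classInner B f =
      (Nat.card H : ℂ)⁻¹ * ∑ h : H, ((pairSgn hab h : ℂˣ) : ℂ) * conj (f h) := fun f hf => by
    rw [hB, Char.classInner_indFun _ _ _ hf]; rfl
  have hsgn0 : ∑ h : H, ((pairSgn hab h : ℂˣ) : ℂ) = 0 :=
    sum_hom_units_eq_zero ((Units.coeHom ℂ).comp (pairSgn hab)) fun h =>
      pairSgn_ne_one hab (MonoidHom.ext fun x => Units.ext (DFunLike.congr_fun h x))
  have hm1 : m one = 0 := by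
    have := hmi one
    rw [hscalar _ (Char.IsIrrCharacter.isClassFunction one.2)] at this
    simp only [one, Char.principalIrr_apply, map_one, mul_one, hsgn0, mul_zero] at this
    exact_mod_cast this
  have hm0 : m χ0 ≠ 0 := by
    intro h0
    have h := hmi χ0
    rw [h0, Nat.cast_zero, hscalar _ (Char.IsIrrCharacter.isClassFunction χ0.2)] at h
    simp only [hχ0, map_sub, map_natCast, map_one, mul_sub, mul_one, Finset.sum_sub_distrib,
      hsgn0, sub_zero] at h
    have h' : ∑ h : H, ((pairSgn hab h : ℂˣ) : ℂ) * (Nat.card (fixedBy α (h : G)) : ℂ) = 0 :=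
      (mul_eq_zero.1 h.symm).resolve_left (inv_ne_zero (Nat.cast_ne_zero.2 Nat.card_pos.ne'))
    have hc : ∀ c : α, ∃ n : ℕ, (c = a → n ≠ 0) ∧
        (∑ h : H, if (h : G) • c = c then ((pairSgn hab h : ℂˣ) : ℂ) else 0) = (n : ℂ) := by
      intro c
      let L : Subgroup H := (stabilizer G c).subgroupOf H
      have he : (∑ h : H, if (h : G) • c = c then ((pairSgn hab h : ℂˣ) : ℂ) else 0) =
          ∑ h : L, ((Units.coeHom ℂ).comp ((pairSgn hab).comp L.subtype)) h := by
        rw [← Finset.sum_filter]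
        refine Finset.sum_subtype _ (fun x => ?_) _
        simp [L, Subgroup.mem_subgroupOf]
      rw [he, sum_hom_units]
      refine ⟨if ((Units.coeHom ℂ).comp ((pairSgn hab).comp L.subtype)) = 1 then Fintype.card L
        else 0, ?_, ?_⟩
      · rintro rfl
        rw [if_pos]
        · exact Fintype.card_pos.ne'
        · ext x
          simp only [MonoidHom.comp_apply, Units.coeHom_apply, pairSgn_apply, MonoidHom.one_apply]
          exact if_pos (Subgroup.mem_subgroupOf.1 x.2)
      · split_ifs <;> simp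
    choose n hn1 hn2 using hc
    have htot : ((∑ c, n c : ℕ) : ℂ) = 0 := by
      rw [← h', Nat.cast_sum, Finset.sum_congr rfl fun c _ => (hn2 c).symm, Finset.sum_comm]
      refine Finset.sum_congr rfl fun x _ => ?_
      rw [← Finset.sum_filter, Finset.sum_const, nsmul_eq_mul, mul_comm]
      congr 2
      rw [← Fintype.card_subtype, ← Nat.card_eq_fintype_card]
      rfl
    rw [Nat.cast_eq_zero, Finset.sum_eq_zero_iff] at htot
    exact hn1 a rfl (htot a (Finset.mem_univ a))
  have hmμ : ∀ o, m (μ o) = m χ0 := by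
    intro o
    have h := S.sum_mul_vec (fun χ => (m χ : ℂ)) 0 (fun i hi => by
      simp only [hS]
      rw [← hmval, hBz i hi]) o
    rw [neg_zero, zero_div, hsum, hm1, (hdeg o).1] at h
    push_cast at h
    have : (m (μ o) : ℂ) = (m χ0 : ℂ) := by linear_combination -h
    exact_mod_cast this
  have hcards : 2 * H.index = p * (p - 1) ∧ Nat.card H = 2 *
      (Finset.univ.filter fun x : G => (x • a, x • b) = (a, b)).card := by
    have h1 := card_pairSet (G := G) hab
    refine ⟨?_, h1⟩
    have h2 := card_eq_mul (G := G) (α := α) hab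
    rw [← H.card_mul_index, h1, hα] at h2
    have hpos : 0 < (Finset.univ.filter fun x : G => (x • a, x • b) = (a, b)).card :=
      Finset.card_pos.2 ⟨1, by simp⟩
    refine Nat.eq_of_mul_eq_mul_left hpos ?_
    rw [Nat.mul_sub p p 1, mul_one]
    linarith
  -- the decomposition of the induced sign
  set T : Finset (Cfsg.IrrCharacter G) := Finset.univ.image μ with hT
  have hTR : T ⊆ R := by
    intro x hx
    obtain ⟨o, -, rfl⟩ := Finset.mem_image.1 hx
    exact hμR o
  have hB1 : ∑ ψ : Cfsg.IrrCharacter G, m ψ * Char.degree ψ.1 = H.index := by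
    have h := hmval 1
    rw [hB, Char.indFun_apply_one, map_one, Units.val_one, mul_one] at h
    have : ((∑ ψ : Cfsg.IrrCharacter G, m ψ * Char.degree ψ.1 : ℕ) : ℂ) = (H.index : ℂ) := by
      rw [h, Nat.cast_sum]
      refine Finset.sum_congr rfl fun ψ _ => ?_
      rw [Nat.cast_mul, Char.IsCharacter.degree_cast (Char.IsIrrCharacter.isCharacter ψ.2)]
    exact_mod_cast this
  rw [hsplit, hm1, zero_mul, zero_add, hd0, ← Finset.sum_sdiff hTR,
    Finset.sum_image fun x _ y _ h => hμinj h] at hB1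
  simp only [hmμ, hdeg, Finset.sum_const, Finset.card_univ, smul_eq_mul] at hB1
  set Z := ∑ ψ ∈ R \ T, m ψ * Char.degree ψ.1 with hZ
  have hsum1 : m χ0 = 1 ∧ Z = 0 := by
    set M := m χ0
    set t := Fintype.card S.Orb
    have hid : 2 * ((p - 1) + t * (p - 2)) = p * (p - 1) := by
      obtain ⟨q, rfl⟩ : ∃ q, p = q + 2 := ⟨p - 2, by omega⟩
      have h1 : 2 * t = q + 1 := by omega
      simp only [Nat.add_sub_cancel, show q + 2 - 1 = q + 1 by omega] at *
      rw [mul_add, ← mul_assoc, h1]; ring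
    have hle : 2 * ((p - 1) + t * (p - 2)) * M + 2 * Z = 2 * ((p - 1) + t * (p - 2)) := by
      have h := hcards.1
      rw [← hB1, ← hid] at h
      linarith
    have hpos : 0 < 2 * ((p - 1) + t * (p - 2)) := by omega
    have hM : M ≠ 0 := hm0
    rcases Nat.lt_or_ge M 2 with h | h
    · have hM1 : M = 1 := by omega
      rw [hM1, mul_one] at hle
      exact ⟨hM1, by omega⟩
    · nlinarith
  have hBval : ∀ g, B g = χ0.1 g + ∑ o : S.Orb, (μ o).1 g := by
    intro g
    rw [hmval, hsplit, hm1, Nat.cast_zero, zero_mul, zero_add, ← Finset.sum_sdiff hTR,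
      Finset.sum_image fun x _ y _ h => hμinj h]
    simp only [hmμ, hsum1.1, Nat.cast_one, one_mul]
    rw [Finset.sum_eq_zero (s := R \ T) fun ψ hψ => ?_, zero_add]
    have := (Finset.sum_eq_zero_iff.1 hsum1.2) ψ hψ
    rcases mul_eq_zero.1 this with h | h
    · rw [h, Nat.cast_zero, zero_mul]
    · exact absurd h (Char.IsIrrCharacter.degree_pos ψ.2).ne'
  -- elements with three fixed points
  intro g hg
  set T' : Finset α := Finset.univ.filter fun c => g • c = c with hT'
  have hF : Nat.card (fixedBy α g) = T'.card := by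
    rw [hT', ← Fintype.card_subtype, ← Nat.card_eq_fintype_card]; rfl
  have hyreg : ¬ p ∣ orderOf g := fun hd => by
    obtain ⟨k, hk⟩ : ∃ k, orderOf (g ^ k) = p := ⟨orderOf g / p, orderOf_pow_orderOf_div
      (orderOf_pos g).ne' hd⟩
    obtain ⟨c, hc⟩ := Finset.card_pos.1 (show 0 < T'.card by omega)
    have hc' : g • c = c := (Finset.mem_filter.1 hc).2
    exact no_fix hα hk c (pow_mem (show g ∈ stabilizer G c from hc') k)
  have hBg : B g = (((((T'.card : ℤ) - 1) + (Fintype.card S.Orb : ℤ) * ((T'.card : ℤ) - 2)) : ℤ) : ℂ) := by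
    rw [hBval, hχ0, Finset.sum_congr rfl fun o _ => hreg o g hyreg, Finset.sum_const,
      Finset.card_univ, nsmul_eq_mul, hF]
    push_cast
    ring
  set k := (Finset.univ.filter fun x : G => (x • a, x • b) = (a, b)).card with hk
  have hpt : ∀ x : G, ((Cfsg.extendByZero H (fun h => ((pairSgn hab h : ℂˣ) : ℂ)))
      (x⁻¹ * g * x)).re ≤ if x • a ∈ T' ∧ x • b ∈ T' then (1 : ℝ) else 0 := by
    intro x
    by_cases hx : x⁻¹ * g * x ∈ H
    · rw [Char.extendByZero_apply_mem H _ hx, pairSgn_apply]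
      by_cases hxa : (x⁻¹ * g * x) • a = a
      · rw [if_pos hxa, if_pos ?_, Complex.one_re]
        have hxb : (x⁻¹ * g * x) • b = b := by
          rcases hx with h | h
          · exact h.2
          · exact absurd (hxa.symm.trans h.1) hab
        simp only [mul_smul, inv_smul_eq_iff] at hxa hxb
        exact ⟨Finset.mem_filter.2 ⟨Finset.mem_univ _, hxa⟩,
          Finset.mem_filter.2 ⟨Finset.mem_univ _, hxb⟩⟩
      · rw [if_neg hxa]
        split_ifs <;> simp
    · rw [Char.extendByZero_of_notMem H _ hx]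
      split_ifs <;> simp
  have hkey : (Nat.card H : ℝ) * (B g).re ≤ ((T'.card * T'.card - T'.card) * k : ℕ) := by
    rw [← card_pairs_in T' hab, hB, Char.indFun_apply]
    rw [show (Nat.card H : ℝ) * (((Nat.card H : ℂ))⁻¹ * ∑ x : G, Cfsg.extendByZero H
        (fun h => ((pairSgn hab h : ℂˣ) : ℂ)) (x⁻¹ * g * x)).re =
        (∑ x : G, Cfsg.extendByZero H (fun h => ((pairSgn hab h : ℂˣ) : ℂ)) (x⁻¹ * g * x)).re by
      rw [← Complex.re_ofReal_mul, Complex.ofReal_natCast, mul_inv_cancel_left₀]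
      exact Nat.cast_ne_zero.2 Nat.card_pos.ne']
    rw [Complex.re_sum, ← Finset.sum_boole]
    exact Finset.sum_le_sum fun x _ => hpt x
  rw [hBg, Complex.intCast_re, hcards.2] at hkey
  have hkpos : (0 : ℝ) < k := Nat.cast_pos.2 (Finset.card_pos.2 ⟨1, by simp⟩)
  have hint : (2 : ℤ) * (((T'.card : ℤ) - 1) + (Fintype.card S.Orb : ℤ) * ((T'.card : ℤ) - 2)) ≤
      (T'.card : ℤ) * ((T'.card : ℤ) - 1) := by
    rw [Nat.cast_mul, Nat.cast_mul, Nat.cast_sub (Nat.le_mul_self _)] at hkey
    push_cast at hkey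
    have : (2 : ℝ) * (((T'.card : ℝ) - 1) + (Fintype.card S.Orb : ℝ) * ((T'.card : ℝ) - 2)) ≤
        (T'.card : ℝ) * ((T'.card : ℝ) - 1) := by
      refine le_of_mul_le_mul_left ?_ hkpos
      linarith
    exact_mod_cast this
  have hle : T'.card ≤ p := hα ▸ Finset.card_le_univ _
  have hall := eq_of_bound hcardO (hF ▸ hg) hle hint
  have huniv : T' = Finset.univ := Finset.eq_univ_of_card _ (hall.trans hα.symm)
  refine Subtype.ext (Equiv.ext fun c => ?_)
  have hc : c ∈ T' := huniv ▸ Finset.mem_univ c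
  exact (Finset.mem_filter.1 hc).2

theorem three_transitive (hp : 2 < p) (hα : Fintype.card α = p) (G : Subgroup (Equiv.Perm α))
    (hd : p - 2 ∣ Nat.card G) (h2 : IsMultiplyPretransitive G α 2)
    (hfix : ∀ g : G, 3 ≤ Nat.card (fixedBy α g) → g = 1) : IsMultiplyPretransitive G α 3 := by
  classical
  have hpp : p.Prime := Fact.out
  haveI := h2
  letI : Fintype G := Fintype.ofFinite _
  obtain ⟨a, b, hab⟩ := Fintype.one_lt_card_iff.1 (show 1 < Fintype.card α by omega)
  have hfree : ∀ x : Fin 3 ↪ α, Function.Injective fun g : G => g • x := by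
    intro x g h hgh
    refine inv_mul_eq_one.1 (hfix (g⁻¹ * h) ?_) 
    have hmem : ∀ i, (g⁻¹ * h) • x i = x i := fun i => by
      rw [mul_smul, inv_smul_eq_iff]
      exact (congrArg (fun e : Fin 3 ↪ α => e i) hgh).symm
    calc 3 = Nat.card (Fin 3) := by simp
      _ ≤ Nat.card (fixedBy α (g⁻¹ * h)) :=
        Nat.card_le_card_of_injective (fun i => (⟨x i, hmem i⟩ : fixedBy α (g⁻¹ * h)))
          fun i j hij => x.injective (congrArg Subtype.val hij)
  have hemb : Fintype.card (Fin 3 ↪ α) = p * (p - 1) * (p - 2) := by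
    rw [Fintype.card_embedding_eq, hα, Fintype.card_fin]
    simp [Nat.descFactorial_succ]; ring
  have hcard := card_eq_mul (G := G) (α := α) hab
  set k := (Finset.univ.filter fun x : G => (x • a, x • b) = (a, b)).card
  rw [hα] at hcard
  have hpq : p * p - p = p * (p - 1) := by rw [Nat.mul_sub, mul_one]
  rw [hpq] at hcard
  have hk : p - 2 ∣ k := by
    have hc : Nat.Coprime (p - 2) (p * (p - 1)) := by
      obtain ⟨r, hr⟩ := Nat.Prime.odd_of_ne_two hpp (by omega)
      refine Nat.Coprime.mul_right ?_ ?_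
      · exact ((hpp.coprime_iff_not_dvd).2 fun h => by
          have := Nat.le_of_dvd (by omega) h; omega).symm
      · rw [show p - 1 = (p - 2) + 1 by omega]
        exact Nat.coprime_self_add_right.2 (Nat.coprime_one_right _)
    exact hc.dvd_of_dvd_mul_left (hcard ▸ hd)
  have hkpos : 0 < k := Finset.card_pos.2 ⟨1, by simp⟩
  have hbij : ∀ x : Fin 3 ↪ α, Function.Bijective fun g : G => g • x := by
    intro x
    refine (Fintype.bijective_iff_injective_and_card _).2 ⟨hfree x, le_antisymm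
      (Fintype.card_le_of_injective _ (hfree x)) ?_⟩
    rw [hemb, ← Nat.card_eq_fintype_card, hcard]
    exact Nat.mul_le_mul_left _ (Nat.le_of_dvd hkpos hk)
  exact ⟨fun x y => (hbij x).2 y⟩

end CfsgLib.ItoPrimeDegree
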