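import Cfsg.Agent.Lib.ItoPrimeDegree.FaithfulCount
import Cfsg.Agent.Lib.Schur.SL2
import Cfsg.Agent.S4706
import Mathlib.GroupTheory.NoncommCoprod

/-!
A faithful character of degree `p - 2` of a perfect group: the group is `SL(2, 2 ^ a)` with `p = 2 ^ a + 1`.
-/

set_option autoImplicit false
set_option linter.style.haveILetI false
set_option linter.unusedSectionVars false

namespace CfsgLib.ItoPrimeDegree

open Cfsg CfsgLib.DefectOne
open scoped ComplexConjugate Classical

universe u

variable {G : Type u} [Group G] [Finite G] {p : ℕ} [Fact p.Prime] {x : G}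

theorem two_pow_eq_of_dvd_mul {e m q : ℕ} (hm : ¬ 2 ∣ m) (h : 2 ^ e ∣ m * q) : 2 ^ e ∣ q :=
  (Nat.Coprime.pow_left _ (Nat.prime_two.coprime_iff_not_dvd.2 hm)).dvd_of_dvd_mul_left h

namespace Faithful

variable (F : Faithful p x)

include F

theorem odd_p : p % 2 = 1 :=
  Nat.odd_iff.1 ((Fact.out : p.Prime).odd_of_ne_two (by have := F.five_lt; omega))

variable {k : ℕ}
  (hkey : ∀ y : G, ¬ p ∣ orderOf y → (F.ζ : G → ℂ) y * (F.ζ : G → ℂ) y - (F.ζ : G → ℂ) (y * y) =
    ((p - 3 : ℕ) : ℂ) * (F.ζ : G → ℂ) (y ^ k))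
  (hodd : ∀ y : G, ¬ p ∣ orderOf y → ¬ 2 ∣ orderOf y → y ^ k = y * y)
  (htwo : ∀ (y : G) (j : ℕ), orderOf y = 2 ^ j → y ^ k = y)

theorem sum_central_mul (K : Subgroup G) [Fintype K] (a : G) (c : ℂ) (f : G → ℂ)
    (h0 : ∀ y ∈ K, y ∉ Subgroup.center G → f (a * y) = 0)
    (hv : ∀ v : regPart p x, (v : G) ∈ K → f (a * v) = c * (F.φ : regPart p x → ℂ) v) :
    ∑ y : K, f (a * y) * conj (f (a * y)) =
      (c * conj c) * (Nat.card ((Subgroup.center G).subgroupOf K) : ℂ) := by
  rw [Nat.card_eq_fintype_card, Fintype.card_subtype, mul_comm, ← nsmul_eq_mul, ← Finset.sum_const,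
    ← Finset.sum_subset (Finset.subset_univ (Finset.univ.filter fun y : K =>
      y ∈ (Subgroup.center G).subgroupOf K)) fun y _ hy => by
        rw [h0 _ y.2 (fun h => hy (Finset.mem_filter.2 ⟨Finset.mem_univ _, h⟩)), zero_mul]]
  refine Finset.sum_congr rfl fun y hy => ?_
  obtain ⟨v, hv'⟩ := F.exists_reg_of_central (Finset.mem_filter.1 hy).2
  have hv'' : (v : G) = (y : G) := hv'
  rw [← hv'', hv v (hv'' ▸ y.2), map_mul]
  linear_combination (c * conj c) * F.φ_conj_mul v

include hkey hodd htwo in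
theorem central_of_commute_involution {a : G} (ha : a * a = 1) (ha1 : a ≠ 1) {b : G}
    (hab : Commute a b) (hb : ¬ 2 ∣ orderOf b) : b ∈ Subgroup.center G := by
  have hp5 := F.five_lt
  have ho : orderOf a = 2 := orderOf_eq_prime_iff.2 ⟨by rw [pow_two, ha], ha1⟩
  have hbr : ¬ p ∣ orderOf b := by
    intro h
    have hmul : orderOf (a * b) = orderOf a * orderOf b :=
      hab.orderOf_mul_eq_mul_orderOf_of_coprime
        (ho ▸ Nat.prime_two.coprime_iff_not_dvd.2 hb)
    obtain ⟨c, i, v, hi, -, hc⟩ := F.hyp.exists_conj_singular (g := a * b)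
      (hmul ▸ h.mul_left _)
    have h1 : orderOf (x ^ i * (v : G)) = orderOf (a * b) := by
      rw [← hc]
      exact orderOf_injective (MulAut.conj c).toMonoidHom (MulAut.conj c).injective _
    have h2 := ((F.hyp.commute_regPart v).symm.pow_left i).orderOf_mul_dvd_mul_orderOf
    rw [h1, hmul, F.hyp.orderOf_pow hi, ho] at h2
    have h3 : 2 ∣ p * orderOf (v : G) := (dvd_mul_right 2 _).trans h2
    rcases Nat.prime_two.dvd_mul.1 h3 with h4 | h4
    · have := F.odd_p
      omega
    · exact F.not_two_dvd_orderOf v h4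
  by_contra hc
  have hex : ∃ m, 0 < m ∧ b ^ m ∈ Subgroup.center G :=
    ⟨orderOf b, orderOf_pos b, by rw [pow_orderOf_eq_one]; exact one_mem _⟩
  obtain ⟨hm0, hm⟩ := Nat.find_spec hex
  set m := Nat.find hex with hmdef
  have hm1 : m ≠ 1 := fun e => hc (by rwa [e, pow_one] at hm)
  obtain ⟨r, hr, m', hm'⟩ := Nat.exists_prime_and_dvd hm1
  haveI := Fact.mk hr
  set b' := b ^ m' with hb'
  have hm'0 : 0 < m' := Nat.pos_of_ne_zero fun e => by rw [hm', e, mul_zero] at hm0; omega
  have hlt : m' < m := by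
    rw [hm']
    calc m' = 1 * m' := (one_mul _).symm
      _ < r * m' := Nat.mul_lt_mul_of_pos_right hr.one_lt hm'0
  have hb'c : b' ∉ Subgroup.center G := fun h => Nat.find_min hex hlt ⟨hm'0, h⟩
  have hb'r : b' ^ r ∈ Subgroup.center G := by rw [hb', ← pow_mul, mul_comm, ← hm']; exact hm
  have hb'2 : ¬ 2 ∣ orderOf b' := fun h => hb (h.trans (orderOf_pow_dvd _))
  have hr2 : r ≠ 2 := fun e => hb'c (F.central_of_pow_two hb'2 (i := 1) (by
    rw [pow_one]; rw [e] at hb'r; exact hb'r))
  set K := Subgroup.zpowers b' with hK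
  haveI := Fintype.ofFinite K
  have hKb : ∀ y ∈ K, ¬ p ∣ orderOf y ∧ ¬ 2 ∣ orderOf y ∧ Commute a y := by
    intro y hy
    have hd : orderOf y ∣ orderOf b :=
      (orderOf_dvd_of_mem_zpowers hy).trans (orderOf_pow_dvd _)
    refine ⟨fun h => hbr (h.trans hd), fun h => hb (h.trans hd), ?_⟩
    obtain ⟨j, rfl⟩ := Subgroup.mem_zpowers_iff.1 hy
    exact (hab.pow_right m').zpow_right j
  set c := Nat.card ((Subgroup.center G).subgroupOf K)
  have hcard : Nat.card K = c * r := by
    set f : K →* G ⧸ Subgroup.center G := (QuotientGroup.mk' _).comp K.subtype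
    have hker : f.ker = (Subgroup.center G).subgroupOf K := by
      ext y
      simp only [f, MonoidHom.mem_ker, MonoidHom.comp_apply, Subgroup.coe_subtype,
        QuotientGroup.mk'_apply, QuotientGroup.eq_one_iff, Subgroup.mem_subgroupOf]
    have hrange : f.range = Subgroup.zpowers (QuotientGroup.mk' (Subgroup.center G) b') := by
      rw [MonoidHom.range_comp, Subgroup.range_subtype, hK, MonoidHom.map_zpowers]
    rw [← Subgroup.card_mul_index f.ker, Subgroup.index_ker, hrange, hker, Nat.card_zpowers]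
    congr 1
    refine orderOf_eq_prime_iff.2 ⟨?_, fun e => hb'c ?_⟩
    · rw [← map_pow]
      exact (QuotientGroup.eq_one_iff _).2 hb'r
    · exact (QuotientGroup.eq_one_iff _).1 e
  have hsum1 := F.sum_central_mul K 1 ((p - 2 : ℕ) : ℂ) (F.ζ : G → ℂ)
    (fun y hy hc => by
      rw [one_mul]; exact F.value_odd hkey hodd (hKb y hy).1 (hKb y hy).2.1 hc)
    (fun v _ => by rw [one_mul, F.val_reg])
  have hsum2 := F.sum_central_mul K a (-1) (F.ζ : G → ℂ)
    (fun y hy hc => F.value_mixed hkey hodd htwo ha ha1 (hKb y hy).2.2 (hKb y hy).2.1 (hKb y hy).1 hc)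
    (fun v _ => by rw [F.apply_mul_reg, F.value_involution hkey htwo ha ha1])
  simp only [one_mul, map_natCast] at hsum1
  simp only [map_neg, map_one, mul_neg, neg_mul, one_mul, neg_neg] at hsum2
  have hc0 : (c : ℂ) ≠ 0 := Nat.cast_ne_zero.2 Nat.card_pos.ne'
  -- the cyclic group
  have hres : Cfsg.IsCharacter K fun y => (F.ζ : G → ℂ) y :=
    CfsgLib.Char.IsCharacter.restrict F.isCharacter_ζ K
  obtain ⟨N, hN⟩ := CfsgLib.Char.IsCharacter.exists_nat_classInner' hres hres
  rw [Cfsg.classInner, inv_mul_eq_iff_eq_mul₀ (Nat.cast_ne_zero.2 Nat.card_pos.ne'), hsum1,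
    hcard] at hN
  have hN' : (p - 2) * (p - 2) = r * N := by
    have h1 : (((p - 2) * (p - 2) : ℕ) : ℂ) = ((r * N : ℕ) : ℂ) := by
      refine mul_left_cancel₀ hc0 ?_
      push_cast at hN ⊢
      linear_combination hN
    exact_mod_cast h1
  -- the product with the involution
  set A := Subgroup.zpowers a with hA
  haveI := Fintype.ofFinite A
  have hAcard : Nat.card A = 2 := by rw [hA, Nat.card_zpowers, ho]
  have hcomm : ∀ (s : A) (y : K), Commute (A.subtype s) (K.subtype y) := by
    intro s y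
    obtain ⟨j, hj⟩ := Subgroup.mem_zpowers_iff.1 s.2
    show Commute (s : G) (y : G)
    rw [← hj]
    exact (hKb y y.2).2.2.zpow_left j
  let ψ : A × K →* G := MonoidHom.noncommCoprod A.subtype K.subtype hcomm
  have hψc : Cfsg.IsCharacter (A × K) fun t => (F.ζ : G → ℂ) (ψ t) := by
    obtain ⟨n, ρ, hρ⟩ := F.isCharacter_ζ
    exact ⟨n, ρ.comp ψ, funext fun t => congrFun hρ (ψ t)⟩
  obtain ⟨N2, hN2⟩ := CfsgLib.Char.IsCharacter.exists_nat_classInner' hψc hψc
  have hA2 : (Finset.univ : Finset A) = {1, ⟨a, Subgroup.mem_zpowers a⟩} := by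
    refine (Finset.eq_univ_of_card _ ?_).symm
    rw [Finset.card_pair (fun e => ha1 (congrArg Subtype.val e).symm), ← Nat.card_eq_fintype_card,
      hAcard]
  rw [Cfsg.classInner, inv_mul_eq_iff_eq_mul₀ (Nat.cast_ne_zero.2 Nat.card_pos.ne'),
    Fintype.sum_prod_type, hA2,
    Finset.sum_pair (fun e => ha1 (congrArg Subtype.val e).symm), Nat.card_prod, hcard,
    hAcard] at hN2
  simp only [ψ, MonoidHom.noncommCoprod_apply, Subgroup.coe_subtype, OneMemClass.coe_one,
    one_mul] at hN2
  rw [hsum1, hsum2] at hN2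
  have hN2' : (p - 2) * (p - 2) + 1 = r * (2 * N2) := by
    have h1 : (((p - 2) * (p - 2) + 1 : ℕ) : ℂ) = ((r * (2 * N2) : ℕ) : ℂ) := by
      refine mul_left_cancel₀ hc0 ?_
      push_cast at hN2 ⊢
      linear_combination hN2
    exact_mod_cast h1
  have : r ∣ 1 := by
    have h1 : r ∣ (p - 2) * (p - 2) := Dvd.intro N hN'.symm
    have h2 : r ∣ (p - 2) * (p - 2) + 1 := Dvd.intro (2 * N2) hN2'.symm
    exact (Nat.dvd_add_right h1).1 h2
  exact hr.ne_one (Nat.dvd_one.1 this)

include hkey hodd htwo in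
/-- The square roots of one in the centralizer of an involution form a group. -/
theorem exists_invGroup {a : G} (ha : a * a = 1) (ha1 : a ≠ 1) :
    ∃ S : Subgroup G, (∀ s, s ∈ S ↔ Commute a s ∧ s * s = 1) ∧
      (∀ s ∈ S, ∀ t ∈ S, Commute s t) ∧
      (∀ y : G, Commute a y → ∃ s ∈ S, ∃ v : regPart p x, s * (v : G) = y) ∧
      Nat.card (Subgroup.centralizer ({a} : Set G)) = Nat.card S * Nat.card (regPart p x) ∧
      ∃ e, Nat.card S = 2 ^ e := by
  have hdec : ∀ y : G, Commute a y →
      ∃ s, (Commute a s ∧ s * s = 1) ∧ ∃ v : regPart p x, s * (v : G) = y := by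
    intro y hy
    obtain ⟨s, hs⟩ := CfsgLib.Blocks.exists_isPPart Nat.prime_two y
    have hmem := CfsgLib.Blocks.IsPPart.mem_zpowers Nat.prime_two hs
    obtain ⟨b, hsb, hc, ⟨j, hj⟩, hb⟩ := hs
    have hsa : Commute a s := by
      obtain ⟨i, rfl⟩ := Subgroup.mem_zpowers_iff.1 hmem
      exact hy.zpow_right i
    have hba : Commute a b := by
      rw [show b = s⁻¹ * y by rw [← hsb, inv_mul_cancel_left]]
      exact hsa.inv_right.mul_right hy
    obtain ⟨v, hv⟩ := F.exists_reg_of_central
      (F.central_of_commute_involution hkey hodd htwo ha ha1 hba hb)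
    exact ⟨s, ⟨hsa, F.sq_eq_one_of_two hkey htwo hj⟩, v, by rw [hv, hsb]⟩
  have hcomm : ∀ s t : G, Commute a s ∧ s * s = 1 → Commute a t ∧ t * t = 1 → Commute s t := by
    intro s t hs ht
    obtain ⟨u, hu, v, hv⟩ := hdec (s * t) (hs.1.mul_right ht.1)
    have hz := Subgroup.mem_center_iff.1 (F.central v)
    have h1 : s * t * s * t = (v : G) * (v : G) := by
      calc s * t * s * t = (s * t) * (s * t) := by group
        _ = u * ((v : G) * u) * (v : G) := by rw [← hv]; group
        _ = u * (u * (v : G)) * (v : G) := by rw [hz u]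
        _ = u * u * ((v : G) * (v : G)) := by group
        _ = _ := by rw [hu.2, one_mul]
    set w := v * v with hw
    have h1' : s * t * s * t = (w : G) := by rw [h1, hw, Subgroup.coe_mul]
    have h2 : s * t * s = (w : G) * t := by
      rw [← h1', mul_assoc _ t t, ht.2, mul_one]
    have hwz := Subgroup.mem_center_iff.1 (F.central w) t
    have h3 : w = 1 := F.reg_sq_ne_one w (Subtype.ext (by
      rw [Subgroup.coe_mul, Subgroup.coe_one]
      calc (w : G) * (w : G) = (w : G) * (w : G) * (t * t) := by rw [ht.2, mul_one]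
        _ = (w : G) * ((w : G) * t) * t := by group
        _ = (w : G) * (t * (w : G)) * t := by rw [hwz]
        _ = ((w : G) * t) * ((w : G) * t) := by group
        _ = (s * t * s) * (s * t * s) := by rw [h2]
        _ = s * t * (s * s) * t * s := by group
        _ = s * (t * t) * s := by rw [hs.2, mul_one]; group
        _ = 1 := by rw [ht.2, mul_one, hs.2]))
    rw [h3, Subgroup.coe_one, one_mul] at h2
    calc s * t = s * t * (s * s) := by rw [hs.2, mul_one]
      _ = (s * t * s) * s := by group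
      _ = t * s := by rw [h2]
  let S : Subgroup G :=
    { carrier := {s | Commute a s ∧ s * s = 1}
      one_mem' := ⟨Commute.one_right a, one_mul 1⟩
      mul_mem' := fun {s t} hs ht => ⟨hs.1.mul_right ht.1, by
        have := hcomm s t hs ht
        calc s * t * (s * t) = s * (t * s) * t := by group
          _ = s * (s * t) * t := by rw [this.eq]
          _ = s * s * (t * t) := by group
          _ = 1 := by rw [hs.2, ht.2, one_mul]⟩
      inv_mem' := fun {s} hs => by
        rw [Set.mem_setOf_eq, show s⁻¹ = s from inv_eq_of_mul_eq_one_right hs.2]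
        exact hs }
  refine ⟨S, fun s => Iff.rfl, fun s hs t ht => hcomm s t hs ht,
    fun y hy => ?_, ?_, ?_⟩
  · obtain ⟨s, hs, hv⟩ := hdec y hy
    exact ⟨s, hs, hv⟩
  · rw [← Nat.card_prod]
    refine (Nat.card_congr (Equiv.ofBijective (fun t : S × regPart p x =>
      (⟨(t.1 : G) * (t.2 : G), ?_⟩ : Subgroup.centralizer ({a} : Set G))) ⟨?_, ?_⟩)).symm
    · exact Subgroup.mem_centralizer_singleton_iff.2
        ((t.1.2.1.mul_right (Subgroup.mem_center_iff.1 (F.central t.2) a)).eq.symm)
    · intro t t' e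
      have e' : (t.1 : G) * (t.2 : G) = (t'.1 : G) * (t'.2 : G) := congrArg Subtype.val e
      have hd : t.2 * t'.2⁻¹ = 1 := by
        refine F.reg_sq_ne_one _ (Subtype.ext ?_)
        have h1 : ((t.2 * t'.2⁻¹ : regPart p x) : G) = (t.1 : G)⁻¹ * (t'.1 : G) := by
          rw [Subgroup.coe_mul, InvMemClass.coe_inv, eq_inv_mul_iff_mul_eq, ← mul_assoc, e',
            mul_inv_cancel_right]
        have hu := (S.mul_mem (S.inv_mem t.1.2) t'.1.2).2
        rw [Subgroup.coe_mul, Subgroup.coe_one, h1]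
        exact hu
      rw [mul_inv_eq_one] at hd
      refine Prod.ext (Subtype.ext ?_) hd
      rw [hd] at e'
      exact mul_right_cancel e'
    · rintro ⟨y, hy⟩
      obtain ⟨s, hs, v, hv⟩ := hdec y (Subgroup.mem_centralizer_singleton_iff.1 hy).symm
      exact ⟨(⟨s, hs⟩, v), Subtype.ext hv⟩
  · haveI := Fact.mk Nat.prime_two
    refine (IsPGroup.iff_card (p := 2)).1 fun s => ⟨1, Subtype.ext ?_⟩
    rw [pow_one, pow_two]
    exact s.2.2

include hkey hodd htwo in
/-- The Sylow two-subgroup at an involution, its size, and the single class of involutions. -/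
theorem involution_class (hG : Nat.card G = p * (p - 1) * (p - 2) * Nat.card (regPart p x))
    (hI : Nat.card {a : G // a * a = 1 ∧ a ≠ 1} = p * (p - 2)) {a : G} (ha : a * a = 1)
    (ha1 : a ≠ 1) : ∃ S : Subgroup G, (∀ s, s ∈ S ↔ Commute a s ∧ s * s = 1) ∧
      (∀ s ∈ S, ∀ t ∈ S, Commute s t) ∧
      Nat.card (Subgroup.centralizer ({a} : Set G)) = (p - 1) * Nat.card (regPart p x) ∧
      Nat.card S = p - 1 ∧ ∀ b : G, b * b = 1 → b ≠ 1 → ∃ g : G, g * a * g⁻¹ = b := by
  have hp5 := F.five_lt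
  obtain ⟨S, hS, hab, -, hC, e, he⟩ := F.exists_invGroup hkey hodd htwo ha ha1
  set C := Subgroup.centralizer ({a} : Set G)
  set d := Nat.card (regPart p x)
  have hd : 0 < d := Nat.card_pos
  have hidx : C.index * Nat.card S = p * (p - 1) * (p - 2) := by
    refine Nat.eq_of_mul_eq_mul_right hd ?_
    rw [mul_assoc, ← hC, Subgroup.index_mul_card, hG]
  let f : G ⧸ C → {b : G // b * b = 1 ∧ b ≠ 1} := fun q => Quotient.liftOn' q
    (fun g => (⟨g * a * g⁻¹, by
      calc g * a * g⁻¹ * (g * a * g⁻¹) = g * (a * a) * g⁻¹ := by group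
        _ = 1 := by rw [ha, mul_one, mul_inv_cancel],
      fun e => ha1 (conj_eq_one_iff.1 e)⟩ : {b : G // b * b = 1 ∧ b ≠ 1}))
    fun g g' hgg' => Subtype.ext (by
      rw [QuotientGroup.leftRel_apply, Subgroup.mem_centralizer_singleton_iff] at hgg'
      show g * a * g⁻¹ = g' * a * g'⁻¹
      calc g * a * g⁻¹ = g * (a * (g⁻¹ * g')) * g'⁻¹ := by group
        _ = g * (g⁻¹ * g' * a) * g'⁻¹ := by rw [hgg']
        _ = _ := by group)
  have hf : Function.Injective f := by
    intro q q'
    induction q using QuotientGroup.induction_on with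
    | H g =>
      induction q' using QuotientGroup.induction_on with
      | H g' =>
        intro e
        have e' : g * a * g⁻¹ = g' * a * g'⁻¹ := congrArg Subtype.val e
        refine QuotientGroup.eq.2 (Subgroup.mem_centralizer_singleton_iff.2 ?_)
        calc g⁻¹ * g' * a = g⁻¹ * (g' * a * g'⁻¹) * g' := by group
          _ = g⁻¹ * (g * a * g⁻¹) * g' := by rw [← e']
          _ = a * (g⁻¹ * g') := by group
  have hle : C.index ≤ p * (p - 2) := hI ▸ Nat.card_le_card_of_injective f hf
  have hpodd := F.odd_p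
  have hm : ¬ 2 ∣ p * (p - 2) := fun h => by
    rcases Nat.prime_two.dvd_mul.1 h with h' | h' <;> omega
  have hdvd : 2 ^ e ∣ p - 1 := two_pow_eq_of_dvd_mul hm
    (Dvd.intro_left C.index (by rw [← he, hidx]; ring))
  have hSle : 2 ^ e ≤ p - 1 := Nat.le_of_dvd (by omega) hdvd
  have hSge : p - 1 ≤ 2 ^ e := by
    by_contra hcon
    have h1 : C.index * 2 ^ e ≤ p * (p - 2) * 2 ^ e := Nat.mul_le_mul_right _ hle
    have h2 : p * (p - 2) * 2 ^ e < p * (p - 2) * (p - 1) :=
      Nat.mul_lt_mul_of_pos_left (by omega) (Nat.mul_pos (by omega) (by omega))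
    have h3 : p * (p - 2) * (p - 1) = p * (p - 1) * (p - 2) := by ring
    rw [← he, hidx] at h1
    rw [← he] at h2
    omega
  have hq : Nat.card S = p - 1 := by omega
  have hindex : C.index = p * (p - 2) := by
    refine Nat.eq_of_mul_eq_mul_right (show 0 < p - 1 by omega) ?_
    rw [← hq, hidx, hq]
    ring
  have hbij : Function.Bijective f := (Nat.bijective_iff_injective_and_card f).2
    ⟨hf, by rw [hI]; exact hindex⟩
  refine ⟨S, hS, hab, by rw [hC, hq], hq, fun b hb hb1 => ?_⟩
  obtain ⟨q, hq'⟩ := hbij.2 ⟨b, hb, hb1⟩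
  induction q using QuotientGroup.induction_on with
  | H g => exact ⟨g, congrArg Subtype.val hq'⟩

include hkey hodd htwo in
/-- The normalizer of the Sylow two-subgroup has index `p` and core the centre. -/
theorem exists_index_prime (hG : Nat.card G = p * (p - 1) * (p - 2) * Nat.card (regPart p x))
    (hI : Nat.card {a : G // a * a = 1 ∧ a ≠ 1} = p * (p - 2)) :
    ∃ N : Subgroup G, N.index = p ∧ N.normalCore = Subgroup.center G := by
  haveI := Fact.mk Nat.prime_two
  have hp5 := F.five_lt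
  have hpodd := F.odd_p
  set d := Nat.card (regPart p x) with hd
  obtain ⟨⟨a, ha, ha1⟩⟩ : Nonempty {a : G // a * a = 1 ∧ a ≠ 1} :=
    (Nat.card_pos_iff.1 (by rw [hI]; exact Nat.mul_pos (by omega) (by omega))).1
  obtain ⟨S, hS, hab, hC, hq, hclass⟩ := F.involution_class hkey hodd htwo hG hI ha ha1
  have haS : a ∈ S := (hS a).2 ⟨Commute.refl a, ha⟩
  -- every involution of `S` gives `S`
  have hsame : ∀ b ∈ S, b ≠ 1 → ∀ s, (Commute b s ∧ s * s = 1) → s ∈ S := by
    intro b hb hb1 s hs
    obtain ⟨T, hT, -, -, hqT, -⟩ :=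
      F.involution_class hkey hodd htwo hG hI ((hS b).1 hb).2 hb1
    have hle : S ≤ T := fun t ht => (hT t).2 ⟨hab b hb t ht, ((hS t).1 ht).2⟩
    rw [Subgroup.eq_of_le_of_card_ge hle (by rw [hqT, hq])]
    exact (hT s).2 hs
  set N := Subgroup.normalizer (S : Set G) with hN
  have hmemN : ∀ g : G, (∀ s ∈ S, g * s * g⁻¹ ∈ S) → g ∈ N := by
    intro g hg
    have hmap : S.map (MulAut.conj g).toMonoidHom = S := by
      refine Subgroup.eq_of_le_of_card_ge ?_ ?_
      · rintro _ ⟨s, hs, rfl⟩
        exact hg s hs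
      · rw [Nat.card_congr (S.equivMapOfInjective (MulAut.conj g).toMonoidHom (MulAut.conj g).injective).toEquiv]
    refine Subgroup.mem_normalizer_iff.2 fun y => ⟨fun hy => hg y hy, fun hy => ?_⟩
    have hy' : g * y * g⁻¹ ∈ S.map (MulAut.conj g).toMonoidHom := by rw [hmap]; exact hy
    obtain ⟨t, ht, e⟩ := hy'
    rwa [← (MulAut.conj g).injective (show MulAut.conj g t = MulAut.conj g y from e)]
  have hconj : ∀ (g s t : G), Commute s t → Commute (g * s * g⁻¹) (g * t * g⁻¹) := fun g s t h =>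
    SemiconjBy.conj_iff.2 h
  have hsq : ∀ (g s : G), s * s = 1 → g * s * g⁻¹ * (g * s * g⁻¹) = 1 := fun g s h => by
    calc g * s * g⁻¹ * (g * s * g⁻¹) = g * (s * s) * g⁻¹ := by group
      _ = 1 := by rw [h, mul_one, mul_inv_cancel]
  have hCN : Subgroup.centralizer ({a} : Set G) ≤ N := fun c hc => hmemN c fun s hs => by
    have hca : c * a * c⁻¹ = a := by
      rw [Subgroup.mem_centralizer_singleton_iff.1 hc, mul_inv_cancel_right]
    refine (hS _).2 ⟨?_, hsq c s ((hS s).1 hs).2⟩
    have := hconj c a s ((hS s).1 hs).1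
    rwa [hca] at this
  -- the order of `N`
  have hrel : (Subgroup.centralizer ({a} : Set G)).relIndex N = p - 2 := by
    have hcardS : Nat.card {b : S // b ≠ 1} = p - 2 := by
      haveI := Fintype.ofFinite S
      have h1 : Fintype.card S = p - 1 := by rw [← Nat.card_eq_fintype_card, hq]
      rw [Nat.card_eq_fintype_card, Fintype.card_subtype_compl, Fintype.card_subtype_eq, h1]
      omega
    rw [Subgroup.relIndex, Subgroup.index_eq_card, ← hcardS]
    set C' := (Subgroup.centralizer ({a} : Set G)).subgroupOf N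
    refine Nat.card_congr (Equiv.ofBijective (fun q : N ⧸ C' => Quotient.liftOn' q
      (fun g => (⟨⟨(g : G) * a * (g : G)⁻¹, (Subgroup.mem_normalizer_iff.1 g.2 a).1 haS⟩,
        fun e => ha1 (conj_eq_one_iff.1 (congrArg Subtype.val e))⟩ : {b : S // b ≠ 1}))
      fun g g' hgg' => ?_) ⟨?_, ?_⟩)
    · rw [QuotientGroup.leftRel_apply, Subgroup.mem_subgroupOf,
        Subgroup.mem_centralizer_singleton_iff] at hgg'
      refine Subtype.ext (Subtype.ext ?_)
      show (g : G) * a * (g : G)⁻¹ = (g' : G) * a * (g' : G)⁻¹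
      rw [Subgroup.coe_mul, InvMemClass.coe_inv] at hgg'
      calc (g : G) * a * (g : G)⁻¹ = (g : G) * (a * ((g : G)⁻¹ * g')) * (g' : G)⁻¹ := by group
        _ = (g : G) * ((g : G)⁻¹ * g' * a) * (g' : G)⁻¹ := by rw [hgg']
        _ = _ := by group
    · intro q q'
      induction q using QuotientGroup.induction_on with
      | H g =>
        induction q' using QuotientGroup.induction_on with
        | H g' =>
          intro e
          have e' : (g : G) * a * (g : G)⁻¹ = (g' : G) * a * (g' : G)⁻¹ :=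
            congrArg (fun b : {b : S // b ≠ 1} => ((b : S) : G)) e
          refine QuotientGroup.eq.2 ?_
          rw [Subgroup.mem_subgroupOf, Subgroup.mem_centralizer_singleton_iff, Subgroup.coe_mul,
            InvMemClass.coe_inv]
          calc (g : G)⁻¹ * g' * a = (g : G)⁻¹ * ((g' : G) * a * (g' : G)⁻¹) * g' := by group
            _ = (g : G)⁻¹ * ((g : G) * a * (g : G)⁻¹) * g' := by rw [← e']
            _ = a * ((g : G)⁻¹ * g') := by group
    · rintro ⟨⟨b, hb⟩, hb1⟩
      have hb1' : b ≠ 1 := fun e => hb1 (Subtype.ext e)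
      obtain ⟨g, hg⟩ := hclass b ((hS b).1 hb).2 hb1'
      have hgN : g ∈ N := hmemN g fun s hs => hsame b hb hb1' _
        ⟨hg ▸ hconj g a s ((hS s).1 hs).1, hsq g s ((hS s).1 hs).2⟩
      exact ⟨((⟨g, hgN⟩ : N) : N ⧸ C'), Subtype.ext (Subtype.ext hg)⟩
  have hcardN : Nat.card N = (p - 2) * ((p - 1) * d) := by
    rw [← hC, ← hrel, Subgroup.relIndex,
      ← Nat.card_congr (Subgroup.subgroupOfEquivOfLe hCN).toEquiv, Subgroup.index_mul_card]
  have hd0 : 0 < d := Nat.card_pos
  have hindex : N.index = p := by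
    refine Nat.eq_of_mul_eq_mul_right (show 0 < (p - 2) * ((p - 1) * d) from
      Nat.mul_pos (by omega) (Nat.mul_pos (by omega) hd0)) ?_
    rw [← hcardN, Subgroup.index_mul_card, hG, hcardN]
    ring
  refine ⟨N, hindex, ?_⟩
  have hdodd := F.odd_card_reg
  rw [← hd] at hdodd
  have hm : ¬ 2 ∣ (p - 2) * d := fun h => by
    rcases Nat.prime_two.dvd_mul.1 h with h' | h'
    · omega
    · exact hdodd h'
  -- the involutions of `N`
  have hinv : ∀ s ∈ N, s * s = 1 → s ∈ S := by
    intro s hsN hs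
    have hsle : Subgroup.zpowers s ≤ N := Subgroup.zpowers_le.2 hsN
    have hP : IsPGroup 2 (Subgroup.zpowers s ⊔ S : Subgroup G) := by
      refine IsPGroup.to_sup_of_normal_right' (fun y => ⟨1, Subtype.ext ?_⟩)
        (fun y => ⟨1, Subtype.ext ?_⟩) hsle
      · obtain ⟨j, hj⟩ := Subgroup.mem_zpowers_iff.1 y.2
        rw [pow_one, pow_two, Subgroup.coe_mul, ← hj, ← zpow_add, ← two_mul, zpow_mul,
          zpow_two, hs, one_zpow, Subgroup.coe_one]
      · rw [pow_one, pow_two, Subgroup.coe_mul, Subgroup.coe_one]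
        exact ((hS y).1 y.2).2
    obtain ⟨j, hj⟩ := IsPGroup.iff_card.1 hP
    have hle : Subgroup.zpowers s ⊔ S ≤ N := sup_le hsle Subgroup.le_normalizer
    have h1 := Subgroup.card_dvd_of_le hle
    rw [hj, hcardN, show (p - 2) * ((p - 1) * d) = (p - 2) * d * (p - 1) by ring] at h1
    have h2 := Nat.le_of_dvd (by omega) (two_pow_eq_of_dvd_mul hm h1)
    have h3 : S = Subgroup.zpowers s ⊔ S :=
      Subgroup.eq_of_le_of_card_ge le_sup_right (by rw [hj, hq]; exact h2)
    rw [h3]
    exact Subgroup.mem_sup_left (Subgroup.mem_zpowers s)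
  set K := N.normalCore with hK
  have hKN : K ≤ N := Subgroup.normalCore_le N
  have hZN : Subgroup.center G ≤ N := le_trans (fun z hz =>
    Subgroup.mem_centralizer_singleton_iff.2 (Subgroup.mem_center_iff.1 hz a).symm) hCN
  have hZK : Subgroup.center G ≤ K := Subgroup.normal_le_normalCore.2 hZN
  have hKodd : ¬ 2 ∣ Nat.card K := by
    intro h
    obtain ⟨b, hb⟩ := exists_prime_orderOf_dvd_card' 2 h
    have hb2 : (b : G) * b = 1 := by
      rw [← pow_two, ← Subgroup.coe_pow, ← hb, pow_orderOf_eq_one, Subgroup.coe_one]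
    have hb1 : (b : G) ≠ 1 := fun e => by
      have : b = 1 := Subtype.ext e
      rw [this, orderOf_one] at hb
      omega
    obtain ⟨T, hT, -, -, -, hclassb⟩ := F.involution_class hkey hodd htwo hG hI hb2 hb1
    have hall : ∀ c : {c : G // c * c = 1 ∧ c ≠ 1}, (c : G) ∈ S := fun c => by
      obtain ⟨g, hg⟩ := hclassb c c.2.1 c.2.2
      refine hinv _ (hKN ?_) c.2.1
      rw [← hg]
      exact (Subgroup.normalCore_normal N).conj_mem _ b.2 g
    have h1 := Nat.card_le_card_of_injective
      (fun c : {c : G // c * c = 1 ∧ c ≠ 1} => (⟨(c : G), hall c⟩ : S))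
      fun c c' e => Subtype.ext (congrArg (fun s : S => (s : G)) e)
    rw [hI, hq] at h1
    have : p * 1 ≤ p * (p - 2) := Nat.mul_le_mul_left _ (by omega)
    omega
  have hpN : ¬ p ∣ Nat.card N := by
    rw [hcardN]
    intro h
    rcases (Fact.out : p.Prime).dvd_mul.1 h with h' | h'
    · have := Nat.le_of_dvd (by omega) h'
      omega
    rcases (Fact.out : p.Prime).dvd_mul.1 h' with h' | h'
    · have := Nat.le_of_dvd (by omega) h'
      omega
    · exact F.hyp.not_dvd_card_regPart (hd ▸ h')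
  -- the fixed points of `x` on `K`
  have hfix : ∀ y : G, y ∈ K → Commute y x → y ∈ Subgroup.center G := by
    intro y hy hyx
    obtain ⟨i, -, v, rfl⟩ := F.hyp.exists_decomp (mem_cent_iff.2 hyx)
    by_cases hi : p ∣ i
    · rw [F.hyp.pow_eq_one_iff.2 hi, one_mul]
      exact F.central v
    · refine absurd ?_ hpN
      exact (F.hyp.singular_pow_mul hi v).trans
        ((Subgroup.orderOf_dvd_natCard K hy).trans (Subgroup.card_dvd_of_le hKN))
  haveI hKn : K.Normal := Subgroup.normalCore_normal N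
  let act : Subgroup.zpowers x →* MulAut K :=
    (MulAut.conjNormal (H := K)).comp (Subgroup.zpowers x).subtype
  letI : MulAction (Subgroup.zpowers x) K := MulAction.compHom K act
  have hmod := (IsPGroup.of_card (p := p) (n := 1) (by rw [pow_one, F.hyp.card_zpowers]) :
    IsPGroup p (Subgroup.zpowers x)).card_modEq_card_fixedPoints K
  have hfp : Nat.card (MulAction.fixedPoints (Subgroup.zpowers x) K) = d := by
    rw [hd]
    refine Nat.card_congr
      { toFun := fun y => ⟨((y.1 : K) : G), ?_⟩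
        invFun := fun v => ⟨⟨(v : G), hZK (F.central v)⟩, fun g => Subtype.ext ?_⟩
        left_inv := fun y => Subtype.ext (Subtype.ext rfl)
        right_inv := fun v => Subtype.ext rfl }
    · rw [F.regPart_eq]
      refine hfix _ y.1.2 ?_
      have := congrArg Subtype.val (y.2 ⟨x, Subgroup.mem_zpowers x⟩)
      rw [show ((⟨x, Subgroup.mem_zpowers x⟩ : Subgroup.zpowers x) • (y.1 : K) : K) =
        MulAut.conjNormal x (y.1 : K) from rfl, MulAut.conjNormal_apply] at this
      exact (mul_inv_eq_iff_eq_mul.1 this).symm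
    · show ((MulAut.conjNormal ((g : G)) (⟨(v : G), hZK (F.central v)⟩ : K) : K) : G) = (v : G)
      rw [MulAut.conjNormal_apply, Subgroup.mem_center_iff.1 (F.central v) (g : G),
        mul_inv_cancel_right]
  rw [hfp] at hmod
  -- the order of `K`
  have hdK : d ∣ Nat.card K := by
    rw [hd, F.regPart_eq]
    exact Subgroup.card_dvd_of_le hZK
  obtain ⟨m, hmK⟩ := hdK
  have hKdvd : Nat.card K ∣ (p - 2) * d := by
    have h1 := Subgroup.card_dvd_of_le hKN
    obtain ⟨j, hj⟩ : ∃ j, p - 1 = 2 ^ j := by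
      haveI : Fact (Nat.Prime 2) := ⟨Nat.prime_two⟩
      obtain ⟨j, hj⟩ := IsPGroup.iff_card.1 (show IsPGroup 2 S from fun s => ⟨1, Subtype.ext (by
        rw [pow_one, pow_two, Subgroup.coe_mul, Subgroup.coe_one]; exact ((hS s).1 s.2).2)⟩)
      exact ⟨j, hq ▸ hj⟩
    rw [hcardN, show (p - 2) * ((p - 1) * d) = (p - 2) * d * (p - 1) by ring, hj] at h1
    exact (Nat.Coprime.pow_right _
      (Nat.prime_two.coprime_iff_not_dvd.2 hKodd).symm).dvd_of_dvd_mul_right h1
  have hm0 : 0 < m := Nat.pos_of_ne_zero fun e => by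
    rw [e, mul_zero] at hmK; exact Nat.card_pos.ne' hmK
  have hmle : m ≤ p - 2 := Nat.le_of_dvd (by omega)
    (Nat.dvd_of_mul_dvd_mul_left hd0 (hmK ▸ (mul_comm (p - 2) d) ▸ hKdvd))
  have hm1 : m = 1 := by
    rw [hmK] at hmod
    have h1 : d * m ≡ d * 1 [MOD p] := by rw [mul_one]; exact hmod
    have h2 := Nat.ModEq.cancel_left_of_coprime (c := d)
      ((Fact.out : p.Prime).coprime_iff_not_dvd.2 F.hyp.not_dvd_card_regPart) h1
    exact h2.eq_of_lt_of_lt (by omega) (by omega)
  refine (Subgroup.eq_of_le_of_card_ge hZK ?_).symm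
  rw [hmK, hm1, mul_one, hd, F.regPart_eq]

/-- The group is `SL(2, 2 ^ a)`. -/
theorem exists_SL2 : ∃ (a : ℕ) (K : Type) (_ : Field K) (_ : Fintype K),
    p = 2 ^ a + 1 ∧ Fintype.card K = 2 ^ a ∧ Subgroup.center G = ⊥ ∧
      Nonempty (G ≃* Matrix.SpecialLinearGroup (Fin 2) K) := by
  obtain ⟨k, hkey, hodd, htwo, hG, hI⟩ := F.count_data
  obtain ⟨N, hN, hcore⟩ := F.exists_index_prime hkey hodd htwo hG hI
  have hp5 := F.five_lt
  have hpp : p.Prime := Fact.out
  set d := Nat.card (regPart p x) with hd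
  have hZcard : Nat.card (Subgroup.center G) = d := by rw [hd, F.regPart_eq]
  haveI := Fintype.ofFinite (G ⧸ N)
  set f := MulAction.toPermHom G (G ⧸ N) with hf
  have hker : f.ker = Subgroup.center G := by rw [hf, ← Subgroup.normalCore_eq_ker, hcore]
  have hd0 : 0 < d := Nat.card_pos
  have hcardR : Nat.card f.range = p * (p - 1) * (p - 2) := by
    refine Nat.eq_of_mul_eq_mul_right hd0 ?_
    rw [← hG, ← hZcard, ← Subgroup.card_mul_index f.ker, Subgroup.index_ker, hker, mul_comm]
  have hxne : x ∉ Subgroup.center G := fun h => by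
    obtain ⟨v, hv⟩ := F.exists_reg_of_central h
    refine (F.hyp.mem_regPart_iff.1 v.2).2 ?_
    rw [hv, F.hyp.orderOf_x]
  set y : f.range := ⟨f x, x, rfl⟩ with hy
  have hyo : orderOf y = p := by
    refine orderOf_eq_prime_iff.2 ⟨Subtype.ext ?_, fun e => hxne ?_⟩
    · rw [Subgroup.coe_pow, hy, ← map_pow, F.hyp.pow_p, map_one, Subgroup.coe_one]
    · rw [← hker]
      exact congrArg Subtype.val e
  have hfac : (Nat.card f.range).factorization p = 1 := by
    have h1 : p ∣ Nat.card f.range := hyo ▸ orderOf_dvd_natCard y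
    have h2 := hpp.factorization_pos_of_dvd Nat.card_pos.ne' h1
    have h3 : (Nat.card f.range).factorization p ≤ (Nat.card G).factorization p :=
      (Nat.factorization_le_iff_dvd Nat.card_pos.ne' Nat.card_pos.ne').2
        (Subgroup.card_range_dvd f) p
    rw [F.hyp.factorization_eq_one] at h3
    omega
  let P : Sylow p f.range := Sylow.ofCard (Subgroup.zpowers y) (by
    rw [Nat.card_zpowers, hyo, hfac, pow_one])
  have hNP : Subgroup.normalizer ((P : Subgroup f.range) : Set f.range) =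
      (norm₁ x).map f.rangeRestrict := by
    show Subgroup.normalizer ((Subgroup.zpowers y : Subgroup f.range) : Set f.range) = _
    ext w
    obtain ⟨g, rfl⟩ := f.rangeRestrict_surjective w
    have hconj : ∀ i : ℕ, f.rangeRestrict g * y ^ i * (f.rangeRestrict g)⁻¹ =
        f.rangeRestrict (g * x ^ i * g⁻¹) := fun i => by
      rw [map_mul, map_mul, map_inv, map_pow]
      rfl
    constructor
    · intro hw
      refine ⟨g, ?_, rfl⟩
      obtain ⟨i, hi⟩ := Subgroup.mem_zpowers_iff.1
        ((Subgroup.mem_normalizer_iff.1 hw y).1 (Subgroup.mem_zpowers y))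
      have h1 := hconj 1
      rw [pow_one, pow_one, ← hi] at h1
      have h2 : f ((x ^ i)⁻¹ * (g * x * g⁻¹)) = 1 := by
        rw [map_mul, map_inv, inv_mul_eq_one, map_zpow]
        exact congrArg Subtype.val h1
      rw [← MonoidHom.mem_ker, hker] at h2
      obtain ⟨v, hv⟩ := F.exists_reg_of_central h2
      have hgx : g * x * g⁻¹ = x ^ i * (v : G) := by rw [hv]; group
      have hvp : (v : G) ^ p = 1 := by
        have e : (g * x * g⁻¹) ^ p = 1 := by rw [conj_pow, F.hyp.pow_p, mul_one, mul_inv_cancel]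
        rw [hgx, ((F.hyp.commute_regPart v).symm.zpow_left i).mul_pow] at e
        rwa [show (x ^ i) ^ p = 1 by
          rw [← zpow_natCast (x ^ i), ← zpow_mul, mul_comm, zpow_mul, zpow_natCast, F.hyp.pow_p,
            one_zpow], one_mul] at e
      have hv1 : (v : G) = 1 := by
        rcases (Nat.dvd_prime hpp).1 (orderOf_dvd_of_pow_eq_one hvp) with e | e
        · exact orderOf_eq_one_iff.1 e
        · exact absurd (dvd_of_eq e.symm) (F.hyp.mem_regPart_iff.1 v.2).2
      rw [hv1, mul_one] at hgx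
      obtain ⟨j, -, hj⟩ := F.hyp.mem_zpowers_iff_pow.1 (hgx ▸ zpow_mem (Subgroup.mem_zpowers x) i)
      refine F.hyp.mem_norm_iff.2 ⟨j, fun hd' => F.hyp.ne_one ?_, hj.symm⟩
      rw [F.hyp.pow_eq_one_iff.2 hd'] at hj
      exact conj_eq_one_iff.1 hj.symm
    · rintro ⟨g', hg', e⟩
      rw [← e]
      refine Subgroup.mem_normalizer_iff.2 fun z => ?_
      obtain ⟨h', rfl⟩ := f.rangeRestrict_surjective z
      have hmem : ∀ c : G, f.rangeRestrict c ∈ Subgroup.zpowers y ↔
          ∃ u ∈ Subgroup.center G, ∃ i : ℤ, c = x ^ i * u := by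
        intro c
        constructor
        · intro hc
          obtain ⟨i, hi⟩ := Subgroup.mem_zpowers_iff.1 hc
          refine ⟨(x ^ i)⁻¹ * c, ?_, i, (mul_inv_cancel_left _ _).symm⟩
          rw [← hker, MonoidHom.mem_ker, map_mul, map_inv, inv_mul_eq_one, map_zpow]
          exact congrArg Subtype.val hi
        · rintro ⟨u, hu, i, rfl⟩
          rw [← hker, MonoidHom.mem_ker] at hu
          refine Subgroup.mem_zpowers_iff.2 ⟨i, Subtype.ext ?_⟩
          show f x ^ i = f (x ^ i * u)
          rw [map_mul, hu, mul_one, map_zpow]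
      rw [← map_inv f.rangeRestrict, ← map_mul, ← map_mul, hmem, hmem]
      constructor
      · rintro ⟨u, hu, i, rfl⟩
        obtain ⟨l, hl⟩ := Subgroup.mem_zpowers_iff.1
          ((Subgroup.mem_normalizer_iff.1 hg' (x ^ i)).1 (zpow_mem (Subgroup.mem_zpowers x) i))
        refine ⟨u, hu, l, ?_⟩
        rw [hl]
        calc g' * (x ^ i * u) * g'⁻¹ = g' * x ^ i * (u * g'⁻¹) := by group
          _ = g' * x ^ i * (g'⁻¹ * u) := by rw [Subgroup.mem_center_iff.1 hu]
          _ = _ := by group
      · rintro ⟨u, hu, i, hi⟩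
        obtain ⟨l, hl⟩ := Subgroup.mem_zpowers_iff.1
          ((Subgroup.mem_normalizer_iff.1 (inv_mem hg') (x ^ i)).1
            (zpow_mem (Subgroup.mem_zpowers x) i))
        refine ⟨u, hu, l, ?_⟩
        rw [hl, inv_inv]
        calc h' = g'⁻¹ * (g' * h' * g'⁻¹) * g' := by group
          _ = g'⁻¹ * (x ^ i * u) * g' := by rw [hi]
          _ = g'⁻¹ * x ^ i * (u * g') := by group
          _ = g'⁻¹ * x ^ i * (g' * u) := by rw [Subgroup.mem_center_iff.1 hu]
          _ = _ := by group
  have hcardN : Nat.card (Subgroup.normalizer ((P : Subgroup f.range) : Set f.range)) = 2 * p := by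
    rw [hNP]
    set g := f.rangeRestrict.comp (norm₁ x).subtype
    have hr : g.range = (norm₁ x).map f.rangeRestrict := by
      rw [MonoidHom.range_comp, Subgroup.range_subtype]
    have hk : g.ker = (Subgroup.center G).subgroupOf (norm₁ x) := by
      ext n
      rw [MonoidHom.mem_ker, Subgroup.mem_subgroupOf, ← hker, MonoidHom.mem_ker]
      exact Subtype.ext_iff
    have hZle : Subgroup.center G ≤ norm₁ x :=
      (F.regPart_eq ▸ F.hyp.regPart_le).trans (cent_le_norm F.hyp)
    have h1 := Subgroup.card_mul_index g.ker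
    rw [Subgroup.index_ker, hr, hk, Nat.card_congr (Subgroup.subgroupOfEquivOfLe hZle).toEquiv,
      hZcard, F.card_norm₁] at h1
    refine Nat.eq_of_mul_eq_mul_left hd0 (h1.trans ?_)
    ring
  have hα : Fintype.card (G ⧸ N) = p := by
    rw [← Nat.card_eq_fintype_card, ← Subgroup.index_eq_card, hN]
  rcases Cfsg.Agent.S4706.result (by omega) hα f.range P hcardN with h | ⟨a, K, iK, iKf, hpa, hK, ⟨e⟩⟩
  · exfalso
    haveI := h
    rw [Subgroup.normalizer_eq_top (H := (P : Subgroup f.range)), Subgroup.card_top, hcardR,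
      mul_comm 2 p, mul_assoc] at hcardN
    have h1 := Nat.eq_of_mul_eq_mul_left (by omega : 0 < p) hcardN
    have : (p - 1) * 2 ≤ (p - 1) * (p - 2) := Nat.mul_le_mul_left _ (by omega)
    omega
  let σ : G →* Matrix.SpecialLinearGroup (Fin 2) K := e.toMonoidHom.comp f.rangeRestrict
  have hσs : Function.Surjective σ := e.surjective.comp f.rangeRestrict_surjective
  have hσk : σ.ker = Subgroup.center G := by
    rw [← hker, ← f.ker_rangeRestrict]
    ext g
    simp [σ, MonoidHom.mem_ker]
  have hstem : Cfsg.IsStemExtension σ :=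
    ⟨hσs, hσk.le, by rw [F.perfect]; exact le_top⟩
  have h9 : 2 ^ a ≠ 9 := fun h => by
    rcases a with _ | a
    · norm_num at h
    · rw [pow_succ] at h; omega
  have hbot := CfsgLib.SchurSL2.stem_ker_eq_bot (by rw [hK]; omega) (by rw [hK]; exact h9) σ hstem
  exact ⟨a, K, iK, iKf, hpa, hK, hσk ▸ hbot,
    ⟨MulEquiv.ofBijective σ ⟨(MonoidHom.ker_eq_bot_iff σ).1 hbot, hσs⟩⟩⟩

end Faithful

end CfsgLib.ItoPrimeDegree
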