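import Cfsg.Agent.Lib.ItoPrimeDegree.FaithfulGroup
import Cfsg.Agent.Lib.DefectOne.Principal
import Cfsg.Agent.Lib.Char.Kernel

/-!
A faithful character of degree `p - 2`: reduction to a perfect group and the direct decomposition.
-/

set_option autoImplicit false
set_option linter.style.haveILetI false

namespace CfsgLib.ItoPrimeDegree

open Cfsg CfsgLib.DefectOne
open scoped commutatorElement

universe u

variable {G : Type u} [Group G] [Finite G] {p : ℕ} [Fact p.Prime] {x : G}

theorem mem_zpowers_of_commute (h : HypOne p x) {y : G} (hy : Commute y x) (hp : y ^ p = 1) :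
    y ∈ Subgroup.zpowers x := by
  obtain ⟨i, -, v, rfl⟩ := h.exists_decomp (mem_cent_iff.2 hy)
  rw [((h.commute_regPart v).symm.pow_left i).mul_pow, ← pow_mul, mul_comm i p, pow_mul, h.pow_p,
    one_pow, one_mul] at hp
  have hv : (v : G) = 1 := by
    rcases (Nat.dvd_prime h.prime).1 (orderOf_dvd_of_pow_eq_one hp) with e | e
    · exact orderOf_eq_one_iff.1 e
    · exact absurd (dvd_of_eq e.symm) (h.mem_regPart_iff.1 v.2).2
  rw [hv, mul_one]
  exact pow_mem (Subgroup.mem_zpowers x) i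

/-- In a subgroup where `x` is not inverted, `x` commutes with everything. -/
theorem commute_of_norm_le_cent (h : HypOne p x) {ζ : G → ℂ} (hζ : Cfsg.IsCharacter G ζ)
    (hfaith : ∀ g : G, ζ g = ζ 1 → g = 1) (hd : Cfsg.charDegree ζ + 2 ≤ p) (K : Subgroup G)
    (hxK : x ∈ K) (hK : ∀ g ∈ K, g ∈ norm₁ x → g ∈ cent x) {g : G} (hg : g ∈ K) :
    Commute x g := by
  classical
  haveI := Fintype.ofFinite K
  set x' : K := ⟨x, hxK⟩
  have h' : HypOne p x' := ⟨h.prime, by rw [← Subgroup.orderOf_coe]; exact h.orderOf_x,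
    fun hd' => h.not_sq (hd'.trans (Subgroup.card_subgroup_dvd_card K))⟩
  have he : (cent x').relIndex (norm₁ x') = 1 := by
    rw [Subgroup.relIndex_eq_one]
    intro n hn
    obtain ⟨i, hi, hix⟩ := h'.mem_norm_iff.1 hn
    have hc := hK n n.2 (h.mem_norm_iff.2 ⟨i, hi, by simpa [x'] using congrArg Subtype.val hix⟩)
    exact mem_cent_iff.2 (Subtype.ext (mem_cent_iff.1 hc).eq)
  obtain ⟨m, hm⟩ := CfsgLib.Char.IsCharacter.exists_nat_combination
    (CfsgLib.Char.IsCharacter.restrict hζ K)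
  have hval : ∀ y : K, ζ y = ∑ θ : IrrCharacter K, (m θ : ℂ) * (θ : K → ℂ) y := fun y => by
    have := congrFun hm y
    simpa using this
  have hdeg : ∀ θ : IrrCharacter K, m θ ≠ 0 → charDegree (θ : K → ℂ) + 2 ≤ p := by
    intro θ hθ
    have h1 : ((∑ θ : IrrCharacter K, m θ * charDegree (θ : K → ℂ) : ℕ) : ℂ) =
        (charDegree ζ : ℂ) := by
      rw [CharTools.degree_cast hζ, show ζ 1 = ζ ((1 : K) : G) from rfl, hval]
      push_cast
      simp only [CharTools.irr_degree_cast]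
    have h2 : ∑ θ : IrrCharacter K, m θ * charDegree (θ : K → ℂ) = charDegree ζ := by
      exact_mod_cast h1
    have h3 : m θ * charDegree (θ : K → ℂ) ≤ charDegree ζ :=
      h2 ▸ Finset.single_le_sum (f := fun θ : IrrCharacter K => m θ * charDegree (θ : K → ℂ))
        (fun _ _ => Nat.zero_le _) (Finset.mem_univ θ)
    have h4 : 1 * charDegree (θ : K → ℂ) ≤ m θ * charDegree (θ : K → ℂ) :=
      Nat.mul_le_mul_right _ (Nat.pos_of_ne_zero hθ)
    omega
  have hk : ∀ θ : IrrCharacter K,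
      (m θ : ℂ) * (θ : K → ℂ) (x' * ⟨g, hg⟩ * x'⁻¹ * (⟨g, hg⟩ : K)⁻¹) =
        (m θ : ℂ) * (θ : K → ℂ) 1 := by
    intro θ
    by_cases hθ : m θ = 0
    · simp [hθ]
    · rw [center_of_norm_eq (CfsgLib.Char.IsIrrCharacter.isCharacter θ.2)
        (norm_eq_of_relIndex_one h' he θ (hdeg θ hθ))]
  have h1 : ζ ((x' * ⟨g, hg⟩ * x'⁻¹ * (⟨g, hg⟩ : K)⁻¹ : K) : G) = ζ ((1 : K) : G) := by
    rw [hval, hval]
    exact Finset.sum_congr rfl fun θ _ => hk θ
  have h2 : x * g * x⁻¹ * g⁻¹ = 1 := hfaith _ h1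
  rw [mul_inv_eq_one, mul_inv_eq_iff_eq_mul] at h2
  exact h2

/-- The classification of a faithful character of degree `p - 2`. -/
theorem exists_SL2_prod_center (hp : 5 < p) (P : Sylow p G) (hP : Nat.card P = p)
    (hnn : ¬ (P : Subgroup G).Normal) (ζ : G → ℂ) (hζ : Cfsg.IsIrrCharacter G ζ)
    (hfaith : ∀ g : G, ζ g = ζ 1 → g = 1) (hdeg : Cfsg.charDegree ζ = p - 2) :
    ∃ (a : ℕ) (F : Type) (_ : Field F) (_ : Fintype F), p = 2 ^ a + 1 ∧ Fintype.card F = 2 ^ a ∧
      Nonempty (G ≃* Matrix.SpecialLinearGroup (Fin 2) F × Subgroup.center G) := by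
  classical
  obtain ⟨x, h, hPx, -⟩ := exists_hypOne_of_sylow P hP
  have hζc := CfsgLib.Char.IsIrrCharacter.isCharacter hζ
  have hnorm : ¬ ∀ g : G, g * x * g⁻¹ ∈ Subgroup.zpowers x := by
    intro hall
    refine hnn ?_
    rw [hPx]
    refine ⟨fun y hy g => ?_⟩
    obtain ⟨j, rfl⟩ := Subgroup.mem_zpowers_iff.1 hy
    rw [← conj_zpow]
    exact zpow_mem (hall g) j
  have hxc : x ∉ Subgroup.center G := fun hc => hnorm fun g => by
    rw [Subgroup.mem_center_iff.1 hc g, mul_inv_cancel_right]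
    exact Subgroup.mem_zpowers x
  obtain ⟨he, φ, a, -, -, hφ, -, -, hreg, -⟩ := exists_column h hp ⟨ζ, hζ⟩ hdeg
    fun e => hxc (mem_center_of_norm_eq hζc hfaith e)
  have hφ1 : (φ : regPart p x → ℂ) 1 = 1 := by
    rw [← CharTools.irr_degree_cast φ, hφ, Nat.cast_one]
  have hle : regPart p x ≤ Subgroup.center G := fun v hv => mem_center_of_norm_eq hζc hfaith (by
    rw [show ζ v = _ from hreg ⟨v, hv⟩, norm_mul, norm_linear φ.2 hφ1, Complex.norm_natCast,
      mul_one, hdeg])
  -- the inverting element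
  obtain ⟨u, huN, huc⟩ : ∃ u ∈ norm₁ x, u ∉ cent x := by
    by_contra hno
    push Not at hno
    rw [Subgroup.relIndex_eq_one.2 hno] at he
    omega
  have hidx : ((cent x).subgroupOf (norm₁ x)).index = 2 := he
  have hku : (kHom h ⟨u, huN⟩ : ZMod p) = -1 := by
    have hu2 := Subgroup.mul_self_mem_of_index_two hidx ⟨u, huN⟩
    rw [Subgroup.mem_subgroupOf] at hu2
    have h1 : kHom h ⟨u, huN⟩ * kHom h ⟨u, huN⟩ = 1 := by
      rw [← map_mul]; exact (kHom_eq_one_iff h _).2 hu2
    rcases mul_self_eq_one_iff.1 (show (kHom h ⟨u, huN⟩ : ZMod p) * kHom h ⟨u, huN⟩ = 1 by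
      rw [← Units.val_mul, h1, Units.val_one]) with e | e
    · exact absurd ((kHom_eq_one_iff h _).1 (Units.ext e)) huc
    · exact e
  have hinv : u * x * u⁻¹ = x⁻¹ := by
    have h1 := kHom_spec h ⟨u, huN⟩
    rw [hku] at h1
    rw [show u * x * u⁻¹ = _ from h1]
    refine eq_inv_of_mul_eq_one_left ?_
    rw [← pow_succ, h.pow_eq_one_iff, ← ZMod.natCast_eq_zero_iff]
    push_cast
    rw [ZMod.natCast_zmod_val, neg_add_cancel]
  set H : Subgroup G := commutator G with hH
  haveI hHn : H.Normal := by rw [hH]; infer_instance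
  have hxH : x ∈ H := by
    have h1 : ⁅u, x⁆ ∈ H := Subgroup.commutator_mem_commutator (Subgroup.mem_top u) (Subgroup.mem_top x)
    rw [commutatorElement_def, hinv] at h1
    have h2 : x ^ 2 ∈ H := by
      have := inv_mem h1
      rwa [mul_inv_rev, inv_inv, ← pow_two] at this
    have hodd := Nat.odd_iff.1 (h.prime.odd_of_ne_two (by omega))
    have h3 : (x ^ 2) ^ ((p + 1) / 2) = x := by
      rw [← pow_mul, show 2 * ((p + 1) / 2) = p + 1 by omega, pow_succ, h.pow_p, one_mul]
    rw [← h3]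
    exact pow_mem h2 _
  -- the derived group and the centre
  set K : Subgroup G := H ⊔ Subgroup.center G with hK
  haveI hKn : K.Normal := Subgroup.sup_normal _ _
  have hcent : cent x ≤ K := by
    intro c hc
    obtain ⟨i, -, v, rfl⟩ := h.exists_decomp hc
    exact mul_mem (pow_mem (Subgroup.mem_sup_left hxH) i) (Subgroup.mem_sup_right (hle v.2))
  have huK : u ∈ K := by
    by_contra hu
    have hcK : ∀ g ∈ K, g ∈ norm₁ x → g ∈ cent x := by
      intro g hg hgN
      by_contra hgc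
      refine hu ?_
      have h1 : u⁻¹ * g ∈ cent x := by
        have := (Subgroup.mul_mem_iff_of_index_two hidx
          (a := (⟨u, huN⟩ : norm₁ x)⁻¹) (b := ⟨g, hgN⟩)).2 (by
            simp only [Subgroup.inv_mem_iff, Subgroup.mem_subgroupOf]
            exact iff_of_false huc hgc)
        exact Subgroup.mem_subgroupOf.1 this
      have h2 := mul_mem hg (inv_mem (hcent h1))
      rwa [mul_inv_rev, inv_inv, mul_inv_cancel_left] at h2
    refine hnorm fun g => mem_zpowers_of_commute h ?_ ?_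
    · exact (commute_of_norm_le_cent h hζc hfaith (by omega) K (Subgroup.mem_sup_left hxH) hcK
        (hKn.conj_mem x (Subgroup.mem_sup_left hxH) g)).symm
    · rw [conj_pow, h.pow_p, mul_one, mul_inv_cancel]
  have hnK : norm₁ x ≤ K := by
    intro g hg
    by_cases hgc : g ∈ cent x
    · exact hcent hgc
    have h1 : u⁻¹ * g ∈ cent x := by
      have := (Subgroup.mul_mem_iff_of_index_two hidx
        (a := (⟨u, huN⟩ : norm₁ x)⁻¹) (b := ⟨g, hg⟩)).2 (by
          simp only [Subgroup.inv_mem_iff, Subgroup.mem_subgroupOf]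
          exact iff_of_false huc hgc)
      exact Subgroup.mem_subgroupOf.1 this
    rw [← mul_inv_cancel_left u g]
    exact mul_mem huK (hcent h1)
  have hPH : (P : Subgroup G) ≤ H := by rw [hPx]; exact Subgroup.zpowers_le.2 hxH
  have htop : K = ⊤ := by
    have h1 := Sylow.normalizer_sup_eq_top' (N := H) P hPH
    refine top_le_iff.1 (h1 ▸ sup_le ?_ le_sup_left)
    intro g hg
    refine hnK ?_
    show g ∈ Subgroup.normalizer ((Subgroup.zpowers x : Subgroup G) : Set G)
    rw [← hPx]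
    exact hg
  have hdec : ∀ g : G, ∃ c ∈ H, ∃ z ∈ Subgroup.center G, c * z = g := fun g =>
    Subgroup.mem_sup_of_normal_right.1 (by rw [← hK, htop]; exact Subgroup.mem_top g)
  have hperf : commutator H = ⊤ := by
    refine Subgroup.map_injective H.subtype_injective ?_
    rw [commutator_def, Subgroup.map_commutator, ← MonoidHom.range_eq_map, Subgroup.range_subtype]
    refine le_antisymm (Subgroup.commutator_le_self H) ?_
    conv_lhs => rw [hH, commutator_def]
    refine Subgroup.commutator_le.2 fun g _ g' _ => ?_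
    obtain ⟨c, hc, z, hz, rfl⟩ := hdec g
    obtain ⟨c', hc', z', hz', rfl⟩ := hdec g'
    have hzc := Subgroup.mem_center_iff.1 hz
    have hzc' := Subgroup.mem_center_iff.1 hz'
    have e : ⁅c * z, c' * z'⁆ = ⁅c, c'⁆ := by
      rw [commutatorElement_def, commutatorElement_def]
      calc c * z * (c' * z') * (c * z)⁻¹ * (c' * z')⁻¹
          = c * (z * c') * (z' * z⁻¹ * c⁻¹) * z'⁻¹ * c'⁻¹ := by group
        _ = c * (c' * z) * (z' * z⁻¹ * c⁻¹) * z'⁻¹ * c'⁻¹ := by rw [← hzc c']
        _ = c * c' * (z * z' * z⁻¹) * c⁻¹ * z'⁻¹ * c'⁻¹ := by group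
        _ = c * c' * z' * c⁻¹ * z'⁻¹ * c'⁻¹ := by rw [hzc' z, mul_inv_cancel_right]
        _ = c * c' * (z' * c⁻¹) * z'⁻¹ * c'⁻¹ := by group
        _ = c * c' * (c⁻¹ * z') * z'⁻¹ * c'⁻¹ := by rw [← hzc' c⁻¹]
        _ = _ := by group
    rw [e]
    exact Subgroup.commutator_mem_commutator hc hc'
  -- the restriction
  obtain ⟨n, ρ, hρ, hρζ⟩ := hζ
  haveI := hρ
  set ρ' : Representation ℂ H (Fin n → ℂ) := ρ.comp H.subtype with hρ'
  haveI : Nontrivial (Fin n → ℂ) := CfsgLib.CharKernel.nontrivial_of_irreducible ρ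
  have hirr : ρ'.IsIrreducible := by
    refine CfsgLib.CharKernel.isIrreducible_of_forall ρ' fun W hW => ?_
    refine CfsgLib.CharKernel.eq_bot_or_eq_top ρ W fun g v hv => ?_
    obtain ⟨c, hc, z, hz, rfl⟩ := hdec g
    obtain ⟨s, hs⟩ := CfsgLib.Char.exists_scalar_of_commute ρ (ρ z) fun k => by
      rw [← map_mul, ← map_mul, Subgroup.mem_center_iff.1 hz k]
    rw [map_mul, Module.End.mul_apply, hs]
    simp only [LinearMap.smul_apply, Module.End.one_apply, LinearMap.id_apply]
    exact hW ⟨c, hc⟩ _ (W.smul_mem s hv)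
  have hres : Cfsg.IsIrrCharacter H fun c : H => ζ c :=
    ⟨n, ρ', hirr, funext fun c => congrFun hρζ c⟩
  set x' : H := ⟨x, hxH⟩
  have h' : HypOne p x' := ⟨h.prime, by rw [← Subgroup.orderOf_coe]; exact h.orderOf_x,
    fun hd' => h.not_sq (hd'.trans (Subgroup.card_subgroup_dvd_card H))⟩
  have hcen : ∀ c : H, c ∈ Subgroup.center H → (c : G) ∈ Subgroup.center G := by
    intro c hc
    refine Subgroup.mem_center_iff.2 fun g => ?_
    obtain ⟨b, hb, z, hz, rfl⟩ := hdec g
    have h1 : b * (c : G) = (c : G) * b :=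
      congrArg Subtype.val (Subgroup.mem_center_iff.1 hc ⟨b, hb⟩)
    calc b * z * (c : G) = b * (z * (c : G)) := mul_assoc _ _ _
      _ = b * ((c : G) * z) := by rw [← Subgroup.mem_center_iff.1 hz (c : G)]
      _ = (c : G) * b * z := by rw [← mul_assoc, h1]
      _ = _ := mul_assoc _ _ _
  obtain ⟨F, -⟩ := exists_faithful h' hp hperf ⟨_, hres⟩ (by
      have e : (charDegree (fun c : H => ζ c) : ℂ) = ((p - 2 : ℕ) : ℂ) := by
        rw [CharTools.degree_cast (CfsgLib.Char.IsIrrCharacter.isCharacter hres), ← hdeg,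
          CharTools.degree_cast hζc]
        rfl
      exact_mod_cast e)
    (fun c hc => Subtype.ext (hfaith c hc)) fun hc => hxc (hcen x' hc)
  obtain ⟨b, Fl, iF, iFt, hpb, hcard, hZ, ⟨e⟩⟩ := F.exists_SL2
  have hcomm : ∀ (c : H) (z : Subgroup.center G),
      Commute (H.subtype c) ((Subgroup.center G).subtype z) := fun c z =>
    Subgroup.mem_center_iff.1 z.2 c
  let f : H × Subgroup.center G →* G :=
    MonoidHom.noncommCoprod H.subtype (Subgroup.center G).subtype hcomm
  have hf : Function.Bijective f := by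
    refine ⟨(injective_iff_map_eq_one f).2 fun t ht => ?_, fun g => ?_⟩
    · have h1 : (t.1 : G) * (t.2 : G) = 1 := ht
      have h2 : (t.1 : G) ∈ Subgroup.center G := by
        rw [eq_inv_of_mul_eq_one_left h1]; exact inv_mem t.2.2
      have h3 : t.1 ∈ Subgroup.center H :=
        Subgroup.mem_center_iff.2 fun c => Subtype.ext (Subgroup.mem_center_iff.1 h2 c)
      rw [hZ, Subgroup.mem_bot] at h3
      rw [h3, Subgroup.coe_one, one_mul] at h1
      exact Prod.ext h3 (Subtype.ext h1)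
    · obtain ⟨c, hc, z, hz, rfl⟩ := hdec g
      exact ⟨(⟨c, hc⟩, ⟨z, hz⟩), rfl⟩
  exact ⟨b, Fl, iF, iFt, hpb, hcard,
    ⟨(MulEquiv.ofBijective f hf).symm.trans (MulEquiv.prodCongr e (MulEquiv.refl _))⟩⟩

end CfsgLib.ItoPrimeDegree
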