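import Cfsg.Agent.Lib.ItoPrimeDegree.FaithfulBlock
import Cfsg.Agent.Lib.Char.CentralOver
import Cfsg.Agent.Lib.Blocks.PPart

/-!
A faithful character of degree `p - 2` of a perfect group: its values on the `p`-regular elements.
-/

set_option autoImplicit false

set_option linter.unusedSectionVars false

namespace CfsgLib.ItoPrimeDegree

open Cfsg CfsgLib.DefectOne
open scoped ComplexConjugate Classical

universe u

variable {G : Type u} [Group G] [Finite G] {p : ℕ} [Fact p.Prime] {x : G}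

theorem norm_dichotomy (f : G → ℂ) {c : ℝ} (hc : 0 < c) (y : G) (hy : ¬ 2 ∣ orderOf y)
    (hrec : ∀ i, ‖f (y ^ (2 ^ i))‖ ^ 2 = c * ‖f (y ^ (2 ^ (i + 1)))‖) :
    ‖f y‖ = 0 ∨ ‖f y‖ = c := by
  have hpow : ∀ i, ‖f (y ^ (2 ^ i))‖ / c = (‖f y‖ / c) ^ (2 ^ i) := by
    intro i
    induction i with
    | zero => simp
    | succ i ih =>
      rw [pow_succ 2 i, pow_mul (‖f y‖ / c), ← ih, div_pow, hrec i, sq c,
        mul_div_mul_left _ _ hc.ne', pow_succ]
  set m := Nat.totient (orderOf y)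
  have hm : 0 < m := Nat.totient_pos.2 (orderOf_pos y)
  have hy1 : y ^ (2 ^ m) = y := by
    conv_rhs => rw [← pow_one y]
    exact pow_eq_pow_iff_modEq.2
      (Nat.ModEq.pow_totient (Nat.prime_two.coprime_iff_not_dvd.2 hy))
  have h1 := hpow m
  rw [hy1] at h1
  set r := ‖f y‖ / c
  have hr0 : 0 ≤ r := div_nonneg (norm_nonneg _) hc.le
  rcases hr0.lt_or_eq with hr | hr
  · right
    have h3 : 2 ≤ 2 ^ m := by
      calc 2 = 2 ^ 1 := (pow_one 2).symm
        _ ≤ 2 ^ m := Nat.pow_le_pow_right two_pos hm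
    have h2 : r ^ (2 ^ m - 1) = 1 := by
      refine mul_left_cancel₀ hr.ne' ?_
      rw [← pow_succ', Nat.sub_add_cancel (by omega), ← h1, mul_one]
    have h4 := (pow_eq_one_iff_of_nonneg hr0 (by omega)).1 h2
    exact (div_eq_one_iff_eq hc.ne').1 h4
  · left
    have := hr.symm
    rwa [div_eq_zero_iff, or_iff_left hc.ne'] at this

theorem exists_gaussian {χ : G → ℂ} (hχ : Cfsg.IsCharacter G χ) {g : G} (hg : g ^ 4 = 1) :
    ∃ s r : ℤ, χ g = (s : ℂ) + (r : ℂ) * Complex.I := by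
  obtain ⟨n, ρ, rfl⟩ := hχ
  obtain ⟨μ, hμ, -, -, hpow⟩ := CfsgLib.Char.exists_eigenvalues ρ g
  have h1 := hpow 1
  simp only [pow_one] at h1
  rw [h1]
  refine Finset.sum_induction μ (fun z => ∃ s r : ℤ, z = (s : ℂ) + (r : ℂ) * Complex.I)
    (fun a b => ?_) ⟨0, 0, by simp⟩ fun i _ => ?_
  · rintro ⟨s, r, rfl⟩ ⟨s', r', rfl⟩
    exact ⟨s + s', r + r', by push_cast; ring⟩
  have h4 : μ i ^ 4 = 1 := by
    obtain ⟨c, hc⟩ := orderOf_dvd_of_pow_eq_one hg
    rw [hc, pow_mul, hμ, one_pow]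
  have h5 : (μ i - 1) * (μ i + 1) * ((μ i - Complex.I) * (μ i + Complex.I)) = 0 := by
    linear_combination h4 + (1 - μ i ^ 2) * Complex.I_sq
  rcases mul_eq_zero.1 h5 with e | e <;> rcases mul_eq_zero.1 e with e | e
  · exact ⟨1, 0, by push_cast; linear_combination e⟩
  · exact ⟨-1, 0, by push_cast; linear_combination e⟩
  · exact ⟨0, 1, by push_cast; linear_combination e⟩
  · exact ⟨0, -1, by push_cast; linear_combination e⟩

namespace Faithful

variable (F : Faithful p x)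

include F

/-- A central element as an element of the regular part. -/
theorem exists_reg_of_central {z : G} (hz : z ∈ Subgroup.center G) :
    ∃ v : regPart p x, (v : G) = z := ⟨⟨z, by rw [F.regPart_eq]; exact hz⟩, rfl⟩

theorem reg_of_dvd {g y : G} (hy : ¬ p ∣ orderOf y) (hd : orderOf g ∣ orderOf y) :
    ¬ p ∣ orderOf g := fun h => hy (h.trans hd)

theorem central_of_pow_two {y : G} (hy : ¬ 2 ∣ orderOf y) {i : ℕ}
    (hc : y ^ (2 ^ i) ∈ Subgroup.center G) : y ∈ Subgroup.center G := by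
  obtain ⟨m, hm⟩ := exists_pow_eq_self_of_coprime (x := y) (n := 2 ^ i)
    (Nat.Coprime.pow_left _ (Nat.prime_two.coprime_iff_not_dvd.2 hy))
  rw [← hm]
  exact pow_mem hc m

theorem apply_mul_reg (g : G) (v : regPart p x) :
    (F.ζ : G → ℂ) (g * (v : G)) = (F.ζ : G → ℂ) g * (F.φ : regPart p x → ℂ) v := by
  have h := CfsgLib.CharOver.apply_mul_central F.ζ.2 (F.central v) g
  rw [F.natCast_deg, F.val_reg] at h
  have hn : ((p - 2 : ℕ) : ℂ) ≠ 0 :=
    Nat.cast_ne_zero.2 (by have := F.five_lt; omega)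
  exact mul_right_cancel₀ hn (h.trans (by ring))

variable {k : ℕ}
  (hkey : ∀ y : G, ¬ p ∣ orderOf y → (F.ζ : G → ℂ) y * (F.ζ : G → ℂ) y - (F.ζ : G → ℂ) (y * y) =
    ((p - 3 : ℕ) : ℂ) * (F.ζ : G → ℂ) (y ^ k))
  (hodd : ∀ y : G, ¬ p ∣ orderOf y → ¬ 2 ∣ orderOf y → y ^ k = y * y)
  (htwo : ∀ (y : G) (j : ℕ), orderOf y = 2 ^ j → y ^ k = y)

include hkey hodd in
theorem value_odd {y : G} (hy : ¬ p ∣ orderOf y) (hy2 : ¬ 2 ∣ orderOf y)
    (hc : y ∉ Subgroup.center G) : (F.ζ : G → ℂ) y = 0 := by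
  have hp5 := F.five_lt
  have hn : (0 : ℝ) < ((p - 2 : ℕ) : ℝ) := Nat.cast_pos.2 (by omega)
  have hd : ∀ i, orderOf (y ^ (2 ^ i)) ∣ orderOf y := fun i => orderOf_pow_dvd _
  have hrec : ∀ i, ‖(F.ζ : G → ℂ) (y ^ 2 ^ i)‖ ^ 2 =
      ((p - 2 : ℕ) : ℝ) * ‖(F.ζ : G → ℂ) (y ^ 2 ^ (i + 1))‖ := by
    intro i
    have h1 := hkey _ (F.reg_of_dvd hy (hd i))
    rw [hodd _ (F.reg_of_dvd hy (hd i)) fun h => hy2 (h.trans (hd i)), ← pow_add,
      ← two_mul, ← pow_succ'] at h1
    rw [← norm_pow, sq, ← Complex.norm_natCast, ← norm_mul,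
      show (F.ζ : G → ℂ) (y ^ 2 ^ i) * (F.ζ : G → ℂ) (y ^ 2 ^ i) =
        ((p - 2 : ℕ) : ℂ) * (F.ζ : G → ℂ) (y ^ 2 ^ (i + 1)) by
        rw [show p - 2 = (p - 3) + 1 by omega, Nat.cast_add, Nat.cast_one]
        linear_combination h1]
  rcases norm_dichotomy (F.ζ : G → ℂ) hn y hy2 hrec with e | e
  · exact norm_eq_zero.1 e
  · exact absurd (mem_center_of_norm_eq F.isCharacter_ζ F.faith (by rw [e, F.deg])) hc

include hkey htwo in
theorem value_involution {a : G} (ha : a * a = 1) (ha1 : a ≠ 1) : (F.ζ : G → ℂ) a = -1 := by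
  have hp5 := F.five_lt
  have ho : orderOf a = 2 ^ 1 := by
    rw [pow_one]
    exact orderOf_eq_prime_iff.2 ⟨by rw [pow_two, ha], ha1⟩
  have hr : ¬ p ∣ orderOf a := by
    rw [ho, pow_one]
    intro h
    have := Nat.le_of_dvd two_pos h
    omega
  have h1 := hkey a hr
  rw [htwo a 1 ho, ha, F.natCast_deg, show p - 2 = (p - 3) + 1 by omega, Nat.cast_add,
    Nat.cast_one] at h1
  have h2 : ((F.ζ : G → ℂ) a - (((p - 3 : ℕ) : ℂ) + 1)) * ((F.ζ : G → ℂ) a + 1) = 0 := by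
    linear_combination h1
  rcases mul_eq_zero.1 h2 with e | e
  · refine absurd (F.faith a ?_) ha1
    rw [F.natCast_deg, show p - 2 = (p - 3) + 1 by omega, Nat.cast_add, Nat.cast_one]
    linear_combination e
  · linear_combination e

include hkey htwo in
theorem no_order_four (a : G) : orderOf a ≠ 4 := by
  intro ho
  have hp5 := F.five_lt
  have hr : ¬ p ∣ orderOf a := by
    rw [ho]
    intro h
    have := Nat.le_of_dvd (by norm_num) h
    omega
  have h2 : a * a ≠ 1 := fun e => by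
    have := Nat.le_of_dvd two_pos (orderOf_dvd_of_pow_eq_one ((pow_two a).trans e))
    omega
  have h4 : a ^ 4 = 1 := ho ▸ pow_orderOf_eq_one a
  have h1 := hkey a hr
  rw [htwo a 2 ho, F.value_involution hkey htwo (a := a * a)
    (by rw [← h4, show (4 : ℕ) = 2 + 2 from rfl, pow_add, pow_two]) h2] at h1
  obtain ⟨s, r, hs⟩ := exists_gaussian F.isCharacter_ζ h4
  rw [hs] at h1
  set N : ℤ := ((p - 3 : ℕ) : ℤ) with hN
  have hN' : ((p - 3 : ℕ) : ℂ) = (N : ℂ) := by rw [hN, Int.cast_natCast]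
  rw [hN'] at h1
  have hre : s * s - r * r + 1 = N * s := by
    have := congrArg Complex.re h1
    simp at this
    exact_mod_cast this
  have him : 2 * (s * r) = N * r := by
    have := congrArg Complex.im h1
    simp at this
    have h3 : ((2 * (s * r) : ℤ) : ℝ) = ((N * r : ℤ) : ℝ) := by push_cast; linarith
    exact_mod_cast h3
  have hN3 : 3 ≤ N := by rw [hN]; omega
  rcases eq_or_ne r 0 with hr0 | hr0
  · rw [hr0, mul_zero, sub_zero] at hre
    have hunit : s * (N - s) = 1 := by linear_combination -hre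
    rcases Int.eq_one_or_neg_one_of_mul_eq_one hunit with e | e <;> rw [e] at hunit <;> omega
  · have h3 : 2 * s = N := mul_right_cancel₀ hr0 (by linear_combination him)
    rw [← h3] at hre hN3
    nlinarith [mul_self_nonneg r]

include hkey htwo in
theorem sq_eq_one_of_two {a : G} {j : ℕ} (hj : orderOf a = 2 ^ j) : a * a = 1 := by
  rcases le_or_gt j 1 with h | h
  · rw [← pow_two, ← orderOf_dvd_iff_pow_eq_one, hj]
    exact (pow_dvd_pow 2 h).trans (by rw [pow_one])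
  · refine absurd ?_ (F.no_order_four hkey htwo (a ^ 2 ^ (j - 2)))
    rw [orderOf_pow_of_dvd (pow_ne_zero _ two_ne_zero) (hj ▸ pow_dvd_pow 2 (by omega)), hj,
      Nat.pow_div (by omega) two_pos, show j - (j - 2) = 2 by omega]
    norm_num

include hkey htwo in
/-- The decomposition of a regular element. -/
theorem exists_decomp_two {y : G} (hy : ¬ p ∣ orderOf y) :
    ∃ a b : G, a * b = y ∧ Commute a b ∧ a * a = 1 ∧ ¬ 2 ∣ orderOf b ∧ ¬ p ∣ orderOf b := by
  obtain ⟨a, ha⟩ := CfsgLib.Blocks.exists_isPPart Nat.prime_two y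
  have hmem := CfsgLib.Blocks.IsPPart.mem_zpowers Nat.prime_two ha
  obtain ⟨b, hab, hc, ⟨j, hj⟩, hb⟩ := ha
  refine ⟨a, b, hab, hc, F.sq_eq_one_of_two hkey htwo hj, hb, F.reg_of_dvd hy ?_⟩
  refine orderOf_dvd_of_mem_zpowers ?_
  rw [show b = a⁻¹ * y by rw [← hab, inv_mul_cancel_left]]
  exact mul_mem (inv_mem hmem) (Subgroup.mem_zpowers y)

include hkey hodd htwo in
theorem value_mixed {a b : G} (ha : a * a = 1) (ha1 : a ≠ 1) (hab : Commute a b)
    (hb2 : ¬ 2 ∣ orderOf b) (hbp : ¬ p ∣ orderOf b) (hbc : b ∉ Subgroup.center G) :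
    (F.ζ : G → ℂ) (a * b) = 0 := by
  have hp5 := F.five_lt
  have ho : orderOf a = 2 ^ 1 := by
    rw [pow_one]
    exact orderOf_eq_prime_iff.2 ⟨by rw [pow_two, ha], ha1⟩
  set b' : ℕ → G := fun i => b ^ (2 ^ i) with hb'
  have h2 : ∀ i, ¬ 2 ∣ orderOf (b' i) := fun i h => hb2 (h.trans (orderOf_pow_dvd _))
  have hp' : ∀ i, ¬ p ∣ orderOf (b' i) := fun i => F.reg_of_dvd hbp (orderOf_pow_dvd _)
  have hcomm : ∀ i, Commute a (b' i) := fun i => hab.pow_right _
  have hnc : ∀ i, b' i ∉ Subgroup.center G := fun i h => hbc (F.central_of_pow_two hb2 h)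
  have hsucc : ∀ i, b' i * b' i = b' (i + 1) := fun i => by
    simp only [hb']
    rw [← pow_add, ← two_mul, ← pow_succ']
  have hprod : ∀ i, ¬ p ∣ orderOf (a * b' i) := by
    intro i h
    rcases (Fact.out : p.Prime).dvd_mul.1
      (h.trans (hcomm i).orderOf_mul_dvd_mul_orderOf) with h' | h'
    · rw [ho, pow_one] at h'
      have := Nat.le_of_dvd two_pos h'
      omega
    · exact hp' i h'
  have hz : ∀ i, (F.ζ : G → ℂ) (b' i) = 0 := fun i => F.value_odd hkey hodd (hp' i) (h2 i) (hnc i)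
  have hsq : ∀ i, a * b' i * (a * b' i) = b' (i + 1) := fun i => by
    calc a * b' i * (a * b' i) = a * (b' i * a) * b' i := by group
      _ = a * (a * b' i) * b' i := by rw [(hcomm i).eq]
      _ = a * a * (b' i * b' i) := by group
      _ = _ := by rw [ha, one_mul, hsucc]
  have hrec : ∀ i, (F.ζ : G → ℂ) (a * b' i) * (F.ζ : G → ℂ) (a * b' i) =
      ((p - 3 : ℕ) : ℂ) * (F.ζ : G → ℂ) (a * b' (i + 1)) := by
    intro i
    have h1 := hkey _ (hprod i)
    rwa [hsq, hz, sub_zero, (hcomm i).mul_pow, htwo a 1 ho, hodd _ (hp' i) (h2 i), hsucc] at h1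
  have hb0 : b' 0 = b := by simp [hb']
  have hc : (0 : ℝ) < ((p - 3 : ℕ) : ℝ) := Nat.cast_pos.2 (by omega)
  rcases norm_dichotomy (fun g => (F.ζ : G → ℂ) (a * g)) hc b hb2 fun i => by
      rw [← norm_pow, sq, ← Complex.norm_natCast, ← norm_mul]
      exact congrArg _ (hrec i) with e | e
  · exact norm_eq_zero.1 e
  exfalso
  -- eigenvalues
  obtain ⟨d, ρ, hρ⟩ := F.isCharacter_ζ
  obtain ⟨μ, -, hnorm, -, hpow⟩ := CfsgLib.Char.exists_eigenvalues ρ (a * b)
  have hdim : (Module.finrank ℂ (Fin d → ℂ) : ℝ) = ((p - 3 : ℕ) : ℝ) + 1 := by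
    have h0 : ρ.character 1 = (F.ζ : G → ℂ) 1 := congrFun hρ 1
    rw [Representation.char_one, F.natCast_deg] at h0
    have : Module.finrank ℂ (Fin d → ℂ) = (p - 3) + 1 := by
      have : Module.finrank ℂ (Fin d → ℂ) = p - 2 := by exact_mod_cast h0
      omega
    rw [this]; push_cast; ring
  set v := (F.ζ : G → ℂ) (a * b)
  set w : ℂ := conj v / (((p - 3 : ℕ) : ℝ) : ℂ)
  have e' : ‖v‖ = ((p - 3 : ℕ) : ℝ) := e
  have hw : ‖w‖ = 1 := by
    rw [norm_div, Complex.norm_conj, e', Complex.norm_real, Real.norm_of_nonneg hc.le,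
      div_self hc.ne']
  have hv : w * v = (((p - 3 : ℕ) : ℝ) : ℂ) := by
    rw [div_mul_eq_mul_div, mul_comm, Complex.mul_conj', e', sq, mul_div_assoc,
      div_self (Complex.ofReal_ne_zero.2 hc.ne'), mul_one]
  have e1 : (∑ i, w * μ i).re = ((p - 3 : ℕ) : ℝ) := by
    have h0 := hpow 1
    simp only [pow_one] at h0
    rw [← Finset.mul_sum, ← h0, congrFun hρ, show (F.ζ : G → ℂ) (a * b) = v from rfl, hv,
      Complex.ofReal_re]
  have e2 : (∑ i, (w * μ i) ^ 2).re = 0 := by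
    simp only [mul_pow]
    rw [← Finset.mul_sum, ← hpow 2, pow_two (a * b), congrFun hρ]
    have h0 := hsq 0
    rw [hb0] at h0
    rw [h0, hz, mul_zero, Complex.zero_re]
  have key : ∀ i, 0 ≤ ((w * μ i) ^ 2).re - 4 * (w * μ i).re + 3 := by
    intro i
    have hn2 : (w * μ i).re * (w * μ i).re + (w * μ i).im * (w * μ i).im = 1 := by
      rw [← Complex.normSq_apply, Complex.normSq_eq_norm_sq, norm_mul, hw, hnorm, one_mul, one_pow]
    rw [pow_two, Complex.mul_re (w * μ i) (w * μ i)]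
    nlinarith [mul_self_nonneg ((w * μ i).re - 1)]
  have hsum := Finset.sum_nonneg fun i (_ : i ∈ Finset.univ) => key i
  rw [Finset.sum_add_distrib, Finset.sum_sub_distrib, ← Complex.re_sum, ← Finset.mul_sum,
    ← Complex.re_sum, e1, e2, Finset.sum_const, Finset.card_univ, Fintype.card_fin,
    nsmul_eq_mul, hdim] at hsum
  have : (4 : ℝ) ≤ ((p - 3 : ℕ) : ℝ) := by
    have : 4 ≤ p - 3 := by
      have hodd' := Nat.odd_iff.1 ((Fact.out : p.Prime).odd_of_ne_two (by omega))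
      omega
    exact_mod_cast this
  linarith

include hkey hodd htwo in
theorem value_zero {y : G} (hy : ¬ p ∣ orderOf y) (hc : y * y ∉ Subgroup.center G) :
    (F.ζ : G → ℂ) y = 0 := by
  obtain ⟨a, b, rfl, hab, ha, hb2, hbp⟩ := F.exists_decomp_two hkey htwo hy
  have hbc : b ∉ Subgroup.center G := fun h => hc (by
    rw [show a * b * (a * b) = b * b by
      calc a * b * (a * b) = a * (b * a) * b := by group
        _ = a * (a * b) * b := by rw [hab.eq]
        _ = a * a * (b * b) := by group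
        _ = _ := by rw [ha, one_mul]]
    exact mul_mem h h)
  by_cases ha1 : a = 1
  · rw [ha1, one_mul]
    exact F.value_odd hkey hodd hbp hb2 hbc
  · exact F.value_mixed hkey hodd htwo ha ha1 hab hb2 hbp hbc

omit [Finite G] F in
theorem dvd_orderOf_sq {y : G} (hp : p ≠ 2) (hy : p ∣ orderOf y) : p ∣ orderOf (y * y) := by
  rw [← pow_two, orderOf_pow' y two_ne_zero]
  exact Nat.dvd_div_of_mul_dvd (Nat.Coprime.mul_dvd_of_dvd_of_dvd
    (((Nat.coprime_primes (Fact.out : p.Prime) Nat.prime_two).2 hp).symm.coprime_dvd_left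
      (Nat.gcd_dvd_right _ _)) (Nat.gcd_dvd_left _ _) hy)

include hkey htwo in
theorem value_sq_central {y : G} (hy : y ∉ Subgroup.center G)
    (hc : y * y ∈ Subgroup.center G) :
    ∃ (a : G) (v : regPart p x), a * a = 1 ∧ a ≠ 1 ∧ a * (v : G) = y ∧
      (F.ζ : G → ℂ) y = -(F.φ : regPart p x → ℂ) v := by
  have hp5 := F.five_lt
  have hyr : ¬ p ∣ orderOf y := fun h => by
    obtain ⟨w, hw⟩ := F.exists_reg_of_central hc
    exact (F.hyp.mem_regPart_iff.1 w.2).2 (hw ▸ dvd_orderOf_sq (by omega) h)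
  obtain ⟨a, b, rfl, hab, ha, hb2, hbp⟩ := F.exists_decomp_two hkey htwo hyr
  have hbc : b ∈ Subgroup.center G := by
    refine F.central_of_pow_two hb2 (i := 1) ?_
    rw [pow_one, pow_two]
    rwa [show a * b * (a * b) = b * b by
      calc a * b * (a * b) = a * (b * a) * b := by group
        _ = a * (a * b) * b := by rw [hab.eq]
        _ = a * a * (b * b) := by group
        _ = _ := by rw [ha, one_mul]] at hc
  have ha1 : a ≠ 1 := fun e => hy (by rw [e, one_mul]; exact hbc)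
  obtain ⟨v, rfl⟩ := F.exists_reg_of_central hbc
  exact ⟨a, v, ha, ha1, rfl, by
    rw [F.apply_mul_reg, F.value_involution hkey htwo ha ha1, neg_one_mul]⟩

end Faithful

end CfsgLib.ItoPrimeDegree
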