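import Cfsg.Agent.Lib.ItoPrimeDegree.TwoWeights
import Cfsg.Agent.Lib.ItoPrimeDegree.AltSquare
import Cfsg.Agent.Lib.Char.GaloisConj
import Cfsg.Agent.Lib.Char.Orth

/-!
With exceptional characters of degree `p - 2` the group has order `p (p - 1) (p - 2)`.
-/

set_option autoImplicit false
set_option linter.style.haveILetI false

open scoped ComplexConjugate

namespace CfsgLib.ItoPrimeDegree.Star

open CfsgLib.SmallOrder

universe u

variable {G : Type u} [Group G] [Fintype G] {p : ℕ} [Fact p.Prime] {P : Sylow p G} {S : CSplit p P}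
  (T : Star S)

omit [Fintype G] in
theorem orderOf_zpw {P : Sylow p G} (S : CSplit p P) {i : ZMod p} (hi : i ≠ 0) :
    orderOf (zpw S.z i) = p := by
  have hd : orderOf (zpw S.z i) ∣ p := by
    have := orderOf_pow_dvd (x := S.z) i.val
    rwa [S.hz] at this
  exact ((Nat.dvd_prime Fact.out).1 hd).resolve_left fun h1 => hi (zpw_injective S.hz
    (by rw [zpw_zero, orderOf_eq_one_iff.1 h1]))

theorem exists_conj_zpw {P : Sylow p G} (S : CSplit p P) (hV : Nat.card S.V = 1) {g : G}
    (hg : p ∣ orderOf g) : ∃ (x : G) (i : ZMod p), i ≠ 0 ∧ g = x * zpw S.z i * x⁻¹ := by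
  have hp : p.Prime := Fact.out
  set k := orderOf g / p
  have hk : orderOf (g ^ k) = p := orderOf_pow_orderOf_div (orderOf_pos g).ne' hg
  have hpg : IsPGroup p (Subgroup.zpowers (g ^ k)) :=
    IsPGroup.of_card (n := 1) (by rw [Nat.card_zpowers, hk, pow_one])
  obtain ⟨Q, hQ⟩ := hpg.exists_le_sylow
  obtain ⟨x, hx⟩ := MulAction.exists_smul_eq G P Q
  have hmem : x⁻¹ * g ^ k * x ∈ (P : Subgroup G) := by
    have h1 : g ^ k ∈ (Q : Subgroup G) := hQ (Subgroup.mem_zpowers _)
    rw [← hx, Sylow.coe_subgroup_smul] at h1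
    obtain ⟨y, hy, hyk⟩ := h1
    rw [← hyk]
    simpa [MulAut.conj_apply, mul_assoc] using SetLike.mem_coe.1 hy
  rw [← S.hP] at hmem
  obtain ⟨i, hi⟩ := exists_zpw_of_mem_zpowers S.hz hmem
  have hi0 : i ≠ 0 := by
    rintro rfl
    rw [zpw_zero] at hi
    have h2 : g ^ k = 1 := by
      have := congrArg (fun w => x * w * x⁻¹) hi
      simpa [mul_assoc] using this
    rw [h2, orderOf_one] at hk
    exact hp.one_lt.ne hk
  set c := x⁻¹ * g * x with hc
  have hck : c ^ k = zpw S.z i := by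
    rw [← hi, hc]
    have h9 := conj_pow (a := x⁻¹) (b := g) (i := k)
    rw [inv_inv] at h9
    exact h9
  have hcz : Commute c (zpw S.z i) := hck ▸ Commute.self_pow c k
  have hcent : c ∈ Subgroup.centralizer ((P : Subgroup G) : Set G) := by
    refine Subgroup.mem_centralizer_iff.2 fun y hy => ?_
    rw [← S.hP] at hy
    obtain ⟨j, rfl⟩ := exists_zpw_of_mem_zpowers S.hz hy
    obtain ⟨n, hn⟩ : ∃ n : ℕ, (n : ZMod p) * i = j :=
      ⟨(j / i).val, by rw [ZMod.natCast_zmod_val, div_mul_cancel₀ _ hi0]⟩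
    rw [← hn, ← zpw_mul S.hz]
    exact (hcz.pow_right n).eq.symm
  obtain ⟨j, v, hv, hjv⟩ := S.hC c hcent
  rw [Subgroup.card_eq_one] at hV
  rw [hV, Subgroup.mem_bot] at hv
  subst hv
  rw [mul_one] at hjv
  have hg' : g = x * zpw S.z j * x⁻¹ := by
    rw [← hjv, hc]; simp [mul_assoc]
  refine ⟨x, j, fun hj => ?_, hg'⟩
  rw [hj, zpw_zero, mul_one, mul_inv_cancel] at hg'
  rw [hg', orderOf_one] at hg
  exact hp.not_dvd_one hg

theorem powIrr_σ (hV : Nat.card S.V = 1) (he : Nat.card S.act.range = 2) (hp : 5 ≤ p)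
    {k : ℕ} (hk : k.Coprime (Nat.card G)) : CharGalois.powIrr hk T.σ = T.σ := by
  classical
  letI : Fintype S.Orb := Fintype.ofFinite _
  set σ' := CharGalois.powIrr hk T.σ
  have hk0 : (k : ZMod p) ≠ 0 := by
    intro h
    rw [ZMod.natCast_eq_zero_iff] at h
    have hd : p ∣ Nat.card G := S.hz ▸ orderOf_dvd_natCard S.z
    exact (Fact.out : p.Prime).not_dvd_one ((Nat.dvd_gcd h hd).trans (dvd_of_eq hk))
  have hS : ∀ (f : G → ℂ) (i : ZMod p), S.Ssum f i = f (zpw S.z i) := fun f i => by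
    rw [CSplit.Ssum, finsum_eq_single _ (1 : S.V) fun v hv => absurd (Subtype.ext
      (Subgroup.mem_bot.1 (Subgroup.card_eq_one.1 hV ▸ v.2))) hv]
    simp
  have hvec : ∀ o, S.vec σ' o = T.ε := by
    intro o
    have h := S.sum_mul_vec (fun χ => if χ = σ' then 1 else 0) (-(T.ε : ℂ)) (fun i hi => by
      simp only [ite_mul, one_mul, zero_mul, Finset.sum_ite_eq', Finset.mem_univ, if_true, hS]
      show T.σ.1 (zpw S.z i ^ k) = _
      rw [zpw_mul S.hz, T.σ_zpw hV (mul_ne_zero hk0 hi)]) o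
    simp only [ite_mul, one_mul, zero_mul, Finset.sum_ite_eq', Finset.mem_univ, if_true, hV,
      neg_neg, Nat.cast_one, div_one] at h
    exact_mod_cast h
  have hne : σ' ≠ Char.principalIrr := fun h => T.σ_ne ((CharGalois.powIrr_bijective hk).1 (h.trans
    (Subtype.ext (funext fun g => by
      show _ = (Char.principalIrr : Cfsg.IrrCharacter G).1 (g ^ k)
      rw [Char.principalIrr_apply, Char.principalIrr_apply]))))
  by_contra hσ
  have hcard : 2 * Fintype.card S.Orb = p - 1 := by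
    have h := Subgroup.index_mul_card S.act.range
    rw [he, Subgroup.index_eq_card] at h
    rw [← Nat.card_eq_fintype_card (α := S.Orb)]
    have hu : Nat.card (ZMod p)ˣ = p - 1 := by rw [Nat.card_eq_fintype_card, ZMod.card_units]
    rw [hu] at h
    rw [mul_comm]; exact h
  obtain ⟨o1, o2, h12⟩ := Fintype.one_lt_card_iff.1 (show 1 < Fintype.card S.Orb by omega)
  have hε := T.hε
  have h1 : σ' = T.μ o1 := by
    by_contra h
    have := T.vec_other σ' o1 hne hσ h
    rw [hvec] at this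
    omega
  have h2 : σ' = T.μ o2 := by
    by_contra h
    have := T.vec_other σ' o2 hne hσ h
    rw [hvec] at this
    omega
  exact h12 (T.inj (h1.symm.trans h2))

theorem σ_int (hV : Nat.card S.V = 1) (he : Nat.card S.act.range = 2) (hp : 5 ≤ p) (g : G) :
    ∃ z : ℤ, T.σ.1 g = z := by
  haveI : NeZero (Nat.card G) := ⟨Nat.card_pos.ne'⟩
  have hc := Char.IsIrrCharacter.isCharacter T.σ.2
  have hrat : ∃ q : ℚ, T.σ.1 g = (q : ℂ) := by
    refine (CharPower.exists_rat_iff hc g (orderOf_pos g) (pow_orderOf_eq_one g)).2 fun m hm => ?_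
    obtain ⟨u, hu⟩ := ZMod.unitsMap_surjective (orderOf_dvd_natCard g) (ZMod.unitOfCoprime m hm)
    have hmod : (u : ZMod (Nat.card G)).val ≡ m [MOD orderOf g] := by
      rw [← ZMod.natCast_eq_natCast_iff]
      have h := congrArg Units.val hu
      rw [ZMod.unitsMap_val, ZMod.coe_unitOfCoprime] at h
      rw [← h, ZMod.natCast_val]
    have h := congrFun (congrArg Subtype.val
      (T.powIrr_σ hV he hp (k := (u : ZMod (Nat.card G)).val) (ZMod.val_coe_unit_coprime u))) g
    rw [CharGalois.powIrr_apply, pow_eq_pow_iff_modEq.2 hmod] at h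
    exact h
  obtain ⟨q, hq⟩ := hrat
  obtain ⟨n, hn⟩ := Char.exists_int_of_isIntegral_ratCast
    (hq ▸ Char.IsGeneralizedCharacter.isIntegral_apply
      (Char.IsIrrCharacter.isGeneralizedCharacter T.σ.2) g)
  exact ⟨n, by rw [hq]; exact_mod_cast hn.symm⟩

/-- The exterior square of an exceptional character on the `p`-regular elements. -/
theorem alt_regular (hV : Nat.card S.V = 1) (he : Nat.card S.act.range = 2) (hp : 5 ≤ p)
    (hε : T.ε = 1) (hδ : T.δ = -1) (hdμ : ∀ o, Char.degree (T.μ o).1 = p - 2) (o : S.Orb) {y : G}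
    (hy : ¬ p ∣ orderOf y) :
    (T.μ o).1 y * (T.μ o).1 y - (T.μ o).1 (y * y) = ((p - 3 : ℕ) : ℂ) * (T.μ o).1 y := by
  classical
  letI : Fintype S.Orb := Fintype.ofFinite _
  obtain ⟨u, rfl⟩ := QuotientGroup.mk_surjective o
  set a : S.Orb := QuotientGroup.mk u with ha
  set f := (T.μ a).1
  set A : G → ℂ := fun g => (f g * f g - f (g * g)) / 2 with hA
  obtain ⟨m, hm⟩ := Char.IsCharacter.exists_nat_combination
    (isCharacter_altSquare (Char.IsIrrCharacter.isCharacter (T.μ a).2))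
  have hmval : ∀ g, A g = ∑ ψ : Cfsg.IrrCharacter G, (m ψ : ℂ) * ψ.1 g := fun g => by
    show (fun g => (f g * f g - f (g * g)) / 2) g = _
    rw [hm]; simp
  have h2 : (2 : ZMod p) ≠ 0 := by
    intro h
    have h' : ((2 : ℕ) : ZMod p) = 0 := by exact_mod_cast h
    rw [ZMod.natCast_eq_zero_iff] at h'
    exact absurd (Nat.le_of_dvd two_pos h') (by omega)
  set w : (ZMod p)ˣ := Units.mk0 2 h2 * u with hw
  set c : S.Orb := QuotientGroup.mk w with hc
  have hS : ∀ (f : G → ℂ) (i : ZMod p), S.Ssum f i = f (zpw S.z i) := fun f i => by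
    rw [CSplit.Ssum, finsum_eq_single _ (1 : S.V) fun v hv => absurd (Subtype.ext
      (Subgroup.mem_bot.1 (Subgroup.card_eq_one.1 hV ▸ v.2))) hv]
    simp
  -- the coefficients
  have hrel : ∀ o, -((m Char.principalIrr : ℤ)) + (m T.σ : ℤ) - ((m (T.μ o) : ℤ) + if o = c then 1 else 0) =
      -1 := by
    intro o
    have h := S.sum_mul_vec (fun χ => (m χ : ℂ) + if χ = T.μ c then 1 else 0) 1 (fun i hi => by
      simp only [hS, add_mul, ite_mul, one_mul, zero_mul, Finset.sum_add_distrib, Finset.sum_ite_eq',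
        Finset.mem_univ, if_true]
      rw [← hmval, T.μ_zpw hV he (by omega) w hi]
      have e1 : f (zpw S.z i) = -cosSum (i * (u : ZMod p)) := by
        rw [show f = (T.μ a).1 from rfl, T.μ_zpw hV he (by omega) u hi, hδ]
        push_cast; ring
      have e2 : f (zpw S.z i * zpw S.z i) = -cosSum (2 * (i * (u : ZMod p))) := by
        rw [← zpw_add S.hz, show f = (T.μ a).1 from rfl,
          T.μ_zpw hV he (by omega) u (by rw [← two_mul]; exact mul_ne_zero h2 hi), hδ,
          show (i + i) * (u : ZMod p) = 2 * (i * (u : ZMod p)) by ring]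
        push_cast; ring
      simp only [hA, e1, e2, hδ, hw, Units.val_mul, Units.val_mk0,
        show i * (2 * (u : ZMod p)) = 2 * (i * (u : ZMod p)) by ring]
      push_cast
      rw [neg_mul_neg, cosSum_sq]
      ring) o
    rw [T.sum_vec, hε, hδ, hV, if_neg (T.μ_ne c).symm, if_neg (T.μ_ne_σ c).symm] at h
    have hoc : (T.μ o = T.μ c) ↔ o = c := ⟨fun h => T.inj h, fun h => h ▸ rfl⟩
    simp only [hoc] at h
    have : ((-((m Char.principalIrr : ℤ)) + (m T.σ : ℤ) - ((m (T.μ o) : ℤ) + if o = c then 1 else 0) : ℤ) : ℂ)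
        = ((-1 : ℤ) : ℂ) := by
      split_ifs at h ⊢ <;> push_cast at h ⊢ <;> linear_combination h
    exact_mod_cast this
  set one : Cfsg.IrrCharacter G := Char.principalIrr
  set X : Finset (Cfsg.IrrCharacter G) := insert one (insert T.σ (Finset.univ.image T.μ)) with hX
  have hd1 : Char.degree one.1 = 1 := CharTools.charDegree_principal (G := G)
  have hn1 : one ∉ insert T.σ (Finset.univ.image T.μ) := by
    simp only [Finset.mem_insert, Finset.mem_image, Finset.mem_univ, true_and, not_or, not_exists]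
    exact ⟨T.σ_ne.symm, fun o h => T.μ_ne o h⟩
  have hn2 : T.σ ∉ Finset.univ.image T.μ := by
    simp only [Finset.mem_image, Finset.mem_univ, true_and, not_exists]
    exact fun o h => T.μ_ne_σ o h
  have hsplit : ∀ {M : Type} [AddCommMonoid M] (F : Cfsg.IrrCharacter G → M),
      ∑ χ, F χ = (∑ χ ∈ Finset.univ \ X, F χ) + (F one + (F T.σ + ∑ o, F (T.μ o))) := by
    intro M _ F
    rw [← Finset.sum_sdiff (Finset.subset_univ X), hX, Finset.sum_insert hn1, Finset.sum_insert hn2,
      Finset.sum_image fun x _ y _ h => T.inj h]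
  have hcard : 2 * Fintype.card S.Orb = p - 1 := by
    have h := Subgroup.index_mul_card S.act.range
    rw [he, Subgroup.index_eq_card] at h
    rw [← Nat.card_eq_fintype_card (α := S.Orb)]
    have hu : Nat.card (ZMod p)ˣ = p - 1 := by rw [Nat.card_eq_fintype_card, ZMod.card_units]
    rw [hu] at h
    rw [mul_comm]; exact h
  set L : ℤ := 1 - (m one : ℤ) + (m T.σ : ℤ) with hL
  have hmo : ∀ o, (m (T.μ o) : ℤ) = L - if o = c then 1 else 0 := fun o => by
    have := hrel o; linarith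
  set Z : ℕ := ∑ ψ ∈ Finset.univ \ X, m ψ * Char.degree ψ.1 with hZ
  have hdσ : (Char.degree T.σ.1 : ℤ) = (p : ℤ) - 1 := by
    have h := T.degree_eq a
    rw [hε, hδ, hdμ] at h
    omega
  have hdeg : 2 * ((Z : ℤ) + ((m one : ℤ) + ((m T.σ : ℤ) * ((p : ℤ) - 1) +
      ((Fintype.card S.Orb : ℤ) * L - 1) * ((p : ℤ) - 2)))) = ((p : ℤ) - 2) * ((p : ℤ) - 3) := by
    have h := hmval 1
    have hf1 : f 1 = ((p : ℂ) - 2) := by
      show (T.μ a).1 1 = _
      rw [← Char.IsCharacter.degree_cast (Char.IsIrrCharacter.isCharacter (T.μ a).2), hdμ,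
        Nat.cast_sub (by omega), Nat.cast_two]
    simp only [hA, mul_one, hf1] at h
    have hcast : ((∑ ψ : Cfsg.IrrCharacter G, (m ψ : ℤ) * (Char.degree ψ.1 : ℤ) : ℤ) : ℂ) =
        ((p : ℂ) - 2) * ((p : ℂ) - 2 - 1) / 2 := by
      rw [Int.cast_sum, show ((p : ℂ) - 2) * ((p : ℂ) - 2 - 1) = ((p : ℂ) - 2) * ((p : ℂ) - 2) - ((p : ℂ) - 2) by ring, h]
      refine Finset.sum_congr rfl fun ψ _ => ?_
      push_cast
      rw [Char.IsCharacter.degree_cast (Char.IsIrrCharacter.isCharacter ψ.2)]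
    have hsum : ∑ ψ : Cfsg.IrrCharacter G, (m ψ : ℤ) * (Char.degree ψ.1 : ℤ) =
        (Z : ℤ) + ((m one : ℤ) + ((m T.σ : ℤ) * ((p : ℤ) - 1) +
          ((Fintype.card S.Orb : ℤ) * L - 1) * ((p : ℤ) - 2))) := by
      rw [hsplit, hd1, hdσ, hZ]
      push_cast
      simp only [mul_one, hmo, hdμ, Nat.cast_sub (show 2 ≤ p by omega), ← Finset.sum_mul,
        Finset.sum_sub_distrib, Finset.sum_const, Finset.card_univ, Finset.sum_ite_eq',
        Finset.mem_univ, if_true, nsmul_eq_mul]
      push_cast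
      ring
    rw [← hsum]
    have : ((2 * ∑ ψ : Cfsg.IrrCharacter G, (m ψ : ℤ) * (Char.degree ψ.1 : ℤ) : ℤ) : ℂ) =
        ((((p : ℤ) - 2) * ((p : ℤ) - 3) : ℤ) : ℂ) := by
      rw [Int.cast_mul, hcast]; push_cast; ring
    exact_mod_cast this
  have hkey : m one = 0 ∧ m T.σ = 0 ∧ Z = 0 := by
    have ht : 2 * (Fintype.card S.Orb : ℤ) = (p : ℤ) - 1 := by omega
    have hL1 : 1 ≤ L := by
      have := hmo c
      rw [if_pos rfl] at this
      omega
    have h0 : 0 ≤ ((p : ℤ) - 1) * ((p : ℤ) - 2) * (L - 1) :=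
      mul_nonneg (mul_nonneg (by omega) (by omega)) (by omega)
    have h1 : 2 * ((Z : ℤ) + (m one : ℤ) + (m T.σ : ℤ) * ((p : ℤ) - 1)) +
        ((p : ℤ) - 1) * ((p : ℤ) - 2) * (L - 1) = 0 := by
      linear_combination hdeg - L * ((p : ℤ) - 2) * ht
    have h2 : (0 : ℤ) ≤ (m T.σ : ℤ) * ((p : ℤ) - 1) := mul_nonneg (by omega) (by omega)
    have h3 : (m T.σ : ℤ) * ((p : ℤ) - 1) = 0 := by omega
    refine ⟨by omega, ?_, by omega⟩
    have := (mul_eq_zero.1 h3).resolve_right (by omega)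
    exact_mod_cast this
  have hLval : L = 1 := by rw [hL, hkey.1, hkey.2.1]; norm_num
  have hμy : ∀ o, (T.μ o).1 y = f y := fun o => by
    have h1 := T.regular hV o hy
    have h2 : -1 + (T.ε : ℂ) * T.σ.1 y + (T.δ : ℂ) * f y = 0 := T.regular hV a hy
    rw [hδ] at h1 h2
    push_cast at h1 h2
    linear_combination h2 - h1
  have hfin := hmval y
  rw [hsplit, hkey.1, hkey.2.1] at hfin
  rw [Finset.sum_eq_zero (s := Finset.univ \ X) fun ψ hψ => ?_] at hfin
  · simp only [Nat.cast_zero, zero_mul, zero_add, hμy, ← Finset.sum_mul] at hfin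
    have hmsum : ((∑ o, m (T.μ o) : ℕ) : ℤ) = (Fintype.card S.Orb : ℤ) - 1 := by
      rw [Nat.cast_sum]
      simp only [hmo, hLval, Finset.sum_sub_distrib, Finset.sum_const, Finset.card_univ,
        nsmul_eq_mul, mul_one, Finset.sum_ite_eq', Finset.mem_univ, if_true]
    have hmsum' : (∑ o, (m (T.μ o) : ℂ)) = (Fintype.card S.Orb : ℂ) - 1 := by
      have := congrArg (fun z : ℤ => (z : ℂ)) hmsum
      push_cast at this
      exact this
    rw [hmsum', hA] at hfin
    simp only at hfin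
    rw [Nat.cast_sub (show 3 ≤ p by omega)]
    have ht : (2 : ℂ) * (Fintype.card S.Orb : ℂ) = (p : ℂ) - 1 := by
      rw [← Nat.cast_two, ← Nat.cast_mul, hcard, Nat.cast_sub (show 1 ≤ p by omega), Nat.cast_one]
    linear_combination (2 : ℂ) * hfin + f y * ht
  · have := (Finset.sum_eq_zero_iff.1 hkey.2.2) ψ hψ
    rcases mul_eq_zero.1 this with h | h
    · rw [h, Nat.cast_zero, zero_mul]
    · exact absurd h (Char.IsIrrCharacter.degree_pos ψ.2).ne'

theorem card_eq (hV : Nat.card S.V = 1) (he : Nat.card S.act.range = 2) (hp : 7 ≤ p)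
    (hε : T.ε = 1) (hδ : T.δ = -1) (hdμ : ∀ o, Char.degree (T.μ o).1 = p - 2)
    (hfaith : ∀ o g, (T.μ o).1 g = (T.μ o).1 1 → g = 1) :
    Nat.card G = p * (p - 1) * (p - 2) := by
  classical
  letI : Fintype S.Orb := Fintype.ofFinite _
  set a : S.Orb := QuotientGroup.mk 1
  set f := (T.μ a).1 with hf
  have hfc := Char.IsIrrCharacter.isCharacter (T.μ a).2
  have hf1 : f 1 = ((p - 2 : ℕ) : ℂ) := by
    show (T.μ a).1 1 = _
    rw [← Char.IsCharacter.degree_cast hfc, hdμ]
  have hval : ∀ y : G, ¬ p ∣ orderOf y → ∃ v : ℤ, f y = v := by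
    intro y hy
    obtain ⟨z, hz⟩ := T.σ_int hV he (by omega) y
    refine ⟨z - 1, ?_⟩
    have h : -1 + (T.ε : ℂ) * T.σ.1 y + (T.δ : ℂ) * f y = 0 := T.regular hV a hy
    rw [hε, hδ, hz] at h
    push_cast at h ⊢
    linear_combination -h
  have hbound : ∀ (y : G) (v : ℤ), f y = v → -((p : ℤ) - 2) ≤ v ∧ v ≤ (p : ℤ) - 2 := by
    intro y v hv
    have h := Char.IsCharacter.norm_apply_le hfc y
    rw [show (T.μ a).1 y = f y from rfl, hv, hdμ, Complex.norm_intCast] at h
    have h' : |v| ≤ ((p - 2 : ℕ) : ℤ) := by exact_mod_cast h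
    rw [abs_le] at h'
    omega
  have hreg2 : ∀ y : G, ¬ p ∣ orderOf y → ¬ p ∣ orderOf (y * y) := fun y hy h =>
    hy (h.trans (by rw [← pow_two]; exact orderOf_pow_dvd 2))
  have hrec : ∀ (y : G) (v w : ℤ), ¬ p ∣ orderOf y → f y = v → f (y * y) = w →
      w = v * (v - ((p : ℤ) - 3)) := by
    intro y v w hy hv hw
    have h : f y * f y - f (y * y) = ((p - 3 : ℕ) : ℂ) * f y :=
      T.alt_regular hV he (by omega) hε hδ hdμ a hy
    rw [hv, hw, Nat.cast_sub (show 3 ≤ p by omega)] at h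
    have : ((w : ℤ) : ℂ) = ((v * (v - ((p : ℤ) - 3)) : ℤ) : ℂ) := by
      push_cast at h ⊢
      linear_combination -h
    exact_mod_cast this
  have hneg : ∀ (y : G) (v : ℤ), ¬ p ∣ orderOf y → f y = v → v < 0 → v = -1 := by
    intro y v hy hv hv0
    obtain ⟨w, hw⟩ := hval _ (hreg2 y hy)
    have h1 := hrec y v w hy hv hw
    have h2 := (hbound _ w hw).2
    by_contra hne
    nlinarith [show v ≤ -2 by omega]
  have hval' : ∀ y : G, ¬ p ∣ orderOf y → y ≠ 1 → f y = 0 ∨ f y = -1 := by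
    intro y hy hy1
    obtain ⟨v, hv⟩ := hval y hy
    obtain ⟨w, hw⟩ := hval _ (hreg2 y hy)
    have h1 := hrec y v w hy hv hw
    have hb := hbound y v hv
    have hn : v ≠ (p : ℤ) - 2 := by
      intro h
      refine hy1 (hfaith a y ?_)
      show f y = f 1
      rw [hf1, hv, h, Nat.cast_sub (show 2 ≤ p by omega)]
      push_cast; ring
    rcases lt_trichotomy v 0 with h | h | h
    · right; rw [hv, hneg y v hy hv h]; norm_num
    · left; rw [hv, h]; norm_num
    exfalso
    rcases lt_or_eq_of_le (show v ≤ (p : ℤ) - 3 by omega) with hlt | heq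
    · have hw0 : w < 0 := by rw [h1]; exact mul_neg_of_pos_of_neg h (by omega)
      have := hneg _ w (hreg2 y hy) hw hw0
      rw [this] at h1
      nlinarith
    · rw [heq, sub_self, mul_zero] at h1
      obtain ⟨d, ρ, hρ⟩ := hfc
      obtain ⟨μs, -, hnorm, -, hpow⟩ := Char.exists_eigenvalues ρ y
      have hdim : (Module.finrank ℂ (Fin d → ℂ) : ℝ) = (p : ℝ) - 2 := by
        have h0 : ρ.character 1 = f 1 := congrFun hρ 1
        rw [Representation.char_one, hf1] at h0
        have : Module.finrank ℂ (Fin d → ℂ) = p - 2 := by exact_mod_cast h0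
        rw [this, Nat.cast_sub (show 2 ≤ p by omega)]
        norm_num
      have e1 : (∑ i, μs i).re = (p : ℝ) - 3 := by
        have h0 := hpow 1
        simp only [pow_one] at h0
        rw [← h0, congrFun hρ y, show (T.μ a).1 y = f y from rfl, hv, heq]
        simp
      have e2 : (∑ i, μs i ^ 2).re = 0 := by
        rw [← hpow 2, pow_two, congrFun hρ (y * y), show (T.μ a).1 (y * y) = f (y * y) from rfl, hw, h1]
        simp
      have key : ∀ i, 0 ≤ (μs i ^ 2).re - 4 * (μs i).re + 3 := by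
        intro i
        have hn2 : (μs i).re * (μs i).re + (μs i).im * (μs i).im = 1 := by
          rw [← Complex.normSq_apply, Complex.normSq_eq_norm_sq, hnorm, one_pow]
        rw [pow_two, Complex.mul_re]
        nlinarith [mul_self_nonneg ((μs i).re - 1)]
      have hsum := Finset.sum_nonneg fun i (_ : i ∈ Finset.univ) => key i
      rw [Finset.sum_add_distrib, Finset.sum_sub_distrib, ← Complex.re_sum, ← Finset.mul_sum,
        ← Complex.re_sum, e1, e2, Finset.sum_const, Finset.card_univ, Fintype.card_fin,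
        nsmul_eq_mul, hdim] at hsum
      have : (7 : ℝ) ≤ p := by exact_mod_cast hp
      linarith
  -- the averaging
  set θ : G → ℂ := fun g => ∑ o : S.Orb, (-1 + T.σ.1 g - (T.μ o).1 g) with hθ
  have hcard : 2 * Fintype.card S.Orb = p - 1 := by
    have h := Subgroup.index_mul_card S.act.range
    rw [he, Subgroup.index_eq_card] at h
    rw [← Nat.card_eq_fintype_card (α := S.Orb)]
    have hu : Nat.card (ZMod p)ˣ = p - 1 := by rw [Nat.card_eq_fintype_card, ZMod.card_units]
    rw [hu] at h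
    rw [mul_comm]; exact h
  have hθr : ∀ y, ¬ p ∣ orderOf y → θ y = 0 := fun y hy => by
    refine Finset.sum_eq_zero fun o _ => ?_
    have h := T.regular hV o hy
    rw [hε, hδ] at h
    push_cast at h
    linear_combination h
  have hθs : ∀ g, p ∣ orderOf g → T.σ.1 g = -1 ∧ θ g = -(p : ℂ) := by
    intro g hg
    obtain ⟨x, i, hi, rfl⟩ := exists_conj_zpw S hV hg
    have hcl : ∀ χ : Cfsg.IrrCharacter G, χ.1 (x * zpw S.z i * x⁻¹) = χ.1 (zpw S.z i) :=
      fun χ => Char.IsIrrCharacter.isClassFunction χ.2 _ _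
    have hσ : T.σ.1 (zpw S.z i) = -1 := by rw [T.σ_zpw hV hi, hε]; norm_num
    refine ⟨by rw [hcl, hσ], ?_⟩
    have hsum : ∑ o : S.Orb, (T.μ o).1 (zpw S.z i) = 1 := by
      simp only [apply_zpw S hV _ hi, T.vec_μ_eq]
      rw [Finset.sum_comm]
      simp only [Int.cast_ite, Int.cast_zero, ite_mul, zero_mul, Finset.sum_ite_eq', Finset.mem_univ,
        if_true, ← Finset.mul_sum, sum_units hi, hδ]
      norm_num
    simp only [hθ, hcl, hσ, Finset.sum_sub_distrib, hsum, Finset.sum_const, Finset.card_univ,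
      nsmul_eq_mul]
    have ht : (2 : ℂ) * (Fintype.card S.Orb : ℂ) = (p : ℂ) - 1 := by
      rw [← Nat.cast_two, ← Nat.cast_mul, hcard, Nat.cast_sub (show 1 ≤ p by omega), Nat.cast_one]
    linear_combination -ht
  have hσr : ∀ g, conj (T.σ.1 g) = T.σ.1 g := fun g => by
    obtain ⟨z, hz⟩ := T.σ_int hV he (by omega) g
    rw [hz, map_intCast]
  have hθreal : ∀ g, conj (θ g) = θ g := fun g => by
    by_cases hg : p ∣ orderOf g
    · rw [(hθs g hg).2, map_neg, map_natCast]
    · rw [hθr g hg, map_zero]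
  have hG0 : (Nat.card G : ℂ) ≠ 0 := Nat.cast_ne_zero.2 Nat.card_pos.ne'
  have horth : ∀ χ ψ : Cfsg.IrrCharacter G, ∑ g, χ.1 g * conj (ψ.1 g) =
      if χ = ψ then (Nat.card G : ℂ) else 0 := by
    intro χ ψ
    have h := Char.classInner_irrCharacter χ ψ
    rw [Cfsg.classInner, inv_mul_eq_iff_eq_mul₀ hG0] at h
    rw [h]
    split_ifs <;> simp
  have h1 : ∑ g, f g * T.σ.1 g = 0 := by
    have h := horth (T.μ a) T.σ
    rw [if_neg (T.μ_ne_σ a)] at h
    simpa only [hσr] using h
  have h2 : ∑ g, f g * θ g = -(Nat.card G : ℂ) := by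
    have h : ∑ g, f g * θ g = ∑ g, f g * conj (θ g) := by simp only [hθreal]
    rw [h]
    simp only [hθ, map_sum, map_sub, map_add, map_neg, map_one, Finset.mul_sum]
    rw [Finset.sum_comm]
    have hterm : ∀ o, ∑ g, f g * (-1 + conj (T.σ.1 g) - conj ((T.μ o).1 g)) =
        if a = o then -(Nat.card G : ℂ) else 0 := by
      intro o
      have e1 := horth (T.μ a) Char.principalIrr
      rw [if_neg (T.μ_ne a)] at e1
      simp only [Char.principalIrr_apply, map_one, mul_one] at e1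
      have e2 : ∑ g, (T.μ a).1 g * T.σ.1 g = 0 := h1
      have e3 := horth (T.μ a) (T.μ o)
      simp only [T.inj.eq_iff] at e3
      simp only [mul_sub, mul_add, mul_neg, mul_one, Finset.sum_sub_distrib, Finset.sum_add_distrib,
        Finset.sum_neg_distrib, hσr, hf, e1, e2, e3]
      split_ifs <;> simp
    simp only [hterm, Finset.sum_ite_eq, Finset.mem_univ, if_true]
  have hp0 : (p : ℂ) ≠ 0 := Nat.cast_ne_zero.2 (by omega)
  have hW : ∀ g : G, f g * (T.σ.1 g - θ g / (p : ℂ)) =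
      if g = 1 then ((p - 2 : ℕ) : ℂ) * ((p - 1 : ℕ) : ℂ) else 0 := by
    intro g
    by_cases hg : p ∣ orderOf g
    · have hne : g ≠ 1 := fun h => by
        rw [h, orderOf_one] at hg; exact (Fact.out : p.Prime).not_dvd_one hg
      rw [if_neg hne, (hθs g hg).1, (hθs g hg).2, neg_div, div_self hp0]
      ring
    · rw [hθr g hg, zero_div, sub_zero]
      have h : -1 + (T.ε : ℂ) * T.σ.1 g + (T.δ : ℂ) * f g = 0 := T.regular hV a hg
      rw [hε, hδ] at h
      push_cast at h
      have hσg : T.σ.1 g = f g + 1 := by linear_combination h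
      rw [hσg]
      split_ifs with h1
      · subst h1
        rw [hf1, show p - 1 = (p - 2) + 1 by omega]
        push_cast; ring
      · rcases hval' g hg h1 with e | e <;> rw [e] <;> ring
  have hfin := Finset.sum_congr (s₁ := (Finset.univ : Finset G)) rfl fun g _ => hW g
  rw [Finset.sum_ite_eq' Finset.univ (1 : G), if_pos (Finset.mem_univ _)] at hfin
  simp only [mul_sub, ← mul_div_assoc, Finset.sum_sub_distrib, ← Finset.sum_div, h1, h2] at hfin
  have : (Nat.card G : ℂ) = ((p * (p - 1) * (p - 2) : ℕ) : ℂ) := by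
    field_simp at hfin
    push_cast at hfin ⊢
    linear_combination hfin
  exact_mod_cast this

end CfsgLib.ItoPrimeDegree.Star
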