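import Mathlib.GroupTheory.GroupAction.MultipleTransitivity
import Mathlib.Algebra.Group.Units.Equiv
import Mathlib.RingTheory.IntegralDomain
import Mathlib.Data.Complex.Basic

/-!
Counting in a doubly transitive group: the setwise stabiliser of a pair and its sign character.
-/

set_option autoImplicit false

namespace CfsgLib.ItoPrimeDegree

open MulAction

variable {G α : Type*} [Group G] [MulAction G α]

/-- the setwise stabiliser of the pair `a`, `b` -/
def pairSet (a b : α) : Subgroup G where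
  carrier := {g | (g • a = a ∧ g • b = b) ∨ (g • a = b ∧ g • b = a)}
  one_mem' := Or.inl ⟨one_smul _ _, one_smul _ _⟩
  mul_mem' := by
    rintro g h (⟨g1, g2⟩ | ⟨g1, g2⟩) (⟨h1, h2⟩ | ⟨h1, h2⟩)
    · exact Or.inl ⟨by rw [mul_smul, h1, g1], by rw [mul_smul, h2, g2]⟩
    · exact Or.inr ⟨by rw [mul_smul, h1, g2], by rw [mul_smul, h2, g1]⟩
    · exact Or.inr ⟨by rw [mul_smul, h1, g1], by rw [mul_smul, h2, g2]⟩
    · exact Or.inl ⟨by rw [mul_smul, h1, g2], by rw [mul_smul, h2, g1]⟩
  inv_mem' := by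
    rintro g (⟨g1, g2⟩ | ⟨g1, g2⟩)
    · exact Or.inl ⟨inv_smul_eq_iff.2 g1.symm, inv_smul_eq_iff.2 g2.symm⟩
    · exact Or.inr ⟨inv_smul_eq_iff.2 g2.symm, inv_smul_eq_iff.2 g1.symm⟩

theorem mem_pairSet {a b : α} {g : G} :
    g ∈ pairSet a b ↔ (g • a = a ∧ g • b = b) ∨ (g • a = b ∧ g • b = a) := Iff.rfl

theorem sq_fix {a b : α} {g : G} (hg : g ∈ pairSet a b) : (g * g) • a = a := by
  rcases hg with ⟨h1, -⟩ | ⟨h1, h2⟩
  · rw [mul_smul, h1, h1]
  · rw [mul_smul, h1, h2]

variable [DecidableEq α]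

/-- the sign on the pair -/
def pairSgn {a b : α} (hab : a ≠ b) : pairSet (G := G) a b →* ℂˣ where
  toFun g := if (g : G) • a = a then 1 else -1
  map_one' := if_pos (one_smul _ _)
  map_mul' := by
    rintro ⟨g, hg⟩ ⟨h, hh⟩
    simp only [Subgroup.coe_mul]
    rcases hg with ⟨g1, g2⟩ | ⟨g1, g2⟩ <;> rcases hh with ⟨h1, h2⟩ | ⟨h1, h2⟩ <;>
      simp [mul_smul, g1, g2, h1, hab.symm]

theorem pairSgn_apply {a b : α} (hab : a ≠ b) (g : pairSet (G := G) a b) :
    ((pairSgn hab g : ℂˣ) : ℂ) = if (g : G) • a = a then 1 else -1 := by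
  show (((if (g : G) • a = a then 1 else -1 : ℂˣ)) : ℂ) = _
  split_ifs <;> simp

theorem pairSgn_ne_one [IsMultiplyPretransitive G α 2] {a b : α} (hab : a ≠ b) :
    pairSgn (G := G) hab ≠ 1 := by
  intro h
  obtain ⟨g, h1, h2⟩ := is_two_pretransitive_iff.1 ‹IsMultiplyPretransitive G α 2› hab hab.symm
  have := congrArg (fun z : ℂˣ => (z : ℂ)) (DFunLike.congr_fun h ⟨g, Or.inr ⟨h1, h2⟩⟩)
  simp only [pairSgn_apply, h1, if_neg hab.symm, MonoidHom.one_apply, Units.val_one] at this
  norm_num at this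

variable [Fintype G] [Fintype α] [IsMultiplyPretransitive G α 2]

/-- each ordered pair is reached by the same number of elements -/
theorem card_fiber {a b c d : α} (hab : a ≠ b) (hcd : c ≠ d) :
    (Finset.univ.filter fun x : G => (x • a, x • b) = (c, d)).card =
      (Finset.univ.filter fun x : G => (x • a, x • b) = (a, b)).card := by
  classical
  obtain ⟨s, h1, h2⟩ := is_two_pretransitive_iff.1 ‹IsMultiplyPretransitive G α 2› hab hcd
  refine Finset.card_equiv (Equiv.mulLeft s⁻¹) fun x => ?_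
  simp [mul_smul, inv_smul_eq_iff, h1, h2]

theorem card_pairs_in (T : Finset α) {a b : α} (hab : a ≠ b) :
    (Finset.univ.filter fun x : G => x • a ∈ T ∧ x • b ∈ T).card =
      (T.card * T.card - T.card) *
        (Finset.univ.filter fun x : G => (x • a, x • b) = (a, b)).card := by
  classical
  rw [Finset.card_eq_sum_card_fiberwise (f := fun x : G => (x • a, x • b)) (t := T.offDiag)
    (fun x hx => by
      rw [Finset.mem_coe, Finset.mem_filter] at hx
      rw [Finset.mem_coe, Finset.mem_offDiag]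
      exact ⟨hx.2.1, hx.2.2, fun h => hab (MulAction.injective x h)⟩)]
  rw [← Finset.offDiag_card, ← smul_eq_mul, ← Finset.sum_const]
  refine Finset.sum_congr rfl fun y hy => ?_
  rw [Finset.mem_offDiag] at hy
  rw [Finset.filter_filter, ← card_fiber hab hy.2.2]
  refine congrArg Finset.card (Finset.filter_congr fun x _ => ?_)
  simp only [Prod.ext_iff]
  exact ⟨fun h => h.2, fun h => ⟨⟨h.1 ▸ hy.1, h.2 ▸ hy.2.1⟩, h⟩⟩

theorem card_eq_mul {a b : α} (hab : a ≠ b) :
    Nat.card G = (Fintype.card α * Fintype.card α - Fintype.card α) *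
      (Finset.univ.filter fun x : G => (x • a, x • b) = (a, b)).card := by
  classical
  rw [← Finset.card_univ (α := α), ← card_pairs_in Finset.univ hab, Nat.card_eq_fintype_card,
    ← Finset.card_univ]
  refine congrArg Finset.card ?_
  ext x
  simp

theorem card_pairSet {a b : α} (hab : a ≠ b) :
    Nat.card (pairSet (G := G) a b) =
      2 * (Finset.univ.filter fun x : G => (x • a, x • b) = (a, b)).card := by
  classical
  rw [Nat.card_eq_fintype_card, ← Fintype.card_congr (Equiv.refl _), Fintype.card_subtype,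
    two_mul]
  conv_rhs => arg 2; rw [← card_fiber hab hab.symm]
  rw [← Finset.card_union_of_disjoint ?_, ← Finset.filter_or]
  · refine congrArg Finset.card (Finset.filter_congr fun x _ => ?_)
    simp [mem_pairSet]
  · rw [Finset.disjoint_filter]
    intro x _ h1 h2
    exact hab (congrArg Prod.fst (h1.symm.trans h2))

end CfsgLib.ItoPrimeDegree
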