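import Cfsg.Agent.Lib.DefectOne.Structure
import Cfsg.Agent.Lib.DefectOne.Consequences
import Cfsg.Agent.Lib.CharTools.Basic

/-!
Irreducible characters of degree at most `p - 2` in a group with a Sylow subgroup of order `p`:
the element of order `p` is scalar, or the character is one of the moved characters of its column.
-/

set_option autoImplicit false
set_option linter.style.haveILetI false

namespace CfsgLib.ItoPrimeDegree

open Cfsg CfsgLib.DefectOne
open scoped ComplexConjugate Classical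

universe u

variable {G : Type u} [Group G] [Finite G] {p : ℕ} [Fact p.Prime] {x : G}

theorem norm_zc (b : ZMod p) : ‖zc p b‖ = 1 :=
  Complex.norm_eq_one_of_pow_eq_one (by
    rw [← AddChar.map_nsmul_eq_pow, nsmul_eq_mul, ZMod.natCast_self, zero_mul,
      AddChar.map_zero_eq_one]) (Fact.out : p.Prime).ne_zero

/-- A linear character has norm one values. -/
theorem norm_linear {K : Type*} [Group K] [Finite K] {f : K → ℂ} (hf : Cfsg.IsIrrCharacter K f)
    (h1 : f 1 = 1) (v : K) : ‖f v‖ = 1 := by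
  obtain ⟨l, hl⟩ := CfsgLib.Char.IsCharacter.exists_linear
    (CfsgLib.Char.IsIrrCharacter.isCharacter hf) h1
  rw [hl]
  refine Complex.norm_eq_one_of_pow_eq_one (n := orderOf v) ?_ (orderOf_pos v).ne'
  rw [← Units.val_pow_eq_pow_val, ← map_pow, pow_orderOf_eq_one, map_one, Units.val_one]

theorem center_of_norm_eq {χ : G → ℂ} (hχ : Cfsg.IsCharacter G χ) {g : G}
    (hg : ‖χ g‖ = Cfsg.charDegree χ) (k : G) : χ (g * k * g⁻¹ * k⁻¹) = χ 1 := by
  obtain ⟨n, ρ, rfl⟩ := hχ
  have hd : (Cfsg.charDegree ρ.character : ℂ) = Module.finrank ℂ (Fin n → ℂ) := by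
    rw [CharTools.degree_cast ⟨n, ρ, rfl⟩, Representation.char_one]
  rcases Nat.eq_zero_or_pos (Module.finrank ℂ (Fin n → ℂ)) with h0 | h0
  · have : ∀ y, ρ.character y = 0 := fun y => by
      have := CfsgLib.Char.norm_character_le ρ y
      rw [h0, Nat.cast_zero] at this
      exact norm_le_zero_iff.1 this
    rw [this, this]
  set d := Module.finrank ℂ (Fin n → ℂ)
  have hd' : Cfsg.charDegree ρ.character = d := by exact_mod_cast hd
  rw [hd'] at hg
  have hd0 : (d : ℂ) ≠ 0 := Nat.cast_ne_zero.2 h0.ne'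
  have hw : ‖ρ.character g / d‖ = 1 := by
    rw [norm_div, hg, Complex.norm_natCast, div_self (Nat.cast_ne_zero.2 h0.ne')]
  have hs := CfsgLib.Char.eq_smul_id_of_character_eq ρ g _ hw (mul_div_cancel₀ _ hd0).symm
  have hc : ρ g * ρ k = ρ k * ρ g := by
    rw [hs]
    exact LinearMap.ext fun v => by simp
  show LinearMap.trace ℂ _ (ρ (g * k * g⁻¹ * k⁻¹)) = LinearMap.trace ℂ _ (ρ 1)
  congr 1
  rw [map_mul, map_mul, map_mul, hc, mul_assoc (ρ k), ← map_mul ρ g, mul_inv_cancel, map_one,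
    mul_one, ← map_mul, mul_inv_cancel, map_one]

theorem mem_center_of_norm_eq {χ : G → ℂ} (hχ : Cfsg.IsCharacter G χ)
    (hfaith : ∀ g : G, χ g = χ 1 → g = 1) {g : G} (hg : ‖χ g‖ = Cfsg.charDegree χ) :
    g ∈ Subgroup.center G := by
  refine Subgroup.mem_center_iff.2 fun k => ?_
  have := hfaith _ (center_of_norm_eq hχ hg k)
  rw [mul_inv_eq_one, mul_inv_eq_iff_eq_mul] at this
  exact this.symm

variable (h : HypOne p x)

/-- The multiplicity sum of a column. -/
noncomputable def colTot (ψ : IrrCharacter (regPart p x)) (χ : IrrCharacter G) : ℤ :=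
  (p : ℤ) * h.cn ψ χ 0 + ∑ j, h.dd ψ χ j

theorem colTot_nonneg (ψ : IrrCharacter (regPart p x)) (χ : IrrCharacter G) :
    0 ≤ colTot h ψ χ := by
  have e : colTot h ψ χ = ((h.cn ψ χ 0 + ∑ j : (ZMod p)ˣ, h.cn ψ χ j : ℕ) : ℤ) := by
    rw [colTot, Nat.cast_add, Nat.cast_sum]
    simp only [HypOne.dd, Finset.sum_sub_distrib, Finset.sum_const, Finset.card_univ,
      ZMod.card_units, nsmul_eq_mul, Nat.cast_sub h.prime.one_le]
    push_cast
    ring
  rw [e]
  positivity

theorem sum_colTot_mul (χ : IrrCharacter G) :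
    (charDegree (χ : G → ℂ) : ℤ) = ∑ ψ : IrrCharacter (regPart p x),
      colTot h ψ χ * (charDegree (ψ : regPart p x → ℂ) : ℤ) := by
  have h1 := h.apply_pow_mul χ 0 1
  simp only [pow_zero, one_mul, OneMemClass.coe_one, h.secCoef_eq_sec, Nat.cast_zero, h.sec_zero,
    ← CharTools.irr_degree_cast] at h1
  refine Int.cast_injective (α := ℂ) ?_
  simp only [colTot]
  push_cast at h1 ⊢
  exact h1

theorem colTot_lt {χ : IrrCharacter G} (hd : charDegree (χ : G → ℂ) < p)
    (ψ : IrrCharacter (regPart p x)) : colTot h ψ χ < p := by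
  have h1 : colTot h ψ χ * (charDegree (ψ : regPart p x → ℂ) : ℤ) ≤
      (charDegree (χ : G → ℂ) : ℤ) := by
    rw [sum_colTot_mul h χ]
    exact Finset.single_le_sum (f := fun ψ : IrrCharacter (regPart p x) =>
        colTot h ψ χ * (charDegree (ψ : regPart p x → ℂ) : ℤ))
      (fun ψ _ => mul_nonneg (colTot_nonneg h ψ χ) (Int.natCast_nonneg _)) (Finset.mem_univ ψ)
  have h2 : (1 : ℤ) ≤ (charDegree (ψ : regPart p x → ℂ) : ℤ) := by
    exact_mod_cast CharTools.irr_degree_pos ψ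
  have h3 : colTot h ψ χ * 1 ≤ colTot h ψ χ * (charDegree (ψ : regPart p x → ℂ) : ℤ) :=
    mul_le_mul_of_nonneg_left h2 (colTot_nonneg h ψ χ)
  omega

variable {χ : IrrCharacter G} {φ : IrrCharacter (regPart p x)}

theorem colTot_eq (hd : charDegree (χ : G → ℂ) < p) (hχ : χ ∈ h.bset φ)
    (ψ : IrrCharacter (regPart p x)) :
    colTot h ψ χ = if ψ ∈ h.orbitN φ then (∑ j, h.dd φ χ j) % p else 0 := by
  have e : colTot h ψ χ = (∑ j, h.dd ψ χ j) % p := by
    rw [← Int.emod_eq_of_lt (colTot_nonneg h ψ χ) (colTot_lt h hd ψ), colTot,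
      Int.mul_add_emod_self_left]
  rw [e]
  split_ifs with hψ
  · obtain ⟨n, hn, rfl⟩ := h.mem_orbitN_iff.1 hψ
    rw [h.sum_dd_conjChar ⟨n, hn⟩]
  · have hno : χ ∉ h.bset ψ := fun hm => hψ (h.mem_orbitN_of_mem_bset hχ hm)
    rw [Finset.sum_eq_zero fun j _ => h.not_mem_bset_iff.1 hno j, Int.zero_emod]

/-- The degree in terms of one column. -/
theorem degree_eq_colTot (hd : charDegree (χ : G → ℂ) < p) (hχ : χ ∈ h.bset φ) :
    (charDegree (χ : G → ℂ) : ℤ) = ((h.orbitN φ).card : ℤ) *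
      (charDegree (φ : regPart p x → ℂ) : ℤ) * ((∑ j, h.dd φ χ j) % p) := by
  rw [sum_colTot_mul h χ]
  simp only [colTot_eq h hd hχ, ite_mul, zero_mul]
  rw [Finset.sum_ite_mem, Finset.univ_inter,
    Finset.sum_congr rfl fun ψ hψ => by rw [h.charDegree_of_mem_orbitN hψ], Finset.sum_const,
    nsmul_eq_mul]
  ring

theorem apply_reg (hd : charDegree (χ : G → ℂ) < p) (hχ : χ ∈ h.bset φ) (v : regPart p x) :
    (χ : G → ℂ) v = ∑ ψ ∈ h.orbitN φ, (((∑ j, h.dd φ χ j) % p : ℤ) : ℂ) *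
      (ψ : regPart p x → ℂ) v := by
  have h1 := h.apply_pow_mul χ 0 v
  simp only [pow_zero, one_mul, h.secCoef_eq_sec, Nat.cast_zero, h.sec_zero] at h1
  rw [h1, Finset.sum_congr rfl (g := fun ψ : IrrCharacter (regPart p x) =>
    if ψ ∈ h.orbitN φ then (((∑ j, h.dd φ χ j) % p : ℤ) : ℂ) * (ψ : regPart p x → ℂ) v else 0)
    fun ψ _ => ?_, Finset.sum_ite_mem, Finset.univ_inter]
  rw [show (p : ℤ) * h.cn ψ χ 0 + ∑ j, h.dd ψ χ j = colTot h ψ χ from rfl, colTot_eq h hd hχ]
  split_ifs <;> simp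

theorem apply_sing (hχ : χ ∈ h.bset φ) (r : (ZMod p)ˣ) (v : regPart p x) :
    (χ : G → ℂ) (x ^ (r : ZMod p).val * (v : G)) = ∑ ψ ∈ h.orbitN φ,
      (∑ j, (h.dd ψ χ j : ℂ) * zc p (r * j : ZMod p)) * (ψ : regPart p x → ℂ) v := by
  rw [h.apply_pow_mul]
  simp only [h.secCoef_eq_sec, ZMod.natCast_zmod_val, h.sec_eq_sum]
  refine (Finset.sum_subset (Finset.subset_univ _) fun ψ _ hψ => ?_).symm
  have hno : χ ∉ h.bset ψ := fun hm => hψ (h.mem_orbitN_of_mem_bset hχ hm)
  simp [h.not_mem_bset_iff.1 hno]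

theorem apply_self (hχ : χ ∈ h.bset φ) :
    (χ : G → ℂ) x = ∑ ψ ∈ h.orbitN φ,
      (∑ j : (ZMod p)ˣ, (h.dd ψ χ j : ℂ) * zc p (j : ZMod p)) *
        (charDegree (φ : regPart p x → ℂ) : ℂ) := by
  have := apply_sing h hχ 1 1
  simp only [Units.val_one, ZMod.val_one, pow_one, OneMemClass.coe_one, mul_one, one_mul] at this
  rw [this]
  refine Finset.sum_congr rfl fun ψ hψ => ?_
  rw [← CharTools.irr_degree_cast, h.charDegree_of_mem_orbitN hψ]

/-- A constant column makes the element of order `p` trivial. -/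
theorem apply_self_of_const (hd : charDegree (χ : G → ℂ) + 2 ≤ p) (hχ : χ ∈ h.bset φ)
    (hc : ∀ j, h.dd φ χ j = h.dd φ χ 1) :
    (χ : G → ℂ) x = (charDegree (χ : G → ℂ) : ℂ) := by
  have hdeg := degree_eq_colTot h (by omega) hχ
  have hpos : 0 < (h.orbitN φ).card * charDegree (φ : regPart p x → ℂ) :=
    Nat.mul_pos (Finset.card_pos.2 ⟨φ, h.mem_orbitN_self φ⟩) (CharTools.irr_degree_pos φ)
  have hsum : ∑ j, h.dd φ χ j = ((p - 1 : ℕ) : ℤ) * h.dd φ χ 1 := by
    rw [Finset.sum_congr rfl fun j _ => hc j, Finset.sum_const, Finset.card_univ, ZMod.card_units,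
      nsmul_eq_mul]
  have hp1 : ((p - 1 : ℕ) : ℤ) = (p : ℤ) - 1 := by
    rw [Nat.cast_sub h.prime.one_le]; rfl
  have hp2 : (2 : ℤ) ≤ (p : ℤ) := by exact_mod_cast h.prime.two_le
  rcases h.abs_eq_one_of_const hχ hc with e | e
  · exfalso
    rw [hsum, e, mul_one, hp1, Int.emod_eq_of_lt (by omega) (by omega)] at hdeg
    have : (1 : ℤ) * ((p : ℤ) - 1) ≤ ((h.orbitN φ).card : ℤ) *
        (charDegree (φ : regPart p x → ℂ) : ℤ) * ((p : ℤ) - 1) :=
      mul_le_mul_of_nonneg_right (by exact_mod_cast hpos) (by omega)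
    omega
  · rw [hsum, e, hp1, show ((p : ℤ) - 1) * -1 = 1 + (-1) * p by ring, Int.add_mul_emod_self_right,
      Int.emod_eq_of_lt zero_le_one (by omega), mul_one] at hdeg
    rw [apply_self h hχ, show (charDegree (χ : G → ℂ) : ℂ) = ((h.orbitN φ).card : ℂ) *
      (charDegree (φ : regPart p x → ℂ) : ℂ) by exact_mod_cast hdeg, ← nsmul_eq_mul,
      ← Finset.sum_const]
    refine Finset.sum_congr rfl fun ψ hψ => ?_
    obtain ⟨n, hn, rfl⟩ := h.mem_orbitN_iff.1 hψ
    simp only [h.dd_conjChar ⟨n, hn⟩, hc _]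
    rw [e, ← Finset.mul_sum]
    have h1 := h.sum_zc_units (1 : ZMod p)
    simp only [mul_one, if_neg (one_ne_zero : (1 : ZMod p) ≠ 0), zero_sub] at h1
    rw [h1]
    push_cast
    ring

omit [Finite G] [Fact p.Prime] in
theorem not_dvd_of_lt (hd : charDegree (χ : G → ℂ) < p) : ¬ p ∣ charDegree (χ : G → ℂ) :=
  fun h' => by
    have := Nat.le_of_dvd (CharTools.irr_degree_pos χ) h'
    omega

theorem moved_dd {Y : Finset (IrrCharacter G)} {δ : ℤ} {m : IrrCharacter G → ℤ}
    (sh : h.Shape φ Y δ m) (hY : χ ∈ Y) (j : (ZMod p)ˣ) :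
    h.dd φ χ j = 0 ∨ h.dd φ χ j = δ := by
  obtain ⟨θ₀, -, hv⟩ := sh.single
  have hm : h.actU j⁻¹ • χ ∈ Y := (sh.orbit χ hY _).2 ⟨_, rfl⟩
  have h1 := h.dd_actU j⁻¹ φ χ 1
  rw [inv_inv, one_mul, hv _ hm] at h1
  rw [← h1]
  split_ifs <;> simp

theorem moved_emod {Y : Finset (IrrCharacter G)} {δ : ℤ} {m : IrrCharacter G → ℤ}
    (sh : h.Shape φ Y δ m) (hY : χ ∈ Y) :
    (∑ j, h.dd φ χ j) % p = if δ = 1 then (Nat.card (h.expGroup φ) : ℤ)
      else (p : ℤ) - Nat.card (h.expGroup φ) := by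
  have hk : 0 < Nat.card (h.expGroup φ) := Nat.card_pos
  have hk2 : Nat.card (h.expGroup φ) ≤ p - 1 :=
    Nat.le_of_dvd (by have := h.prime.two_le; omega) (h.card_expGroup_dvd φ)
  rw [sh.sum_Y χ hY]
  rcases sh.δ_sign with e | e <;> rw [e]
  · rw [if_pos rfl, mul_one, Int.emod_eq_of_lt (by omega) (by omega)]
  · rw [if_neg (by norm_num), show (Nat.card (h.expGroup φ) : ℤ) * -1 =
      ((p : ℤ) - Nat.card (h.expGroup φ)) + (-1) * p by ring, Int.add_mul_emod_self_right,
      Int.emod_eq_of_lt (by omega) (by omega)]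

include h in
/-- When the normalizer equals the centralizer, small characters are scalar at `x`. -/
theorem norm_eq_of_relIndex_one (he : (cent x).relIndex (norm₁ x) = 1) (χ : IrrCharacter G)
    (hd : charDegree (χ : G → ℂ) + 2 ≤ p) :
    ‖(χ : G → ℂ) x‖ = (charDegree (χ : G → ℂ) : ℝ) := by
  obtain ⟨φ, hχ⟩ := h.exists_bset_of_not_dvd (not_dvd_of_lt (χ := χ) (by omega))
  obtain ⟨Y, δ, m, sh⟩ := h.exists_shape φ
  by_cases hY : χ ∈ Y
  swap
  · have hX : χ ∈ h.bset φ \ Y := Finset.mem_sdiff.2 ⟨hχ, hY⟩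
    rw [apply_self_of_const h hd hχ fun j => by rw [sh.dd_X χ hX j, sh.dd_X χ hX 1],
      Complex.norm_natCast]
  have hok := h.card_orbitN φ
  rw [he, mul_eq_one] at hok
  obtain ⟨ho, hk⟩ := hok
  have hdeg := degree_eq_colTot h (χ := χ) (by omega) hχ
  rw [moved_emod h sh hY, ho, hk] at hdeg
  have hp2 := h.prime.two_le
  have hφ : (1 : ℤ) ≤ (charDegree (φ : regPart p x → ℂ) : ℤ) := by
    exact_mod_cast CharTools.irr_degree_pos φ
  rcases sh.δ_sign with e | e
  swap
  · exfalso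
    rw [e, if_neg (by norm_num)] at hdeg
    push_cast at hdeg
    have : (1 : ℤ) * ((p : ℤ) - 1) ≤
        (charDegree (φ : regPart p x → ℂ) : ℤ) * ((p : ℤ) - 1) :=
      mul_le_mul_of_nonneg_right hφ (by omega)
    rw [one_mul] at this
    simp only [one_mul] at hdeg
    omega
  rw [e, if_pos rfl] at hdeg
  have hd1 : charDegree (χ : G → ℂ) = charDegree (φ : regPart p x → ℂ) := by
    push_cast at hdeg
    omega
  -- a single entry
  set T := Finset.univ.filter fun j => h.dd φ χ j ≠ 0 with hT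
  have hT1 : T.card = 1 := by
    have hs := sh.sum_Y χ hY
    rw [hk, e, Nat.cast_one, mul_one,
      Finset.sum_congr rfl (g := fun j => if h.dd φ χ j ≠ 0 then (1 : ℤ) else 0) fun j _ => ?_,
      Finset.sum_boole] at hs
    · exact_mod_cast hs
    · rcases moved_dd h sh hY j with e1 | e1 <;> rw [e1] <;> simp [e]
  obtain ⟨j₀, hj₀⟩ := Finset.card_eq_one.1 hT1
  have hj : ∀ j, h.dd φ χ j = if j = j₀ then 1 else 0 := fun j => by
    have hmem : j ∈ T ↔ j = j₀ := by rw [hj₀, Finset.mem_singleton]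
    rw [hT, Finset.mem_filter] at hmem
    rcases moved_dd h sh hY j with e1 | e1
    · rw [if_neg fun e2 => (hmem.2 e2).2 e1, e1]
    · rw [if_pos (hmem.1 ⟨Finset.mem_univ _, by rw [e1, e]; exact one_ne_zero⟩), e1, e]
  have horb : h.orbitN φ = {φ} := by
    obtain ⟨ψ, hψ⟩ := Finset.card_eq_one.1 ho
    have := h.mem_orbitN_self φ
    rw [hψ, Finset.mem_singleton] at this
    rw [hψ, this]
  rw [apply_self h hχ, horb, Finset.sum_singleton, Finset.sum_eq_single j₀ (fun j _ hne => by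
      rw [hj j, if_neg hne, Int.cast_zero, zero_mul]) (fun hn => absurd (Finset.mem_univ _) hn),
    hj j₀, if_pos rfl, Int.cast_one, one_mul, norm_mul, norm_zc, one_mul, Complex.norm_natCast, hd1]

theorem neg_one_mem_expGroup (hk : Nat.card (h.expGroup φ) = 2) :
    (-1 : (ZMod p)ˣ) ∈ h.expGroup φ := by
  haveI : Nontrivial (h.expGroup φ) := Finite.one_lt_card_iff_nontrivial.1 (by omega)
  obtain ⟨g, hg⟩ := exists_ne (1 : h.expGroup φ)
  have h2 : (g : (ZMod p)ˣ) ^ 2 = 1 := by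
    have := pow_card_eq_one' (x := g)
    rw [hk] at this
    exact congrArg Subtype.val this
  rcases sq_eq_one_iff.1 (show ((g : (ZMod p)ˣ) : ZMod p) ^ 2 = 1 by
    rw [← Units.val_pow_eq_pow_val, h2, Units.val_one]) with e | e
  · exact absurd (Subtype.ext (Units.ext e)) hg
  · rw [show (-1 : (ZMod p)ˣ) = (g : (ZMod p)ˣ) from Units.ext e.symm]
    exact g.2

include h in
/-- The column of a character of degree `p - 2` at which `x` is not scalar. -/
theorem exists_column (hp : 5 < p) (ζ : IrrCharacter G) (hd : charDegree (ζ : G → ℂ) = p - 2)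
    (hne : ‖(ζ : G → ℂ) x‖ ≠ (charDegree (ζ : G → ℂ) : ℝ)) :
    (cent x).relIndex (norm₁ x) = 2 ∧ ∃ (φ : IrrCharacter (regPart p x)) (a : (ZMod p)ˣ),
      ζ ∈ h.bset φ ∧ h.orbitN φ = {φ} ∧ charDegree (φ : regPart p x → ℂ) = 1 ∧
      Nat.card (h.expGroup φ) = 2 ∧
      (∀ j, h.dd φ ζ j = if j = a ∨ j = -a then -1 else 0) ∧
      (∀ v : regPart p x, (ζ : G → ℂ) v = (p - 2 : ℕ) * (φ : regPart p x → ℂ) v) ∧
      ∀ (r : (ZMod p)ˣ) (v : regPart p x), (ζ : G → ℂ) (x ^ (r : ZMod p).val * (v : G)) =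
        -(zc p (r * a : ZMod p) + zc p (-(r * a : ZMod p))) * (φ : regPart p x → ℂ) v := by
  obtain ⟨φ, hχ⟩ := h.exists_bset_of_not_dvd (not_dvd_of_lt (χ := ζ) (by omega))
  obtain ⟨Y, δ, m, sh⟩ := h.exists_shape φ
  have hd2 : charDegree (ζ : G → ℂ) + 2 ≤ p := by omega
  have hconst : ¬ ∀ j, h.dd φ ζ j = h.dd φ ζ 1 := fun hc =>
    hne (by rw [apply_self_of_const h hd2 hχ hc, Complex.norm_natCast])
  have hY : ζ ∈ Y := by
    by_contra hY
    have hX : ζ ∈ h.bset φ \ Y := Finset.mem_sdiff.2 ⟨hχ, hY⟩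
    exact hconst fun j => by rw [sh.dd_X ζ hX j, sh.dd_X ζ hX 1]
  set e := (cent x).relIndex (norm₁ x) with hedef
  set o := (h.orbitN φ).card with hodef
  set k := Nat.card (h.expGroup φ) with hkdef
  set f := charDegree (φ : regPart p x → ℂ) with hfdef
  have hok : o * k = e := h.card_orbitN φ
  have hedvd : e ∣ p - 1 := by
    have hker : (kHom h).ker = (cent x).subgroupOf (norm₁ x) := by
      ext n
      rw [MonoidHom.mem_ker, Subgroup.mem_subgroupOf]
      exact kHom_eq_one_iff h n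
    rw [hedef, Subgroup.relIndex, ← hker, Subgroup.index_ker,
      show p - 1 = Nat.card (ZMod p)ˣ by rw [Nat.card_eq_fintype_card, ZMod.card_units]]
    exact Subgroup.card_subgroup_dvd_card _
  have hcop : ∀ c, c ∣ p - 1 → c ∣ p - 2 → c = 1 := fun c h1 h2 => by
    have := Nat.dvd_sub h1 h2
    rw [show p - 1 - (p - 2) = 1 by omega] at this
    exact Nat.dvd_one.1 this
  have hk0 : 0 < k := Nat.card_pos
  have hkp : k ≤ p - 1 := Nat.le_of_dvd (by omega) (h.card_expGroup_dvd φ)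
  have hkne : k ≠ p - 1 := fun e1 => hconst fun j => by
    have hidx : (h.expGroup φ).index = 1 := by
      have := h.card_mul_index_expGroup φ
      rw [← hkdef, e1] at this
      exact Nat.eq_of_mul_eq_mul_left (by omega) (this.trans (mul_one _).symm)
    have h1 := h.sum_sub_sq φ j 1
    rw [if_pos (h.expGroup_eq_top_of_index_one hidx _)] at h1
    have h2 := (Finset.sum_eq_zero_iff_of_nonneg fun χ _ => sq_nonneg _).1 h1 ζ (Finset.mem_univ _)
    exact sub_eq_zero.1 (pow_eq_zero_iff two_ne_zero |>.1 h2)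
  have hdeg := degree_eq_colTot h (χ := ζ) (by omega) hχ
  rw [moved_emod h sh hY, hd] at hdeg
  have hδ : δ = -1 := by
    rcases sh.δ_sign with e1 | e1
    swap
    · exact e1
    exfalso
    rw [e1, if_pos rfl] at hdeg
    have h1 : p - 2 = o * f * k := by exact_mod_cast hdeg
    have he1 : e = 1 := hcop e hedvd ⟨f, by rw [h1, ← hok]; ring⟩
    exact hne (norm_eq_of_relIndex_one h he1 ζ hd2)
  rw [hδ, if_neg (by norm_num), ← hkdef, show (p : ℤ) - k = ((p - k : ℕ) : ℤ) by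
    rw [Nat.cast_sub (by omega)]] at hdeg
  have h1 : p - 2 = o * f * (p - k) := by exact_mod_cast hdeg
  have ho : o = 1 := hcop o ((Dvd.intro k hok).trans hedvd) ⟨f * (p - k), by rw [h1, mul_assoc]⟩
  rw [ho, one_mul] at h1
  have hk2 : 2 * k ≤ p - 1 := by
    obtain ⟨c, hc⟩ := h.card_expGroup_dvd φ
    rw [← hkdef] at hc
    rcases c with _ | _ | c
    · omega
    · omega
    · rw [hc, mul_comm 2 k]; exact Nat.mul_le_mul_left k (by omega)
  have hf : f = 1 := by
    have hf0 : 0 < f := CharTools.irr_degree_pos φ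
    by_contra hf1
    have : 2 * (p - k) ≤ f * (p - k) := Nat.mul_le_mul_right _ (by omega)
    omega
  rw [hf, one_mul] at h1
  have hk : k = 2 := by omega
  have he2 : e = 2 := by rw [← hok, ho, hk]
  have horb : h.orbitN φ = {φ} := by
    obtain ⟨ψ, hψ⟩ := Finset.card_eq_one.1 (hodef ▸ ho)
    have := h.mem_orbitN_self φ
    rw [hψ, Finset.mem_singleton] at this
    rw [hψ, this]
  obtain ⟨a, ha⟩ : ∃ a, h.dd φ ζ a ≠ 0 := h.mem_bset_iff.1 hχ
  have hav : h.dd φ ζ a = -1 := hδ ▸ (moved_dd h sh hY a).resolve_left ha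
  have hna : h.dd φ ζ (-a) = -1 := by
    have h1 := h.sum_sub_sq φ a (-a)
    rw [inv_neg, mul_neg, mul_inv_cancel, if_pos (neg_one_mem_expGroup h hk)] at h1
    have h2 := (Finset.sum_eq_zero_iff_of_nonneg fun χ _ => sq_nonneg _).1 h1 ζ (Finset.mem_univ _)
    rw [← sub_eq_zero.1 (pow_eq_zero_iff two_ne_zero |>.1 h2)]
    exact hav
  have hane : a ≠ -a := fun e1 => by
    have h' : ((2 : ℕ) : ZMod p) * (a : ZMod p) = 0 := by
      have := congrArg Units.val e1
      rw [Units.val_neg] at this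
      push_cast
      linear_combination this
    have h'' := (mul_eq_zero.1 h').resolve_right (Units.ne_zero a)
    rw [ZMod.natCast_eq_zero_iff] at h''
    have := Nat.le_of_dvd two_pos h''
    omega
  have hdd : ∀ j, h.dd φ ζ j = if j = a ∨ j = -a then -1 else 0 := by
    intro j
    by_cases hj : j = a ∨ j = -a
    · rw [if_pos hj]
      rcases hj with rfl | rfl
      exacts [hav, hna]
    rw [if_neg hj]
    refine (moved_dd h sh hY j).resolve_right fun e1 => ?_
    push Not at hj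
    have hs := sh.sum_Y ζ hY
    rw [← hkdef, hk, hδ, ← Finset.sum_sdiff (Finset.subset_univ {j, a, -a}),
      Finset.sum_insert (by simp [hj.1, hj.2]), Finset.sum_pair hane, e1, hδ, hav, hna] at hs
    have hle : ∑ i ∈ Finset.univ \ {j, a, -a}, h.dd φ ζ i ≤ 0 := by
      refine Finset.sum_nonpos fun i _ => ?_
      rcases moved_dd h sh hY i with e2 | e2 <;> rw [e2]
      rw [hδ]; norm_num
    push_cast at hs
    omega
  refine ⟨he2, φ, a, hχ, horb, hf, hk, hdd, fun v => ?_, fun r v => ?_⟩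
  · rw [apply_reg h (by omega) hχ v, horb, Finset.sum_singleton, moved_emod h sh hY, hδ,
      if_neg (by norm_num), ← hkdef, hk, Int.cast_sub, Nat.cast_sub (by omega : 2 ≤ p)]
    norm_num
  · rw [apply_sing h hχ r v, horb, Finset.sum_singleton]
    congr 1
    rw [← Finset.sum_subset (Finset.subset_univ {a, -a}) fun j _ hj => ?_, Finset.sum_pair hane,
      hdd a, hdd (-a), if_pos (Or.inl rfl), if_pos (Or.inr rfl), Units.val_neg, mul_neg]
    · push_cast; ring
    · rw [hdd j, if_neg (by simpa using hj), Int.cast_zero, zero_mul]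

end CfsgLib.ItoPrimeDegree
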