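import Cfsg.Agent.Lib.SmallOrder.InvolutionCount
import Cfsg.Agent.Lib.CharTools.Basic

/-!
A self-centralising Sylow subgroup of prime order whose normaliser acts as inversion: the characters
of non-zero weight form a star.
-/

set_option autoImplicit false
set_option linter.style.haveILetI false

open scoped ComplexConjugate

namespace CfsgLib.ItoPrimeDegree

open CfsgLib.SmallOrder

universe u

variable {G : Type u} [Group G] [Fintype G] {p : ℕ} [Fact p.Prime] {P : Sylow p G} (S : CSplit p P)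

/-- `ω ^ i + ω ^ (-i)` -/
noncomputable def cosSum (i : ZMod p) : ℂ := ZMod.stdAddChar i + ZMod.stdAddChar (-i)

theorem cosSum_neg (i : ZMod p) : cosSum (-i) = cosSum i := by
  rw [cosSum, cosSum, neg_neg, add_comm]

theorem cosSum_sq (i : ZMod p) : cosSum i * cosSum i = 2 + cosSum (2 * i) := by
  rw [cosSum, cosSum]
  have h : ∀ a b : ZMod p, (ZMod.stdAddChar a : ℂ) * ZMod.stdAddChar b = ZMod.stdAddChar (a + b) :=
    fun a b => (AddChar.map_add_eq_mul _ a b).symm
  simp only [add_mul, mul_add, h, add_neg_cancel, neg_add_cancel, AddChar.map_zero_eq_one,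
    show i + i = 2 * i by ring, show -i + -i = -(2 * i) by ring]
  ring

theorem cosSum_ne_two (hp : 2 < p) {i : ZMod p} (hi : i ≠ 0) : cosSum i ≠ 2 := by
  intro h
  have h1 : (ZMod.stdAddChar i : ℂ) * ZMod.stdAddChar (-i) = 1 := by
    rw [← AddChar.map_add_eq_mul, add_neg_cancel, AddChar.map_zero_eq_one]
  have h2 : ((ZMod.stdAddChar i : ℂ) - 1) * ((ZMod.stdAddChar i : ℂ) - 1) = 0 := by
    rw [cosSum] at h
    linear_combination (ZMod.stdAddChar i : ℂ) * h - h1
  have h3 : (ZMod.stdAddChar i : ℂ) = 1 := sub_eq_zero.1 (mul_self_eq_zero.1 h2)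
  exact hi (ZMod.injective_stdAddChar (h3.trans (AddChar.map_zero_eq_one _).symm))

include S in
theorem rmult_zero (χ : Cfsg.IrrCharacter G) : S.rmult χ 0 = 0 := by simp [CSplit.rmult]

/-- the values at the non-trivial powers from the weights -/
theorem apply_zpw (hV : Nat.card S.V = 1) (χ : Cfsg.IrrCharacter G) {i : ZMod p} (hi : i ≠ 0) :
    χ.1 (zpw S.z i) =
      ∑ u : (ZMod p)ˣ, (S.vec χ (QuotientGroup.mk u) : ℂ) * ZMod.stdAddChar (i * (u : ZMod p)) := by
  classical
  have hp : (p : ℂ) ≠ 0 := Nat.cast_ne_zero.2 (Fact.out : p.Prime).ne_zero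
  have hV1 : ∀ v : S.V, v = 1 := fun v => by
    have := Subgroup.card_eq_one.1 hV
    exact Subtype.ext (Subgroup.mem_bot.1 (this ▸ v.2))
  have hS : ∀ k : ZMod p, S.Ssum χ.1 k = χ.1 (zpw S.z k) := fun k => by
    rw [CSplit.Ssum, finsum_eq_single _ (1 : S.V) fun v hv => absurd (hV1 v) hv]
    simp
  have key : (p : ℂ) * ∑ j : ZMod p, (S.rmult χ j : ℂ) * ZMod.stdAddChar (i * j) =
      (p : ℂ) * χ.1 (zpw S.z i) := by
    rw [Finset.mul_sum]
    calc _ = ∑ j : ZMod p, ∑ k : ZMod p, χ.1 (zpw S.z k) *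
          ((ZMod.stdAddChar (j * (i - k)) : ℂ) - ZMod.stdAddChar (j * i)) := by
          refine Finset.sum_congr rfl fun j _ => ?_
          have h := S.rmult_spec χ j
          rw [hV, Nat.cast_one, mul_one] at h
          rw [← mul_assoc, h, Finset.sum_mul]
          refine Finset.sum_congr rfl fun k _ => ?_
          rw [hS, mul_assoc, sub_mul, one_mul, ← AddChar.map_add_eq_mul,
            show -(j * k) + i * j = j * (i - k) by ring, mul_comm i j]
      _ = ∑ k : ZMod p, χ.1 (zpw S.z k) * ((if i - k = 0 then (p : ℂ) else 0) - 0) := by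
          rw [Finset.sum_comm]
          refine Finset.sum_congr rfl fun k _ => ?_
          rw [← Finset.mul_sum, Finset.sum_sub_distrib, sum_stdAddChar, sum_stdAddChar, if_neg hi]
      _ = _ := by
          simp only [sub_zero, sub_eq_zero, mul_ite, mul_zero, Finset.sum_ite_eq, Finset.mem_univ,
            if_true]
          exact mul_comm _ _
  rw [← mul_left_cancel₀ hp key, ← Finset.add_sum_erase _ _ (Finset.mem_univ (0 : ZMod p)),
    rmult_zero S χ, Int.cast_zero, zero_mul, zero_add]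
  refine Finset.sum_bij' (fun j hj => Units.mk0 j (Finset.mem_erase.1 hj).1)
    (fun u _ => (u : ZMod p)) (fun j hj => Finset.mem_univ _)
    (fun u _ => Finset.mem_erase.2 ⟨Units.ne_zero u, Finset.mem_univ _⟩)
    (fun j hj => rfl) (fun u _ => Units.ext rfl) (fun j hj => ?_)
  rw [← S.rmult_eq_vec]
  rfl

/-- The characters of non-zero weight. -/
structure Star where
  /-- the common character -/
  σ : Cfsg.IrrCharacter G
  /-- the exceptional characters -/
  μ : S.Orb → Cfsg.IrrCharacter G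
  /-- the weight of `σ` -/
  ε : ℤ
  /-- the weight of the exceptional characters -/
  δ : ℤ
  hε : ε = 1 ∨ ε = -1
  hδ : δ = 1 ∨ δ = -1
  σ_ne : σ ≠ Char.principalIrr
  μ_ne : ∀ o, μ o ≠ Char.principalIrr
  μ_ne_σ : ∀ o, μ o ≠ σ
  inj : Function.Injective μ
  vec_σ : ∀ o, S.vec σ o = ε
  vec_μ : ∀ o, S.vec (μ o) o = δ
  vec_other : ∀ χ o, χ ≠ Char.principalIrr → χ ≠ σ → χ ≠ μ o → S.vec χ o = 0

theorem exists_pair_of_sum_sq_eq_two {ι : Type*} [DecidableEq ι] (s : Finset ι) (f : ι → ℤ)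
    (h : ∑ i ∈ s, f i * f i = 2) :
    ∃ a ∈ s, ∃ b ∈ s, a ≠ b ∧ (f a = 1 ∨ f a = -1) ∧ (f b = 1 ∨ f b = -1) ∧
      ∀ c ∈ s, c ≠ a → c ≠ b → f c = 0 := by
  have hnn : ∀ i ∈ s, 0 ≤ f i * f i := fun i _ => mul_self_nonneg _
  have hsmall : ∀ i ∈ s, f i = 0 ∨ f i = 1 ∨ f i = -1 := by
    intro i hi
    have h1 : f i * f i ≤ 2 := h ▸ Finset.single_le_sum hnn hi
    have h2 : -1 ≤ f i ∧ f i ≤ 1 := ⟨by nlinarith, by nlinarith⟩
    omega
  have hc : (s.filter fun i => f i ≠ 0).card = 2 := by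
    have h1 : ∑ i ∈ s, f i * f i = ∑ i ∈ s, (if f i ≠ 0 then (1 : ℤ) else 0) :=
      Finset.sum_congr rfl fun i hi => by rcases hsmall i hi with e | e | e <;> rw [e] <;> simp
    rw [h1, Finset.sum_boole] at h
    exact_mod_cast h
  obtain ⟨a, b, hab, he⟩ := Finset.card_eq_two.1 hc
  have ha : a ∈ s.filter fun i => f i ≠ 0 := he ▸ Finset.mem_insert_self _ _
  have hb : b ∈ s.filter fun i => f i ≠ 0 :=
    he ▸ Finset.mem_insert_of_mem (Finset.mem_singleton_self _)
  rw [Finset.mem_filter] at ha hb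
  refine ⟨a, ha.1, b, hb.1, hab, (hsmall a ha.1).resolve_left ha.2, (hsmall b hb.1).resolve_left hb.2,
    fun c hc hca hcb => ?_⟩
  by_contra hne
  have : c ∈ s.filter fun i => f i ≠ 0 := Finset.mem_filter.2 ⟨hc, hne⟩
  rw [he, Finset.mem_insert, Finset.mem_singleton] at this
  tauto

theorem exists_star (he : Nat.card S.act.range = 2) (hp : 5 ≤ p) : Nonempty (Star S) := by
  classical
  letI : Fintype S.Orb := Fintype.ofFinite _
  set one : Cfsg.IrrCharacter G := Char.principalIrr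
  set R : Finset (Cfsg.IrrCharacter G) := Finset.univ.erase one with hR
  have hd1 : Char.degree one.1 = 1 := CharTools.charDegree_principal (G := G)
  have hsplit : ∀ f : Cfsg.IrrCharacter G → ℤ, ∑ χ, f χ = f one + ∑ χ ∈ R, f χ := fun f =>
    (Finset.add_sum_erase _ _ (Finset.mem_univ one)).symm
  have hgram : ∀ o o' : S.Orb, ∑ χ ∈ R, S.vec χ o * S.vec χ o' = if o = o' then 2 else 1 := by
    intro o o'
    have h := S.vec_gram o o'
    rw [hsplit, S.vec_principal, S.vec_principal, he] at h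
    split_ifs at h ⊢ <;> push_cast at h <;> omega
  have hdeg : ∀ o : S.Orb, ∑ χ ∈ R, (Char.degree χ.1 : ℤ) * S.vec χ o = 1 := by
    intro o
    have h := S.vec_degree o
    rw [hsplit, S.vec_principal, hd1] at h
    push_cast at h
    omega
  have hsupp : ∀ o, ∃ a ∈ R, ∃ b ∈ R, a ≠ b ∧ (S.vec a o = 1 ∨ S.vec a o = -1) ∧
      (S.vec b o = 1 ∨ S.vec b o = -1) ∧ ∀ c ∈ R, c ≠ a → c ≠ b → S.vec c o = 0 := fun o =>
    exists_pair_of_sum_sq_eq_two R _ (by have := hgram o o; rwa [if_pos rfl] at this)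
  choose a ha b hb hab hva hvb hother using hsupp
  have hsum : ∀ o (f : Cfsg.IrrCharacter G → ℤ),
      ∑ χ ∈ R, f χ * S.vec χ o = f (a o) * S.vec (a o) o + f (b o) * S.vec (b o) o := by
    intro o f
    rw [← Finset.sum_subset (s₁ := {a o, b o}) (fun x hx => by
        rcases Finset.mem_insert.1 hx with rfl | hx
        · exact ha o
        · rw [Finset.mem_singleton.1 hx]; exact hb o)
      (fun x hx hx' => by
        rw [Finset.mem_insert, Finset.mem_singleton, not_or] at hx'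
        rw [hother o x hx hx'.1 hx'.2, mul_zero]), Finset.sum_pair (hab o)]
  have hval : ∀ o c, c ∈ R → S.vec c o = 0 ∨ S.vec c o = 1 ∨ S.vec c o = -1 := by
    intro o c hc
    by_cases h1 : c = a o
    · subst h1; exact Or.inr (hva o)
    by_cases h2 : c = b o
    · subst h2; exact Or.inr (hvb o)
    exact Or.inl (hother o c hc h1 h2)
  have hone : ∀ o o', o ≠ o' →
      S.vec (a o) o' * S.vec (a o) o + S.vec (b o) o' * S.vec (b o) o = 1 := by
    intro o o' hne
    have h := hgram o o'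
    rw [if_neg hne, Finset.sum_congr rfl fun χ _ => mul_comm (S.vec χ o) (S.vec χ o'),
      hsum o fun χ => S.vec χ o'] at h
    exact h
  have hcard : 2 * Fintype.card S.Orb = p - 1 := by
    have h := Subgroup.index_mul_card S.act.range
    rw [he, Subgroup.index_eq_card] at h
    rw [← Nat.card_eq_fintype_card (α := S.Orb)]
    have hu : Nat.card (ZMod p)ˣ = p - 1 := by rw [Nat.card_eq_fintype_card, ZMod.card_units]
    rw [hu] at h
    rw [mul_comm]; exact h
  obtain ⟨o1, o2, h12⟩ := Fintype.one_lt_card_iff.1 (show 1 < Fintype.card S.Orb by omega)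
  -- the common character of the first two
  obtain ⟨σ, μ1, hσR, hμ1R, hσμ, hσ1, hμ11, hσ2, hμ12, hoth1⟩ : ∃ σ μ1, σ ∈ R ∧ μ1 ∈ R ∧ σ ≠ μ1 ∧
      (S.vec σ o1 = 1 ∨ S.vec σ o1 = -1) ∧ (S.vec μ1 o1 = 1 ∨ S.vec μ1 o1 = -1) ∧
      S.vec σ o2 = S.vec σ o1 ∧ S.vec μ1 o2 = 0 ∧
      ∀ c ∈ R, c ≠ σ → c ≠ μ1 → S.vec c o1 = 0 := by
    have h := hone o1 o2 h12
    rcases hval o2 _ (ha o1) with h1 | h1 | h1 <;> rcases hval o2 _ (hb o1) with h2 | h2 | h2 <;>
      rcases hva o1 with h3 | h3 <;> rcases hvb o1 with h4 | h4 <;>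
      rw [h1, h2, h3, h4] at h <;> norm_num at h
    all_goals first
      | exact ⟨a o1, b o1, ha o1, hb o1, hab o1, hva o1, hvb o1, by rw [h1, h3], h2, hother o1⟩
      | exact ⟨b o1, a o1, hb o1, ha o1, (hab o1).symm, hvb o1, hva o1, by rw [h2, h4], h1,
          fun c hc h5 h6 => hother o1 c hc h6 h5⟩
  set ε := S.vec σ o1 with hε
  have hε0 : ε ≠ 0 := by omega
  -- every orbit has `σ` with the same weight
  have hall : ∀ o, S.vec σ o = ε ∧ ∃ μ ∈ R, μ ≠ σ ∧ (S.vec μ o = 1 ∨ S.vec μ o = -1) ∧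
      ∀ c ∈ R, c ≠ σ → c ≠ μ → S.vec c o = 0 := by
    have main : ∀ o, S.vec σ o ≠ 0 → ∃ μ ∈ R, μ ≠ σ ∧ (S.vec μ o = 1 ∨ S.vec μ o = -1) ∧
        ∀ c ∈ R, c ≠ σ → c ≠ μ → S.vec c o = 0 := by
      intro o h0
      by_cases h1 : σ = a o
      · exact ⟨b o, hb o, fun h => hab o (h1.symm.trans h.symm), hvb o,
          fun c hc h5 h6 => hother o c hc (h1 ▸ h5) h6⟩
      by_cases h2 : σ = b o
      · exact ⟨a o, ha o, fun h => h1 h.symm, hva o, fun c hc h5 h6 => hother o c hc h6 (h2 ▸ h5)⟩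
      exact absurd (hother o σ hσR h1 h2) h0
    obtain ⟨μ2, hμ2R, hμ2σ, hμ22, hoth2⟩ := main o2 (hσ2 ▸ hε0)
    have hμμ : μ1 ≠ μ2 := fun h => by rw [← h, hμ12] at hμ22; omega
    have hsum2 : ∀ (o : S.Orb) (x y : Cfsg.IrrCharacter G), x ∈ R → y ∈ R → x ≠ y →
        (∀ c ∈ R, c ≠ x → c ≠ y → S.vec c o = 0) → ∀ f : Cfsg.IrrCharacter G → ℤ,
        ∑ χ ∈ R, f χ * S.vec χ o = f x * S.vec x o + f y * S.vec y o := by
      intro o x y hx hy hxy h0 f
      rw [← Finset.sum_subset (s₁ := {x, y}) (fun w hw => by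
          rcases Finset.mem_insert.1 hw with rfl | hw
          · exact hx
          · rw [Finset.mem_singleton.1 hw]; exact hy)
        (fun w hw hw' => by
          rw [Finset.mem_insert, Finset.mem_singleton, not_or] at hw'
          rw [h0 w hw hw'.1 hw'.2, mul_zero]), Finset.sum_pair hxy]
    intro o
    by_cases h01 : o = o1
    · subst h01; exact ⟨hε.symm, main _ (hε ▸ hε0)⟩
    by_cases h02 : o = o2
    · subst h02; exact ⟨hσ2, main _ (hσ2 ▸ hε0)⟩
    have hA := hgram o o1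
    rw [if_neg h01, hsum2 o1 σ μ1 hσR hμ1R hσμ hoth1 fun χ => S.vec χ o] at hA
    have hB := hgram o o2
    rw [if_neg h02, hsum2 o2 σ μ2 hσR hμ2R hμ2σ.symm hoth2 fun χ => S.vec χ o, hσ2] at hB
    rcases hval o σ hσR with hσo | hσo
    · exfalso
      rw [hσo] at hA hB
      simp only [zero_mul, zero_add] at hA hB
      have h1 : S.vec μ1 o = S.vec μ1 o1 := by
        rcases hμ11 with h | h <;> rw [h] at hA ⊢ <;> omega
      have h2 : S.vec μ2 o = S.vec μ2 o2 := by
        rcases hμ22 with h | h <;> rw [h] at hB ⊢ <;> omega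
      have hzero : ∀ c ∈ R, c ≠ μ1 → c ≠ μ2 → S.vec c o = 0 := by
        intro c hc hc1 hc2
        have hg := hgram o o
        rw [if_pos rfl, ← Finset.add_sum_erase R _ hμ1R,
          ← Finset.add_sum_erase (R.erase μ1) _ (Finset.mem_erase.2 ⟨hμμ.symm, hμ2R⟩)] at hg
        have q1 : S.vec μ1 o * S.vec μ1 o = 1 := by rw [h1]; rcases hμ11 with h | h <;> rw [h] <;> rfl
        have q2 : S.vec μ2 o * S.vec μ2 o = 1 := by rw [h2]; rcases hμ22 with h | h <;> rw [h] <;> rfl
        refine mul_self_eq_zero.1 ((Finset.sum_eq_zero_iff_of_nonneg fun i _ => mul_self_nonneg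
          (S.vec i o)).1 (show ∑ i ∈ (R.erase μ1).erase μ2, S.vec i o * S.vec i o = 0 by omega) c
          (Finset.mem_erase.2 ⟨hc2, Finset.mem_erase.2 ⟨hc1, hc⟩⟩))
      have e1 := hdeg o1
      rw [hsum2 o1 σ μ1 hσR hμ1R hσμ hoth1 fun χ => (Char.degree χ.1 : ℤ)] at e1
      rw [← hε] at e1
      have e2 := hdeg o2
      rw [hsum2 o2 σ μ2 hσR hμ2R hμ2σ.symm hoth2 fun χ => (Char.degree χ.1 : ℤ), hσ2] at e2
      have e3 := hdeg o
      rw [hsum2 o μ1 μ2 hμ1R hμ2R hμμ hzero fun χ => (Char.degree χ.1 : ℤ), h1, h2] at e3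
      rcases hσ1 with hs | hs <;> rcases hμ11 with hx | hx <;> rcases hμ22 with hy | hy <;>
        rw [hs] at e1 e2 <;> rw [hx] at e1 e3 <;> rw [hy] at e2 e3 <;> omega
    · have hne : S.vec σ o ≠ 0 := by omega
      refine ⟨?_, main o hne⟩
      obtain ⟨μo, hμoR, hμoσ, hμoo, hotho⟩ := main o hne
      rw [← hε] at hA
      rcases hval o μ1 hμ1R with hx | hx | hx <;> rw [hx] at hA <;>
        rcases hμ11 with hy | hy <;> rcases hσ1 with hs | hs <;> rw [hy, hs] at hA <;>
        rcases hσo with hz | hz <;> rw [hz] at hA ⊢ <;> omega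
  choose hσall μ hμR hμσ hμv hμ0 using hall
  have hdμ : ∀ o, ε * (Char.degree σ.1 : ℤ) + S.vec (μ o) o * (Char.degree (μ o).1 : ℤ) = 1 := by
    intro o
    have h := hdeg o
    rw [← Finset.sum_subset (s₁ := {σ, μ o}) (fun w hw => by
        rcases Finset.mem_insert.1 hw with rfl | hw
        · exact hσR
        · rw [Finset.mem_singleton.1 hw]; exact hμR o)
      (fun w hw hw' => by
        rw [Finset.mem_insert, Finset.mem_singleton, not_or] at hw'
        rw [hμ0 o w hw hw'.1 hw'.2, mul_zero]), Finset.sum_pair (hμσ o).symm, hσall o] at h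
    linarith
  have hδ : ∀ o, S.vec (μ o) o = S.vec (μ o1) o1 := by
    intro o
    have h1 := hdμ o
    have h2 := hdμ o1
    have hp1 := Char.IsIrrCharacter.degree_pos (μ o).2
    have hp2 := Char.IsIrrCharacter.degree_pos (μ o1).2
    rcases hμv o with h | h <;> rcases hμv o1 with h' | h' <;> rw [h] at h1 ⊢ <;>
      rw [h'] at h2 ⊢ <;> omega
  refine ⟨⟨σ, μ, ε, S.vec (μ o1) o1, hσ1, hμv o1, (Finset.mem_erase.1 hσR).1,
    fun o => (Finset.mem_erase.1 (hμR o)).1, hμσ, ?_, hσall, hδ,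
    fun χ o h1 h2 h3 => hμ0 o χ (Finset.mem_erase.2 ⟨h1, Finset.mem_univ _⟩) h2 h3⟩⟩
  intro o o' h
  by_contra hne
  have hg := hgram o o'
  rw [if_neg hne, ← Finset.sum_subset (s₁ := {σ, μ o}) (fun w hw => by
      rcases Finset.mem_insert.1 hw with rfl | hw
      · exact hσR
      · rw [Finset.mem_singleton.1 hw]; exact hμR o)
    (fun w hw hw' => by
      rw [Finset.mem_insert, Finset.mem_singleton, not_or] at hw'
      rw [hμ0 o w hw hw'.1 hw'.2, zero_mul]), Finset.sum_pair (hμσ o).symm, hσall o, hσall o',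
    hδ o, h, hδ o'] at hg
  rcases hσ1 with hs | hs <;> rcases hμv o1 with hm | hm <;> rw [hs, hm] at hg <;> norm_num at hg

namespace Star

variable {S} (T : Star S)

open scoped Classical in
theorem sum_vec (o : S.Orb) (f : Cfsg.IrrCharacter G → ℂ) :
    ∑ χ, f χ * (S.vec χ o : ℂ) =
      -f Char.principalIrr + (T.ε : ℂ) * f T.σ + (T.δ : ℂ) * f (T.μ o) := by
  rw [← Finset.sum_subset (s₁ := {Char.principalIrr, T.σ, T.μ o}) (Finset.subset_univ _)
    (fun x _ hx => by
      simp only [Finset.mem_insert, Finset.mem_singleton, not_or] at hx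
      rw [T.vec_other x o hx.1 hx.2.1 hx.2.2, Int.cast_zero, mul_zero])]
  rw [Finset.sum_insert (by simp [T.σ_ne.symm, (T.μ_ne o).symm]),
    Finset.sum_insert (by simp [(T.μ_ne_σ o).symm]), Finset.sum_singleton, S.vec_principal,
    T.vec_σ, T.vec_μ]
  push_cast
  ring

theorem vec_μ_eq [DecidableEq S.Orb] (o o' : S.Orb) :
    S.vec (T.μ o) o' = if o = o' then T.δ else 0 := by
  split_ifs with h
  · subst h; exact T.vec_μ o
  · exact T.vec_other _ o' (T.μ_ne o) (T.μ_ne_σ o) fun e => h (T.inj e)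

theorem sum_units {i : ZMod p} (hi : i ≠ 0) :
    ∑ u : (ZMod p)ˣ, (ZMod.stdAddChar (i * (u : ZMod p)) : ℂ) = -1 := by
  classical
  have h := sum_stdAddChar (p := p) i
  rw [if_neg hi, ← Finset.add_sum_erase _ _ (Finset.mem_univ (0 : ZMod p)), zero_mul,
    AddChar.map_zero_eq_one] at h
  have h2 : ∑ u : (ZMod p)ˣ, (ZMod.stdAddChar (i * (u : ZMod p)) : ℂ) =
      ∑ j ∈ Finset.univ.erase (0 : ZMod p), (ZMod.stdAddChar (j * i) : ℂ) := by
    refine (Finset.sum_bij' (fun j hj => Units.mk0 j (Finset.mem_erase.1 hj).1)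
      (fun u _ => (u : ZMod p)) (fun j hj => Finset.mem_univ _)
      (fun u _ => Finset.mem_erase.2 ⟨Units.ne_zero u, Finset.mem_univ _⟩)
      (fun j hj => rfl) (fun u _ => Units.ext rfl) (fun j hj => ?_)).symm
    rw [mul_comm]; rfl
  rw [h2]
  linear_combination h

theorem σ_zpw (hV : Nat.card S.V = 1) {i : ZMod p} (hi : i ≠ 0) :
    T.σ.1 (zpw S.z i) = -(T.ε : ℂ) := by
  rw [apply_zpw S hV T.σ hi]
  simp only [T.vec_σ, ← Finset.mul_sum, sum_units hi]
  ring

theorem other_zpw (hV : Nat.card S.V = 1) {χ : Cfsg.IrrCharacter G} (h1 : χ ≠ Char.principalIrr)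
    (h2 : χ ≠ T.σ) (h3 : ∀ o, χ ≠ T.μ o) {i : ZMod p} (hi : i ≠ 0) : χ.1 (zpw S.z i) = 0 := by
  rw [apply_zpw S hV χ hi]
  exact Finset.sum_eq_zero fun u _ => by rw [T.vec_other χ _ h1 h2 (h3 _), Int.cast_zero, zero_mul]

theorem mk_eq_iff (he : Nat.card S.act.range = 2) (hp : 2 < p) (u v : (ZMod p)ˣ) :
    (QuotientGroup.mk u : S.Orb) = QuotientGroup.mk v ↔ v = u ∨ v = -u := by
  have h1 : (-1 : (ZMod p)ˣ) ≠ 1 := by
    intro h
    have h' : (((2 : ℕ)) : ZMod p) = 0 := by
      have := congrArg Units.val h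
      rw [Units.val_neg, Units.val_one] at this
      push_cast
      linear_combination -this
    rw [ZMod.natCast_eq_zero_iff] at h'
    exact absurd (Nat.le_of_dvd two_pos h') (by omega)
  have hmem : ∀ x : (ZMod p)ˣ, x ∈ S.act.range ↔ x = 1 ∨ x = -1 := by
    have hsq : ∀ x : (ZMod p)ˣ, x ∈ S.act.range → x = 1 ∨ x = -1 := by
      intro x hx
      have h2 : x ^ 2 = 1 := by
        have := pow_card_eq_one' (x := (⟨x, hx⟩ : S.act.range))
        rw [he] at this
        exact congrArg Subtype.val this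
      rcases sq_eq_one_iff.1 (show ((x : ZMod p)) ^ 2 = 1 by rw [← Units.val_pow_eq_pow_val, h2, Units.val_one])
        with h | h
      · exact Or.inl (Units.ext h)
      · exact Or.inr (Units.ext h)
    intro x
    refine ⟨hsq x, ?_⟩
    obtain ⟨g, hg, hg1⟩ : ∃ g ∈ S.act.range, g ≠ (1 : (ZMod p)ˣ) := by
      by_contra hc
      push Not at hc
      have : S.act.range = ⊥ := (Subgroup.eq_bot_iff_forall _).2 hc
      rw [this, Subgroup.card_bot] at he
      omega
    rintro (rfl | rfl)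
    · exact one_mem _
    · rcases hsq g hg with rfl | rfl
      · exact absurd rfl hg1
      · exact hg
  rw [QuotientGroup.eq, hmem]
  constructor
  · rintro (h | h)
    · exact Or.inl (by rw [← mul_one u, ← h, mul_inv_cancel_left])
    · exact Or.inr (by rw [← mul_inv_cancel_left u v, h, mul_neg, mul_one])
  · rintro (rfl | rfl)
    · exact Or.inl (inv_mul_cancel _)
    · exact Or.inr (by rw [mul_neg, inv_mul_cancel])

theorem μ_zpw (hV : Nat.card S.V = 1) (he : Nat.card S.act.range = 2) (hp : 2 < p) (u : (ZMod p)ˣ)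
    {i : ZMod p} (hi : i ≠ 0) :
    (T.μ (QuotientGroup.mk u)).1 (zpw S.z i) = (T.δ : ℂ) * cosSum (i * (u : ZMod p)) := by
  classical
  rw [apply_zpw S hV _ hi]
  have hne : u ≠ -u := fun h => by
    have h' : ((2 : ℕ) : ZMod p) * (u : ZMod p) = 0 := by
      have := congrArg Units.val h
      rw [Units.val_neg] at this
      push_cast
      linear_combination this
    have h'' := (mul_eq_zero.1 h').resolve_right (Units.ne_zero u)
    rw [ZMod.natCast_eq_zero_iff] at h''
    exact absurd (Nat.le_of_dvd two_pos h'') (by omega)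
  rw [← Finset.sum_subset (s₁ := {u, -u}) (Finset.subset_univ _) (fun x _ hx => by
    rw [T.vec_μ_eq, if_neg, Int.cast_zero, zero_mul]
    intro h
    rw [mk_eq_iff he hp] at h
    simp only [Finset.mem_insert, Finset.mem_singleton] at hx
    exact hx h), Finset.sum_pair hne, T.vec_μ_eq, T.vec_μ_eq, if_pos rfl,
    if_pos ((mk_eq_iff he hp u (-u)).2 (Or.inr rfl)), cosSum, Units.val_neg, mul_neg]
  ring

theorem degree_eq :
    ∀ o, (T.ε : ℤ) * (Char.degree T.σ.1 : ℤ) + T.δ * (Char.degree (T.μ o).1 : ℤ) = 1 := by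
  intro o
  have h := S.vec_degree o
  have h2 := T.sum_vec o fun χ => (Char.degree χ.1 : ℂ)
  have hd1 : Char.degree (Char.principalIrr : Cfsg.IrrCharacter G).1 = 1 :=
    CharTools.charDegree_principal (G := G)
  have h3 : ((∑ χ : Cfsg.IrrCharacter G, (Char.degree χ.1 : ℤ) * S.vec χ o : ℤ) : ℂ) = 0 := by
    rw [h, Int.cast_zero]
  push_cast at h3
  rw [h2, hd1, Nat.cast_one] at h3
  have : ((((T.ε : ℤ) * (Char.degree T.σ.1 : ℤ) + T.δ * (Char.degree (T.μ o).1 : ℤ)) : ℤ) : ℂ) =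
      ((1 : ℤ) : ℂ) := by push_cast; linear_combination h3
  exact_mod_cast this

theorem degree_modEq (hV : Nat.card S.V = 1) (χ : Cfsg.IrrCharacter G) :
    (Char.degree χ.1 : ZMod p) =
      (Nat.card S.act.range : ZMod p) * ((∑ᶠ o : S.Orb, S.vec χ o : ℤ) : ZMod p) := by
  rw [← S.tmult_cast]
  congr 1
  have h := S.sum_mult χ
  rw [hV, Nat.cast_one, one_mul] at h
  have hV1 : ∀ v : S.V, v = 1 := fun v =>
    Subtype.ext (Subgroup.mem_bot.1 (Subgroup.card_eq_one.1 hV ▸ v.2))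
  rw [CSplit.Ssum, finsum_eq_single _ (1 : S.V) fun v hv => absurd (hV1 v) hv,
    Subgroup.coe_one, mul_one, zpw_zero,
    ← Char.IsCharacter.degree_cast (Char.IsIrrCharacter.isCharacter χ.2)] at h
  exact_mod_cast h.symm

theorem degree_σ (hV : Nat.card S.V = 1) (he : Nat.card S.act.range = 2) :
    (Char.degree T.σ.1 : ZMod p) = -((T.ε : ℤ) : ZMod p) := by
  classical
  letI : Fintype S.Orb := Fintype.ofFinite _
  rw [degree_modEq hV, finsum_eq_sum_of_fintype]
  simp only [T.vec_σ, Finset.sum_const, Finset.card_univ, nsmul_eq_mul]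
  push_cast
  rw [← mul_assoc, ← Nat.cast_mul]
  have h : Nat.card S.act.range * Fintype.card S.Orb = p - 1 := by
    have h := Subgroup.index_mul_card S.act.range
    rw [Subgroup.index_eq_card] at h
    rw [← Nat.card_eq_fintype_card (α := S.Orb), mul_comm]
    rw [h, Nat.card_eq_fintype_card, ZMod.card_units]
  rw [h, Nat.cast_sub (Fact.out : p.Prime).one_le, ZMod.natCast_self]
  ring

theorem degree_μ (hV : Nat.card S.V = 1) (he : Nat.card S.act.range = 2) (o : S.Orb) :
    (Char.degree (T.μ o).1 : ZMod p) = 2 * ((T.δ : ℤ) : ZMod p) := by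
  classical
  rw [degree_modEq hV, finsum_eq_single _ o fun o' h => by rw [T.vec_μ_eq, if_neg (Ne.symm h)],
    T.vec_μ, he]
  norm_num

theorem degree_other (hV : Nat.card S.V = 1) {χ : Cfsg.IrrCharacter G}
    (h1 : χ ≠ Char.principalIrr) (h2 : χ ≠ T.σ) (h3 : ∀ o, χ ≠ T.μ o) :
    p ∣ Char.degree χ.1 := by
  rw [← ZMod.natCast_eq_zero_iff, degree_modEq hV, finsum_eq_zero_of_forall_eq_zero
    (fun o => T.vec_other χ o h1 h2 (h3 o)), Int.cast_zero, mul_zero]

/-- The relation between the values on a `p`-regular element. -/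
theorem regular (hV : Nat.card S.V = 1) (o : S.Orb) {y : G} (hy : ¬ p ∣ orderOf y) :
    -1 + (T.ε : ℂ) * T.σ.1 y + (T.δ : ℂ) * (T.μ o).1 y = 0 := by
  have hV1 : ∀ v : S.V, v = 1 := fun v =>
    Subtype.ext (Subgroup.mem_bot.1 (Subgroup.card_eq_one.1 hV ▸ v.2))
  have h := S.sum_mul_vec (fun χ => conj (χ.1 y)) 0 (fun i hi => by
    have hS : ∀ f : G → ℂ, S.Ssum f i = f (zpw S.z i) := fun f => by
      rw [CSplit.Ssum, finsum_eq_single _ (1 : S.V) fun v hv => absurd (hV1 v) hv]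
      simp
    simp only [hS]
    refine (Finset.sum_congr rfl fun χ _ => mul_comm _ _).trans ?_
    rw [sum_mul_conj_eq_card, Nat.cast_eq_zero]
    have : IsEmpty {g : G // g * zpw S.z i * g⁻¹ = y} := ⟨fun g => hy (by
      have hd : orderOf (zpw S.z i) ∣ p := by
        have := orderOf_pow_dvd (x := S.z) i.val
        rwa [S.hz] at this
      have hord : orderOf (zpw S.z i) = p := ((Nat.dvd_prime Fact.out).1 hd).resolve_left
        fun h1 => hi (zpw_injective S.hz (by rw [zpw_zero, orderOf_eq_one_iff.1 h1]))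
      have h5 := orderOf_injective (MulAut.conj g.1).toMonoidHom (MulAut.conj g.1).injective
        (zpw S.z i)
      rw [hord] at h5
      rw [← g.2]
      simpa using dvd_of_eq h5.symm)⟩
    exact Nat.card_of_isEmpty) o
  rw [neg_zero, zero_div, T.sum_vec, Char.principalIrr_apply, map_one] at h
  have h2 : conj (-1 + (T.ε : ℂ) * T.σ.1 y + (T.δ : ℂ) * (T.μ o).1 y) = 0 := by
    simp only [map_add, map_neg, map_one, map_mul, map_intCast]
    exact h
  exact (map_eq_zero _).1 h2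

end Star

end CfsgLib.ItoPrimeDegree
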